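import Cfsg.Agent.Lib.Recog.CentTwelve.Model
import Cfsg.Agent.Lib.Recog.Profile.Alt12
import Cfsg.Agent.Lib.Recog.Profile.Alt13

/-!
An alternating subgroup of degree twelve or thirteen containing the centralisers of `α` and of the
four-group of the first block is the whole group.
-/

set_option autoImplicit false
set_option linter.unusedSectionVars false
set_option maxRecDepth 20000

namespace CfsgLib.Recog.CentTwelve

open Equiv Subgroup
open CfsgLib.Recog.Profile (fixedPts)

universe u

variable {G : Type u} [Group G] [Finite G] {α : G}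

/-- An embedding of the twelve points used by the numbering. -/
structure Point (n : ℕ) where
  /-- the permutation of the larger set -/
  e : P12 →* Perm (Fin n)
  even : ∀ a, Perm.sign (e a) = Perm.sign a
  inj : Function.Injective e
  fix : fixedPts (e x0) + 4 = n ∧ fixedPts (e (x0 * x1)) + 8 = n ∧ fixedPts (e al) + 12 = n
  small : n < 16

theorem swap01 : (swap 0 1 : P12) * x0 = x0 * swap 0 1 ∧ (swap 0 1 : P12) * (x0 * x1) = x0 * x1 * swap 0 1 ∧
    (swap 0 1 : P12) * al = al * swap 0 1 ∧ Perm.sign (swap 0 1 : P12) = -1 := by decide +kernel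

theorem rep_facts : x0 * x1 ∈ C12 ∧ x0 * x0 = 1 ∧ x0 * x1 * (x0 * x1) = 1 ∧ al * al = 1 ∧
    x0 ≠ 1 ∧ x0 * x1 ≠ 1 ∧ al ≠ 1 ∧ ¬ Fpf x0 ∧ ¬ Fpf (x0 * x1) ∧ Fpf al := by decide +kernel

namespace Point

variable {n : ℕ} (P : Point n)

/-- The image in the alternating group. -/
def el (a : P12) (h : a ∈ C12) : alternatingGroup (Fin n) :=
  ⟨P.e a, Perm.mem_alternatingGroup.2 (by rw [P.even]; exact (mem_C12.1 h).1)⟩

theorem exists_rep {a : alternatingGroup (Fin n)} (ha : a * a = 1) (ha1 : a ≠ 1) :
    ∃ r, ∃ hr : r ∈ C12, (r = x0 ∨ r = x0 * x1 ∨ r = al) ∧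
      ∃ p : alternatingGroup (Fin n), p * P.el r hr * p⁻¹ = a := by
  have hsmall := P.small
  obtain ⟨hf0, hf1, hfa⟩ := P.fix
  obtain ⟨m1, s0, s1, sa, -, -, -, -, -, -⟩ := rep_facts
  obtain ⟨c0, c1, ca, cs⟩ := swap01
  have key : ∀ r, ∀ hr : r ∈ C12, r * r = 1 → swap 0 1 * r = r * swap 0 1 →
      fixedPts (a : Perm (Fin n)) = fixedPts (P.e r) →
      ∃ p : alternatingGroup (Fin n), p * P.el r hr * p⁻¹ = a := by
    intro r hr h2 hc hf
    obtain ⟨p, hp⟩ := Profile.exists_even_conj (x := P.e r) (t := P.e (swap 0 1))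
      (by rw [← map_mul, h2, map_one]) (congrArg Subtype.val ha) hf.symm (by rw [P.even]; exact cs)
      ((show Commute (swap 0 1 : P12) r from hc).map P.e)
    exact ⟨p, Subtype.ext hp⟩
  rcases Profile.fixedPts_cases (Perm.mem_alternatingGroup.1 a.2) (congrArg Subtype.val ha)
    (fun e => ha1 (Subtype.ext e)) hsmall with h | h | h
  · exact ⟨x0, named_mem.1, Or.inl rfl, key x0 _ s0 c0 (by omega)⟩
  · exact ⟨x0 * x1, m1, Or.inr (Or.inl rfl), key _ _ s1 c1 (by omega)⟩
  · exact ⟨al, al_mem, Or.inr (Or.inr rfl), key _ _ sa ca (by omega)⟩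

/-- The data of the closing engine. -/
def altData {S : Setting α} (Q : AltPat S) (φ : alternatingGroup (Fin n) →* G)
    (hinj : Function.Injective φ) (hφ : ∀ a (h : a ∈ C12), φ (P.el a h) = S.f a) :
    Profile.AltData G n α where
  φ := φ
  inj := hinj
  a0 := P.el al al_mem
  a0_map := (hφ al al_mem).trans S.f_al
  a0_invol := Subtype.ext (show P.e al * P.e al = 1 by rw [← map_mul, rep_facts.2.2.2.1, map_one])
  a0_ne := fun h => rep_facts.2.2.2.2.2.2.1 (P.inj (by
    rw [map_one]; exact congrArg Subtype.val h))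
  a0_odd := ⟨P.e (swap 0 1), by rw [P.even]; exact swap01.2.2.2,
    (show Commute (swap 0 1 : P12) al from swap01.2.2.1).map P.e⟩
  cent := fun g hg => by
    obtain ⟨a, ha, rfl⟩ := S.surj g hg
    exact ⟨P.el a ha, hφ a ha⟩
  sep := by
    obtain ⟨m1, s0, s1, sa, n0, n1, na, f0, f1, fa⟩ := rep_facts
    have hal : IsConj α (S.f al) := by rw [S.f_al]
    have h0 : ¬ IsConj α (S.f x0) := fun h => f0 ((Q.fus x0 named_mem.1 s0 n0).1 h)
    have h1 : ¬ IsConj α (S.f (x0 * x1)) := fun h => f1 ((Q.fus _ m1 s1 n1).1 h)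
    intro a b ha hb hab
    by_cases ha1 : a = 1
    · obtain ⟨c, hc⟩ := isConj_iff.1 hab
      rw [ha1, map_one, mul_one, mul_inv_cancel] at hc
      rw [ha1, hinj (hc.symm.trans (map_one φ).symm)]
    by_cases hb1 : b = 1
    · obtain ⟨c, hc⟩ := isConj_iff.1 hab
      rw [hb1, map_one, conj_eq_one_iff] at hc
      exact absurd (hinj (hc.trans (map_one φ).symm)) ha1
    obtain ⟨r, hr, hrc, p, rfl⟩ := P.exists_rep ha ha1
    obtain ⟨r', hr', hrc', p', rfl⟩ := P.exists_rep hb hb1
    have hconj : ∀ (c : alternatingGroup (Fin n)) (r : P12) (hr : r ∈ C12),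
        IsConj (S.f r) (φ (c * P.el r hr * c⁻¹)) := fun c r hr =>
      isConj_iff.2 ⟨φ c, by rw [map_mul, map_mul, map_inv, hφ r hr]⟩
    have hrr : IsConj (S.f r) (S.f r') := ((hconj p r hr).trans hab).trans (hconj p' r' hr').symm
    have hfix : ∀ (c : alternatingGroup (Fin n)) (r : P12) (hr : r ∈ C12), r = x0 ∨ r = x0 * x1 ∨ r = al →
        fixedPts ((c * P.el r hr * c⁻¹ : alternatingGroup (Fin n)) : Perm (Fin n)) = fixedPts (P.e r) := by
      intro c r hr _
      have e1 := Profile.fixedPts_add_support ((c * P.el r hr * c⁻¹ : alternatingGroup (Fin n)) : Perm (Fin n))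
      have e2 := Profile.fixedPts_add_support (P.e r)
      have e3 : ((c * P.el r hr * c⁻¹ : alternatingGroup (Fin n)) : Perm (Fin n)).support.card =
          (P.e r).support.card := Perm.card_support_conj
      omega
    rw [hfix p r hr hrc, hfix p' r' hr' hrc']
    rcases hrc with rfl | rfl | rfl <;> rcases hrc' with rfl | rfl | rfl
    · rfl
    · exact absurd hrr Q.sep
    · exact absurd (hal.trans hrr.symm) h0
    · exact absurd hrr.symm Q.sep
    · rfl
    · exact absurd (hal.trans hrr.symm) h1
    · exact absurd (hal.trans hrr) h0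
    · exact absurd (hal.trans hrr) h1
    · rfl

end Point

/-- The twelve points themselves. -/
def point12 : Point 12 where
  e := MonoidHom.id _
  even := fun _ => rfl
  inj := fun _ _ h => h
  fix := by decide +kernel
  small := by norm_num

/-- The first twelve of thirteen points. -/
def first12 : Fin 12 ≃ {i : Fin 13 // i.val < 12} where
  toFun i := ⟨i.castSucc, i.2⟩
  invFun j := ⟨j.1.val, j.2⟩
  left_inv _ := rfl
  right_inv _ := rfl

/-- Thirteen points. -/
def point13 : Point 13 where
  e := Perm.extendDomainHom first12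
  even := fun a => Perm.sign_extendDomain a first12
  inj := Perm.extendDomainHom_injective first12
  fix := by decide +kernel
  small := by norm_num

theorem point13_castSucc (a : P12) (i : Fin 12) : point13.e a i.castSucc = (a i).castSucc :=
  Perm.extendDomain_apply_image a first12 i

/-- The closing step in degree twelve. -/
theorem top_of_alt12 {S : Setting α} (Q : AltPat S) (φ : alternatingGroup (Fin 12) →* G)
    (hinj : Function.Injective φ)
    (hφ : ∀ a (h : a ∈ C12), φ ⟨a, Perm.mem_alternatingGroup.2 (mem_C12.1 h).1⟩ = S.f a)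
    (hV : centralizer ({S.f x0, S.f y0} : Set G) ≤ φ.range) : φ.range = ⊤ := by
  have ha : ((point12.el al al_mem : alternatingGroup (Fin 12)) : Perm (Fin 12)) = Profile.Alt12.a0 := by
    decide +kernel
  have hφ' : ∀ a (h : a ∈ C12), φ (point12.el a h) = S.f a := hφ
  refine Profile.Alt12.eq_top (point12.altData Q φ hinj hφ') (Subtype.ext ha) fun g hg => hV ?_
  rw [mem_centralizer_iff]
  rintro x (rfl | rfl)
  · have e := (hg _ List.mem_cons_self).eq.symm
    rwa [show (Profile.evenOf (n := 12) [((0, 1), (2, 3))]) = point12.el x0 named_mem.1 from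
      Subtype.ext (by decide +kernel), show (point12.altData Q φ hinj hφ').φ = φ from rfl, hφ' _ named_mem.1] at e
  · have e := (hg _ (List.mem_cons_of_mem _ List.mem_cons_self)).eq.symm
    rwa [show (Profile.evenOf (n := 12) [((0, 2), (1, 3))]) = point12.el y0 named_mem.2.1 from
      Subtype.ext (by decide +kernel), show (point12.altData Q φ hinj hφ').φ = φ from rfl, hφ' _ named_mem.2.1] at e

/-- The closing step in degree thirteen. -/
theorem top_of_alt13 {S : Setting α} (Q : AltPat S) (φ : alternatingGroup (Fin 13) →* G)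
    (hinj : Function.Injective φ)
    (hφ : ∀ a ∈ C12, ∀ b : alternatingGroup (Fin 13),
      (∀ i : Fin 12, (b : Perm (Fin 13)) i.castSucc = (a i).castSucc) → φ b = S.f a)
    (hV : centralizer ({S.f x0, S.f y0} : Set G) ≤ φ.range) : φ.range = ⊤ := by
  have hφ' : ∀ a (h : a ∈ C12), φ (point13.el a h) = S.f a := fun a h =>
    hφ a h _ fun i => point13_castSucc a i
  have ha : ((point13.el al al_mem : alternatingGroup (Fin 13)) : Perm (Fin 13)) = Profile.Alt13.a0 := by
    decide +kernel
  refine Profile.Alt13.eq_top (point13.altData Q φ hinj hφ') (Subtype.ext ha) fun g hg => hV ?_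
  rw [mem_centralizer_iff]
  rintro x (rfl | rfl)
  · have e := (hg _ List.mem_cons_self).eq.symm
    rwa [show (Profile.evenOf (n := 13) [((0, 1), (2, 3))]) = point13.el x0 named_mem.1 from
      Subtype.ext (by decide +kernel), show (point13.altData Q φ hinj hφ').φ = φ from rfl, hφ' _ named_mem.1] at e
  · have e := (hg _ (List.mem_cons_of_mem _ List.mem_cons_self)).eq.symm
    rwa [show (Profile.evenOf (n := 13) [((0, 2), (1, 3))]) = point13.el y0 named_mem.2.1 from
      Subtype.ext (by decide +kernel), show (point13.altData Q φ hinj hφ').φ = φ from rfl, hφ' _ named_mem.2.1] at e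

end CfsgLib.Recog.CentTwelve
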