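import Cfsg.Agent.Lib.Recog.CentTwelve.AltExtend
import Cfsg.Agent.Lib.Recog.CentTwelve.Close

/-!
The alternating groups of degree twelve and thirteen from their fusion pattern.
-/

set_option autoImplicit false
set_option maxRecDepth 100000

namespace CfsgLib.Recog.CentTwelve

open Equiv Subgroup CfsgLib.Recog.QSThree

universe u

variable {G : Type u} [Group G] [Finite G] {α : G} {S : Setting α}

/-- The pattern of the alternating groups forces one of them. -/
theorem alt_case (P : AltPat S) :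
    Nonempty (G ≃* alternatingGroup (Fin 12)) ∨ Nonempty (G ≃* alternatingGroup (Fin 13)) := by
  obtain ⟨g, hg⟩ := P.theta
  rcases chart_cases P hg with ⟨C, hC⟩ | ⟨C, hC⟩
  · obtain ⟨g', C', hg', hC', he⟩ := exists_tuned P hg C (MonoidHom.id _) hC
    obtain ⟨φ, hinj, hag, hsh, -⟩ := exists_twelve P hg' C'.ψ hC' he
    have hV : centralizer {S.f x0, S.f y0} ≤ φ.range := fun c hc => by
      obtain ⟨a, v, hv, rfl⟩ := C'.cover c hc
      exact mul_mem ⟨sh8 a, hsh a⟩ ⟨_, hag v hv.facts.1⟩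
    have htop := top_of_alt12 P φ hinj hag hV
    exact Or.inl ⟨(MulEquiv.ofBijective φ ⟨hinj, MonoidHom.range_eq_top.1 htop⟩).symm⟩
  · obtain ⟨g', C', hg', hC', he⟩ := exists_tuned P hg C inc9 hC
    obtain ⟨φ, -, hag, hsh, hth⟩ := exists_twelve P hg' (C'.ψ.comp inc9) hC' he
    obtain ⟨φ', hinj, hag', hV⟩ := exists_thirteen hg' C' φ hag hsh hth
    have htop := top_of_alt13 P φ' hinj hag' hV
    exact Or.inr ⟨(MulEquiv.ofBijective φ' ⟨hinj, MonoidHom.range_eq_top.1 htop⟩).symm⟩

end CfsgLib.Recog.CentTwelve
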