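import Cfsg.Agent.Lib.Recog.CentTwelve.AltLift

/-!
The centraliser of the block four-group is that group times a fixed `A₈` or `A₉`.
-/

set_option autoImplicit false
set_option maxRecDepth 100000

namespace CfsgLib.Recog.CentTwelve

open Equiv Subgroup CfsgLib.Recog.QSThree CfsgLib.InvChar.Coset

universe u

variable {G : Type u} [Group G] {α : G} {S : Setting α} {g : G}

/-- The first eight of nine points. -/
def low9 : Fin 8 ≃ {i : Fin 9 // i.val < 8} where
  toFun k := ⟨k.castSucc, k.isLt⟩
  invFun i := ⟨i.1.val, i.2⟩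
  left_inv _ := rfl
  right_inv _ := rfl

/-- `A₈` inside `A₉`. -/
def inc9 : alternatingGroup (Fin 8) →* alternatingGroup (Fin 9) :=
  ((Perm.extendDomainHom low9).comp (alternatingGroup (Fin 8)).subtype).codRestrict
    (alternatingGroup (Fin 9)) fun a => by
      rw [Perm.mem_alternatingGroup]
      show Perm.sign (Perm.extendDomain (a : Perm (Fin 8)) low9) = 1
      rw [Perm.sign_extendDomain]
      exact Perm.mem_alternatingGroup.1 a.2

theorem inc9_g8 : ∀ i : Fin 6, inc9 (Alt.g8 i) = Alt.g9 i.castSucc := by decide +kernel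

/-- A homomorphism onto a complement of the four-group in its centraliser. -/
structure Chart (S : Setting α) (g : G) (n : ℕ) where
  /-- the map -/
  ψ : alternatingGroup (Fin n) →* G
  inj : Function.Injective ψ
  mem : ∀ a, ψ a ∈ CV S
  fixed : ∀ a, g * ψ a * g⁻¹ = ψ a
  cover : ∀ c ∈ CV S, ∃ a v, Blk v ∧ c = ψ a * S.f v

theorem exists_chart_of_equiv (hg : Theta S g) {n : ℕ} (Φ : alternatingGroup (Fin n) →* XV S)
    (hΦ : Function.Bijective Φ) (hfix : ∀ a, thQ hg (Φ a) = Φ a) :
    ∃ C : Chart S g n, ∀ a, cls S (C.ψ a) = Φ a := by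
  classical
  choose c hc hcf hcl using fun a => exists_lift hg (hfix a)
  have hmul : ∀ a b, c (a * b) = c a * c b := fun a b => by
    refine lift_unique hg (hc _) (mul_mem (hc a) (hc b)) (hcf _) ?_ ?_
    · calc g * (c a * c b) * g⁻¹ = g * c a * g⁻¹ * (g * c b * g⁻¹) := by group
        _ = c a * c b := by rw [hcf a, hcf b]
    · rw [hcl, map_mul, cls_mul S (hc a) (hc b), hcl, hcl]
  refine ⟨⟨MonoidHom.mk' c hmul, fun a b h => hΦ.1 ?_, hc, hcf, fun x hx => ?_⟩, hcl⟩
  · rw [← hcl a, ← hcl b]; exact congrArg (cls S) h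
  · obtain ⟨a, ha⟩ := hΦ.2 (cls S x)
    obtain ⟨v, hv, e⟩ := (cls_eq_iff S (hc a) hx).1 ((hcl a).trans ha)
    exact ⟨a, v, hv, e⟩

variable (P : AltPat S)
include P

/-- The two cases, with the numbered elements in their places. -/
theorem chart_cases [Finite G] (hg : Theta S g) :
    (∃ C : Chart S g 8, ∀ i < 192, C.ψ (Alt.nm i) = S.f (emb i)) ∨
      ∃ C : Chart S g 9, ∀ i < 192, C.ψ (inc9 (Alt.nm i)) = S.f (emb i) := by
  classical
  obtain ⟨E⟩ := exists_embV P hg
  have h8 : Nat.card (alternatingGroup (Fin 8)) = 20160 := by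
    rw [nat_card_alternatingGroup, Nat.card_fin]; rfl
  have h9 : Nat.card (alternatingGroup (Fin 9)) = 181440 := by
    rw [nat_card_alternatingGroup, Nat.card_fin]; rfl
  have place : ∀ {n : ℕ} (C : Chart S g n) (b : alternatingGroup (Fin n)) (i : ℕ), i < 192 →
      cls S (C.ψ b) = (dataV P).el i → C.ψ b = S.f (emb i) := fun C b i hi e =>
    lift_unique hg (C.mem b) (emb_mem_CV S hi) (C.fixed b) (emb_fixed P hg hi) e
  rcases (Alt.Emb.cent_Q E).cases E.card_Q_gt with ⟨h12, -⟩ | h60
  · obtain ⟨e⟩ := E.equiv_eight h12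
    have hcard := (Nat.card_congr e.toEquiv).trans h8
    obtain ⟨C, hC⟩ := exists_chart_of_equiv hg E.α
      (E.inj.bijective_of_nat_card_le (by rw [hcard, h8])) (thQ_map P hg E)
    refine Or.inl ⟨C, fun i hi => place C _ i hi ?_⟩
    rw [hC, E.map_nm i hi]
  · obtain ⟨K⟩ := E.exists_ninth h60
    let x : Fin 7 → XV S := Fin.snoc (fun i : Fin 6 => E.α (Alt.g8 i)) K.om
    have hxc : ∀ i : Fin 6, x i.castSucc = E.α (Alt.g8 i) := fun i => Fin.snoc_castSucc _ _ i
    have hxl : x (Fin.last 6) = K.om := Fin.snoc_last _ _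
    have hx3 : ∀ i, x i ^ 3 = 1 := fun i => by
      induction i using Fin.lastCases with
      | last => rw [hxl, Alt.Emb.Ninth.om_cube K]
      | cast i => rw [hxc, ← map_pow, Alt.g8_rel.1, map_one]
    have hx2 : ∀ i j, i ≠ j → x i * x j * (x i * x j) = 1 := fun i j hij => by
      induction i using Fin.lastCases with
      | last =>
        induction j using Fin.lastCases with
        | last => exact absurd rfl hij
        | cast j =>
          rw [hxl, hxc]
          calc K.om * E.α (Alt.g8 j) * (K.om * E.α (Alt.g8 j))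
              = K.om * (E.α (Alt.g8 j) * K.om * (E.α (Alt.g8 j) * K.om)) * K.om⁻¹ := by group
            _ = 1 := by rw [K.om_rel j]; group
      | cast i =>
        induction j using Fin.lastCases with
        | last => rw [hxl, hxc]; exact K.om_rel i
        | cast j =>
          rw [hxc, hxc, ← map_mul, ← map_mul,
            Alt.g8_rel.2 i j (fun e => hij (congrArg Fin.castSucc e)), map_one]
    obtain ⟨Φ, hΦ⟩ := Alt.exists_hom_carmichael 7 Alt.g9 Alt.g9_rel.1 Alt.g9_rel.2 Alt.closure_g9
      x hx3 hx2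
    have hΦ8 : Φ.comp inc9 = E.α := by
      refine MonoidHom.eq_of_eqOn_dense Alt.closure_g8 ?_
      rintro _ ⟨i, rfl⟩
      rw [MonoidHom.comp_apply, inc9_g8, hΦ, hxc]
    haveI : IsSimpleGroup (alternatingGroup (Fin 9)) := alternatingGroup.isSimpleGroup (by simp)
    have hinj : Function.Injective Φ := by
      rcases Φ.normal_ker.eq_bot_or_eq_top with h | h
      · exact (MonoidHom.ker_eq_bot_iff _).1 h
      · exfalso
        have hm : Φ (inc9 Alt.eC) = 1 := by
          rw [← MonoidHom.mem_ker, h]; exact mem_top _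
        rw [← MonoidHom.comp_apply, hΦ8] at hm
        exact absurd (E.inj (hm.trans (map_one _).symm)) (by decide +kernel)
    obtain ⟨e⟩ := K.equiv_nine
    have hcard := (Nat.card_congr e.toEquiv).trans h9
    have hfix : ∀ a, thQ hg (Φ a) = Φ a := by
      have hgen : (thQ hg).comp Φ = Φ := by
        refine MonoidHom.eq_of_eqOn_dense Alt.closure_g9 ?_
        rintro _ ⟨i, rfl⟩
        rw [MonoidHom.comp_apply, hΦ]
        induction i using Fin.lastCases with
        | last => rw [hxl, thQ_om P hg K]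
        | cast i => rw [hxc, thQ_map P hg E]
      exact fun a => DFunLike.congr_fun hgen a
    obtain ⟨C, hC⟩ := exists_chart_of_equiv hg Φ
      (hinj.bijective_of_nat_card_le (by rw [hcard, h9])) hfix
    refine Or.inr ⟨C, fun i hi => place C _ i hi ?_⟩
    rw [hC, ← MonoidHom.comp_apply, hΦ8, E.map_nm i hi]

end CfsgLib.Recog.CentTwelve
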