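import Cfsg.Agent.Lib.Recog.CentTwelve.Model

/-!
Elements of the centraliser commuting with the three blocks, and generators of the point stabiliser of
the first block.
-/

set_option autoImplicit false
set_option maxRecDepth 20000

namespace CfsgLib.Recog.CentTwelve

open Equiv Subgroup

/-- The double transposition on the third and fifth pair inside the pairs. -/
def er : P12 := swap 4 5 * swap 8 9

/-- The three cycle of the third, fourth and fifth pair. -/
def cy : P12 := (swap 4 6 * swap 5 7) * (swap 6 8 * swap 7 9)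

/-- The interchange of two flips. -/
def q01 : P12 := swap 0 1 * swap 4 5

/-- The element of a regular four-group on a block with given image of the first point. -/
def blk (x y : P12) (j : Fin 4) : P12 := [1, x, y, x * y].getD j.val 1

/-- The elements of the elementary group of the three blocks. -/
def dEl (i : Fin 4 × Fin 4 × Fin 4) : P12 := blk x0 y0 i.1 * blk x1 y1 i.2.1 * blk x2 y2 i.2.2

theorem er_mem : er ∈ C12 := by decide +kernel
theorem cy_mem : cy ∈ C12 := by decide +kernel
theorem q01_mem : q01 ∈ C12 := by decide +kernel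

theorem dEl_mem : ∀ i, dEl i ∈ D12 := by decide +kernel

/-- Values on the first point of each block determine an element commuting with the three blocks. -/
theorem exists_dEl {a : P12} (h1 : x0 * a = a * x0) (h2 : y0 * a = a * y0) (h3 : x1 * a = a * x1)
    (h4 : y1 * a = a * y1) (h5 : x2 * a = a * x2) (h6 : y2 * a = a * y2) : ∃ i, dEl i = a := by
  have hc : ∀ {p : P12}, p * a = a * p → ∀ k, a (p k) = p (a k) := fun h k =>
    (congrArg (fun q : P12 => q k) h).symm
  have hm : ∀ {p : P12} {k : Fin 12}, p * a = a * p → p k ≠ k → p (a k) ≠ a k := fun h hk e =>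
    hk (a.injective ((hc h _).trans e))
  have f0 : ∀ j : Fin 12, x0 j ≠ j → ∃ i : Fin 4, blk x0 y0 i 0 = j := by decide +kernel
  have f1 : ∀ j : Fin 12, x1 j ≠ j → ∃ i : Fin 4, blk x1 y1 i 4 = j := by decide +kernel
  have f2 : ∀ j : Fin 12, x2 j ≠ j → ∃ i : Fin 4, blk x2 y2 i 8 = j := by decide +kernel
  obtain ⟨i0, e0⟩ := f0 _ (hm h1 (show x0 0 ≠ (0 : Fin 12) by decide +kernel))
  obtain ⟨i1, e1⟩ := f1 _ (hm h3 (show x1 4 ≠ (4 : Fin 12) by decide +kernel))
  obtain ⟨i2, e2⟩ := f2 _ (hm h5 (show x2 8 ≠ (8 : Fin 12) by decide +kernel))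
  refine ⟨(i0, i1, i2), Equiv.ext fun k => ?_⟩
  have key : ∀ i0 i1 i2 : Fin 4, dEl (i0, i1, i2) 0 = blk x0 y0 i0 0 ∧
      dEl (i0, i1, i2) 4 = blk x1 y1 i1 4 ∧ dEl (i0, i1, i2) 8 = blk x2 y2 i2 8 := by decide +kernel
  obtain ⟨k0, k1, k2⟩ := key i0 i1 i2
  have g0 : dEl (i0, i1, i2) 0 = a 0 := k0.trans e0
  have g1 : dEl (i0, i1, i2) 4 = a 4 := k1.trans e1
  have g2 : dEl (i0, i1, i2) 8 = a 8 := k2.trans e2
  have hd := (mem_D12.1 (dEl_mem (i0, i1, i2))).2
  have hd' : ∀ {p : P12}, p * dEl (i0, i1, i2) = dEl (i0, i1, i2) * p →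
      ∀ k, dEl (i0, i1, i2) (p k) = p (dEl (i0, i1, i2) k) := fun h k =>
    (congrArg (fun q : P12 => q k) h).symm
  have step : ∀ (p : P12) (k l : Fin 12), p * a = a * p → p * dEl (i0, i1, i2) = dEl (i0, i1, i2) * p →
      p k = l → dEl (i0, i1, i2) k = a k → dEl (i0, i1, i2) l = a l := by
    intro p k l hp hp' e h
    rw [← e, hd' hp', hc hp, h]
  obtain ⟨d1, d2, d3, d4, d5, d6⟩ := hd
  have p1 := step x0 0 1 h1 d1 (by decide +kernel) g0
  have p2 := step y0 0 2 h2 d2 (by decide +kernel) g0
  have p3 := step y0 1 3 h2 d2 (by decide +kernel) p1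
  have p5 := step x1 4 5 h3 d3 (by decide +kernel) g1
  have p6 := step y1 4 6 h4 d4 (by decide +kernel) g1
  have p7 := step y1 5 7 h4 d4 (by decide +kernel) p5
  have p9 := step x2 8 9 h5 d5 (by decide +kernel) g2
  have p10 := step y2 8 10 h6 d6 (by decide +kernel) g2
  have p11 := step y2 9 11 h6 d6 (by decide +kernel) p9
  fin_cases k <;> assumption

theorem mem_D_of_commute {a : P12} (h1 : x0 * a = a * x0) (h2 : y0 * a = a * y0) (h3 : x1 * a = a * x1)
    (h4 : y1 * a = a * y1) (h5 : x2 * a = a * x2) (h6 : y2 * a = a * y2) : a ∈ D12 := by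
  obtain ⟨i, rfl⟩ := exists_dEl h1 h2 h3 h4 h5 h6
  exact dEl_mem i

/-- The centraliser of a regular group of eight points which needs no element permuting the pairs. -/
theorem commute_blocks_of_regular {a : P12} (h3 : x1 * a = a * x1) (h5 : x2 * a = a * x2)
    (he : er * a = a * er) (hb : b12 * a = a * b12) (hy : y1 * y2 * a = a * (y1 * y2)) :
    y1 * a = a * y1 ∧ y2 * a = a * y2 := by
  have hc : ∀ {p : P12}, p * a = a * p → ∀ k, a (p k) = p (a k) := fun h k =>
    (congrArg (fun q : P12 => q k) h).symm
  have hm : x1 (a 4) ≠ a 4 := fun e =>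
    (show x1 4 ≠ (4 : Fin 12) by decide +kernel) (a.injective ((hc h3 4).trans e))
  have hm' : er (a 4) ≠ a 4 := fun e =>
    (show er 4 ≠ (4 : Fin 12) by decide +kernel) (a.injective ((hc he 4).trans e))
  have h45 : a 4 = 4 ∨ a 4 = 5 := by
    generalize a 4 = j at hm hm'
    revert hm hm'
    revert j
    decide +kernel
  have hz : ∀ k : Fin 12, 4 ≤ k.val → a k = if a 4 = 4 then k else (x1 * x2) k := by
    have hp : ∀ p : P12, p * a = a * p → p 4 = p 4 → a (p 4) = if a 4 = 4 then p 4 else p 5 := by
      intro p h _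
      rw [hc h 4]
      rcases h45 with e | e <;> simp [e]
    have hxa : ∀ {p q : P12}, p * a = a * p → q * a = a * q → p * q * a = a * (p * q) := fun hp hq => by
      rw [mul_assoc, hq, ← mul_assoc, hp, mul_assoc]
    intro k hk
    fin_cases k
    iterate 4 exact absurd hk (by decide)
    all_goals (have h := h45)
    · rcases h45 with e | e <;> simp [e] <;> decide +kernel
    · have := hp x1 h3 rfl
      revert this; rcases h with e | e <;> simp only [e] <;> intro this <;> exact this.trans (by decide +kernel)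
    · have := hp (y1 * y2) hy rfl
      revert this; rcases h with e | e <;> simp only [e] <;> intro this <;> exact this.trans (by decide +kernel)
    · have := hp (x1 * (y1 * y2)) (hxa h3 hy) rfl
      revert this; rcases h with e | e <;> simp only [e] <;> intro this <;> exact this.trans (by decide +kernel)
    · have := hp b12 hb rfl
      revert this; rcases h with e | e <;> simp only [e] <;> intro this <;> exact this.trans (by decide +kernel)
    · have := hp (b12 * x1) (hxa hb h3) rfl
      revert this; rcases h with e | e <;> simp only [e] <;> intro this <;> exact this.trans (by decide +kernel)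
    · have := hp (b12 * (y1 * y2)) (hxa hb hy) rfl
      revert this; rcases h with e | e <;> simp only [e] <;> intro this <;> exact this.trans (by decide +kernel)
    · have := hp (b12 * (x1 * (y1 * y2))) (hxa hb (hxa h3 hy)) rfl
      revert this; rcases h with e | e <;> simp only [e] <;> intro this <;> exact this.trans (by decide +kernel)
  have hlow : ∀ k : Fin 12, k.val < 4 → (a k).val < 4 := by
    intro k hk
    by_contra hge
    have e : (x1 * x2) (a k) = a k := by
      have hx : (x1 * x2) * a = a * (x1 * x2) := by rw [mul_assoc, h5, ← mul_assoc, h3, mul_assoc]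
      rw [← hc hx k, (show ∀ k : Fin 12, k.val < 4 → (x1 * x2) k = k by decide +kernel) k hk]
    exact (show ∀ j : Fin 12, 4 ≤ j.val → (x1 * x2) j ≠ j by decide +kernel) (a k) (by omega) e
  have main : ∀ y : P12, (∀ k : Fin 12, k.val < 4 → y k = k) → (∀ k : Fin 12, 4 ≤ k.val → 4 ≤ (y k).val) →
      (∀ k : Fin 12, 4 ≤ k.val → y ((x1 * x2) k) = (x1 * x2) (y k)) → y * a = a * y := by
    intro y hy1 hy2 hy3
    refine Equiv.ext fun k => ?_
    rw [Perm.mul_apply, Perm.mul_apply]
    by_cases hk : k.val < 4
    · rw [hy1 _ (hlow k hk), hy1 k hk]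
    · rw [hz k (by omega), hz _ (hy2 k (by omega))]
      split_ifs
      · rfl
      · exact hy3 k (by omega)
  exact ⟨main y1 (by decide +kernel) (by decide +kernel) (by decide +kernel),
    main y2 (by decide +kernel) (by decide +kernel) (by decide +kernel)⟩

end CfsgLib.Recog.CentTwelve
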