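import Cfsg.Agent.Lib.Recog.QSThree.AltEmb
import Cfsg.Agent.Lib.Recog.CentTwelve.AltPoints
import Cfsg.Agent.Lib.Recog.CentTwelve.AltImages

/-!
The stabiliser of the first block as the numbered centraliser of an involution of `A₈`.
-/

set_option autoImplicit false
set_option maxRecDepth 100000

namespace CfsgLib.Recog.CentTwelve

open Equiv Subgroup CfsgLib.InvChar.Coset CfsgLib.Recog.QSThree

/-- The eight points outside the first block. -/
def pt8 : Fin 8 ≃ {i : Fin 12 // 4 ≤ i.val} where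
  toFun k := ⟨⟨k.val + 4, by omega⟩, by simp⟩
  invFun i := ⟨i.1.val - 4, by omega⟩
  left_inv k := by ext; simp
  right_inv i := by
    ext
    have := i.2
    simp
    omega

/-- Permutations of eight points as permutations fixing the first block. -/
def sh : Perm (Fin 8) →* P12 := Perm.extendDomainHom pt8

theorem sh_high (p : Perm (Fin 8)) (k : Fin 8) : sh p (pt8 k) = pt8 (p k) :=
  Perm.extendDomain_apply_image p pt8 k

theorem sh_low (p : Perm (Fin 8)) {i : Fin 12} (h : i.val < 4) : sh p i = i :=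
  Perm.extendDomain_apply_not_subtype p pt8 (by omega)

/-- The numbered elements as permutations of twelve points. -/
def emb (i : ℕ) : P12 := sh (Alt.nm i : Perm (Fin 8))

/-- The image of a point in the packed data. -/
def img (i k : ℕ) : ℕ := (imgPack >>> (3 * (8 * i + k))) % 8

theorem img_facts : ((List.range 192).all fun i => (List.range 8).all fun k =>
    Nat.beq (Alt.follow (Alt.lWords.getD i []) (Fin.ofNat 8 k)).val (img i k)) = true := by
  decide +kernel

theorem nm_apply {i : ℕ} (hi : i < 192) (k : Fin 8) :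
    ((Alt.nm i : Perm (Fin 8)) k).val = img i k.val := by
  rw [Alt.nm, Alt.coe_wprod]
  have h := List.all_eq_true.1 (List.all_eq_true.1 img_facts i (List.mem_range.2 hi)) k.val
    (List.mem_range.2 k.isLt)
  rw [Fin.ofNat_val_eq_self] at h
  exact Nat.eq_of_beq_eq_true h

theorem mul_facts : Tab.all192 (fun i => Tab.all192 fun j => force (tabA.mul i j) fun m =>
    (List.range 8).all fun k => Nat.beq (img m k) (img i (img j k))) = true := by
  decide +kernel

theorem nm_mul {i j : ℕ} (hi : i < 192) (hj : j < 192) :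
    Alt.nm i * Alt.nm j = Alt.nm (tabA.mul i j) := by
  refine Subtype.ext (Equiv.ext fun k => Fin.ext ?_)
  have h := Tab.all192_get (Tab.all192_get mul_facts hi) hj
  rw [force_eq] at h
  rw [Subgroup.coe_mul, Perm.mul_apply, nm_apply hi, nm_apply hj, nm_apply (tabA_ok.mul_lt hi hj)]
  exact (Nat.eq_of_beq_eq_true (List.all_eq_true.1 h k.val (List.mem_range.2 k.isLt))).symm

theorem emb_mul {i j : ℕ} (hi : i < 192) (hj : j < 192) :
    emb i * emb j = emb (tabA.mul i j) := by
  rw [emb, emb, ← map_mul, ← Subgroup.coe_mul, nm_mul hi hj]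
  rfl

/-- The entry of a number and a flag from four images. -/
def idx (a b c d : ℕ) : ℕ := (idxPack >>> (9 * (a + 8 * b + 64 * c + 512 * d))) % 512

theorem idx_inv : ((List.range 192).all fun i =>
    Nat.beq (idx (img i 0) (img i 2) (img i 4) (img i 6)) i) = true := by
  decide +kernel

theorem emb_inj {i j : ℕ} (hi : i < 192) (hj : j < 192) (h : emb i = emb j) : i = j := by
  have e : ∀ k : Fin 8, img i k.val = img j k.val := fun k => by
    rw [← nm_apply hi, ← nm_apply hj]
    have := congrArg (fun p : P12 => p (pt8 k)) h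
    simp only [emb, sh_high] at this
    rw [pt8.injective (Subtype.ext this)]
  have a := Nat.eq_of_beq_eq_true (List.all_eq_true.1 idx_inv i (List.mem_range.2 hi))
  have b := Nat.eq_of_beq_eq_true (List.all_eq_true.1 idx_inv j (List.mem_range.2 hj))
  rw [← a, ← b, show img i 0 = img j 0 from e 0, show img i 2 = img j 2 from e 2,
    show img i 4 = img j 4 from e 4, show img i 6 = img j 6 from e 6]

theorem emb_zero : emb 0 = 1 := by decide +kernel

theorem emb_sixteen : emb 16 = x1 * x2 := by decide +kernel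

/-- The letters of the numbering. -/
theorem letters_eq : sh (Alt.gA 0 : Perm (Fin 8)) = er * b12 * cy * y1 ∧
    sh (Alt.gA 1 : Perm (Fin 8)) = x1 * x2 * cy * y1 ∧ sh (Alt.gA 2 : Perm (Fin 8)) = x1 * cy * y1 * x2 ∧
    sh (Alt.gA 3 : Perm (Fin 8)) = x1 * y1 * x2 * b12 * cy := by
  refine ⟨?_, ?_, ?_, ?_⟩ <;> decide +kernel

/-- A property passing from the letters to the numbered elements. -/
theorem emb_induction {p : P12 → Prop} (h1 : p 1) (hm : ∀ a b, p a → p b → p (a * b))
    (h0 : ∀ x < 4, p (sh (Alt.gA x : Perm (Fin 8)))) {i : ℕ} (hi : i < 192) : p (emb i) := by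
  have hl := Tab.all192_get Alt.lWords_facts hi
  simp only [Bool.and_eq_true] at hl
  have hw : ∀ x ∈ Alt.lWords.getD i [], x < 4 := fun x hx => by
    simpa [Nat.blt] using List.all_eq_true.1 hl.2 x hx
  rw [emb, Alt.nm]
  generalize Alt.lWords.getD i [] = w at hw
  induction w with
  | nil => simpa [wprod] using h1
  | cons x w ih =>
    rw [show wprod Alt.gA (x :: w) = Alt.gA x * wprod Alt.gA w by simp [wprod], Subgroup.coe_mul, map_mul]
    exact hm _ _ (h0 x (hw x List.mem_cons_self)) (ih fun y hy => hw y (List.mem_cons_of_mem _ hy))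

theorem emb_commute {i : ℕ} (hi : i < 192) :
    emb i ∈ C12 ∧ x0 * emb i = emb i * x0 ∧ y0 * emb i = emb i * y0 ∧
      x1 * x2 * emb i = emb i * (x1 * x2) := by
  refine emb_induction (p := fun a => a ∈ C12 ∧ x0 * a = a * x0 ∧ y0 * a = a * y0 ∧
      x1 * x2 * a = a * (x1 * x2)) ⟨C12.one_mem, by simp⟩ (fun a b ha hb => ?_) (fun x hx => ?_) hi
  · exact ⟨mul_mem ha.1 hb.1, (Commute.mul_right ha.2.1 hb.2.1).eq, (Commute.mul_right ha.2.2.1 hb.2.2.1).eq,
      (Commute.mul_right ha.2.2.2 hb.2.2.2).eq⟩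
  · have : ∀ x : Fin 4, (sh (Alt.gA x.val : Perm (Fin 8))) ∈ C12 ∧
        x0 * sh (Alt.gA x.val : Perm (Fin 8)) = sh (Alt.gA x.val : Perm (Fin 8)) * x0 ∧
        y0 * sh (Alt.gA x.val : Perm (Fin 8)) = sh (Alt.gA x.val : Perm (Fin 8)) * y0 ∧
        x1 * x2 * sh (Alt.gA x.val : Perm (Fin 8)) = sh (Alt.gA x.val : Perm (Fin 8)) * (x1 * x2) := by
      decide +kernel
    exact this ⟨x, hx⟩

theorem tuple_facts : ((List.range 8).all fun a => (List.range 8).all fun b => (List.range 8).all fun c =>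
    (List.range 8).all fun d =>
      Nat.beq (a / 2) (b / 2) || Nat.beq (a / 2) (c / 2) || Nat.beq (a / 2) (d / 2) ||
      Nat.beq (b / 2) (c / 2) || Nat.beq (b / 2) (d / 2) || Nat.beq (c / 2) (d / 2) ||
      force (idx a b c d) fun e =>
        Nat.blt (e % 256) 192 && ([(0, a), (1, Nat.xor a 1), (2, b), (3, Nat.xor b 1), (4, c),
          (5, Nat.xor c 1), (6, d), (7, Nat.xor d 1)].all fun kv : ℕ × ℕ =>
            Nat.beq (img (e % 256) (bif Nat.blt e 256 then kv.1 else bif Nat.blt kv.1 2 then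
              Nat.xor kv.1 1 else kv.1)) kv.2)) = true := by
  decide +kernel

theorem high_facts : (∀ k : Fin 8, (al (pt8 k) : Fin 12).val = Nat.xor k.val 1 + 4) ∧
    (∀ k : Fin 8, ((pt8 k : {i : Fin 12 // 4 ≤ i.val}) : Fin 12).val = k.val + 4) := by
  decide +kernel

theorem odd_swap : Perm.sign (sh (swap (0 : Fin 8) 1)) = -1 := by decide +kernel

attribute [local irreducible] img idx

/-- An element commuting with the first block is a numbered element times an element of the block. -/
theorem exists_emb_of_commute {a : P12} (ha : a ∈ C12) (h0 : x0 * a = a * x0) (h1 : y0 * a = a * y0) :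
    ∃ v, (v = 1 ∨ v = x0 ∨ v = y0 ∨ v = x0 * y0) ∧ ∃ i < 192, a = v * emb i := by
  have hmove : x0 (a 0) ≠ a 0 := fun e =>
    (show x0 0 ≠ (0 : Fin 12) by decide +kernel) (a.injective
      (((congrArg (fun q : P12 => q 0) h0).symm).trans e))
  have fblk : ∀ j : Fin 12, x0 j ≠ j → ∃ i : Fin 4, blk x0 y0 i 0 = j := by decide +kernel
  obtain ⟨j, hj⟩ := fblk _ hmove
  obtain ⟨hvC, hv0, hv1, hvv⟩ := (show ∀ j : Fin 4, blk x0 y0 j ∈ C12 ∧
    x0 * blk x0 y0 j = blk x0 y0 j * x0 ∧ y0 * blk x0 y0 j = blk x0 y0 j * y0 ∧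
    blk x0 y0 j * blk x0 y0 j = 1 by decide +kernel) j
  refine ⟨blk x0 y0 j, (show ∀ j : Fin 4, blk x0 y0 j = 1 ∨ blk x0 y0 j = x0 ∨ blk x0 y0 j = y0 ∨
    blk x0 y0 j = x0 * y0 by decide +kernel) j, ?_⟩
  set b := blk x0 y0 j * a with hb
  suffices hs : ∃ i < 192, b = emb i by
    obtain ⟨i, hi, e⟩ := hs
    exact ⟨i, hi, by rw [← e, hb, ← mul_assoc, hvv, one_mul]⟩
  have hbC : b ∈ C12 := mul_mem hvC ha
  have b0 : b 0 = 0 := by
    rw [hb, Perm.mul_apply, ← hj, ← Perm.mul_apply, hvv, Perm.one_apply]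
  have hbx : ∀ k, b (x0 k) = x0 (b k) := fun k =>
    (congrArg (fun q : P12 => q k) (Commute.mul_right hv0 h0).eq).symm
  have hby : ∀ k, b (y0 k) = y0 (b k) := fun k =>
    (congrArg (fun q : P12 => q k) (Commute.mul_right hv1 h1).eq).symm
  have hlow : ∀ k : Fin 12, k.val < 4 → b k = k := by
    obtain ⟨c1, c2, c3, c3'⟩ : x0 (0 : Fin 12) = 1 ∧ y0 (0 : Fin 12) = 2 ∧ y0 (1 : Fin 12) = 3 ∧ True := by
      decide +kernel
    have b1 : b 1 = 1 := by rw [← c1, hbx, b0]
    have b2 : b 2 = 2 := by rw [← c2, hby, b0]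
    have b3 : b 3 = 3 := by rw [← c3, hby, b1]
    intro k hk
    fin_cases k
    iterate 4 assumption
    all_goals exact absurd hk (by decide)
  have hhigh : ∀ k : Fin 8, 4 ≤ (b (pt8 k)).val := fun k => by
    by_contra hlt
    have := b.injective (hlow _ (by omega) : b (b (pt8 k)) = b (pt8 k))
    have h2 := (pt8 k).2
    rw [this] at hlt
    exact hlt h2
  set n : Fin 8 → ℕ := fun k => (b (pt8 k)).val - 4 with hn
  have hn8 : ∀ k, n k < 8 := fun k => by
    have := (b (pt8 k)).isLt
    simp only [hn]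
    omega
  have hnval : ∀ k, (b (pt8 k)).val = n k + 4 := fun k => by
    have := hhigh k
    simp only [hn]
    omega
  have hninj : ∀ {k l}, n k = n l → k = l := fun {k l} e =>
    pt8.injective (Subtype.ext (b.injective (Fin.ext (by rw [hnval, hnval, e]))))
  have hpair : ∀ k k' : Fin 8, k'.val = Nat.xor k.val 1 → n k' = Nat.xor (n k) 1 := by
    intro k k' hk'
    have e := congrArg (fun q : P12 => q (pt8 k)) (mem_C12.1 hbC).2
    simp only [Perm.mul_apply] at e
    have e1 : al ↑(pt8 k) = ↑(pt8 k') := Fin.ext (by rw [high_facts.1, high_facts.2, hk'])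
    have e2 : b ↑(pt8 k) = ↑(pt8 ⟨n k, hn8 k⟩) := Fin.ext (by rw [hnval, high_facts.2])
    rw [e1, e2] at e
    have e3 := congrArg Fin.val e
    rw [hnval, high_facts.1] at e3
    simp only at e3
    omega
  have hsep : ∀ k k' : Fin 8, k.val / 2 ≠ k'.val / 2 → Nat.beq (n k / 2) (n k' / 2) = false := by
    intro k k' hne
    cases hb2 : Nat.beq (n k / 2) (n k' / 2) with
    | false => rfl
    | true =>
      exfalso
      have e := Nat.eq_of_beq_eq_true hb2
      have : n k' = n k ∨ n k' = Nat.xor (n k) 1 := by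
        have hF : ∀ a b : Fin 8, a.val / 2 = b.val / 2 → b.val = a.val ∨ b.val = Nat.xor a.val 1 := by
          decide
        exact hF ⟨n k, hn8 k⟩ ⟨n k', hn8 k'⟩ e
      rcases this with e' | e'
      · exact hne (by rw [hninj e'])
      · obtain ⟨l, hl⟩ : ∃ l : Fin 8, l.val = Nat.xor k.val 1 :=
          (show ∀ k : Fin 8, ∃ l : Fin 8, l.val = Nat.xor k.val 1 by decide) k
        rw [← hpair k l hl] at e'
        have hkl := hninj e'
        rw [hkl, hl] at hne
        exact hne ((show ∀ k : Fin 8, k.val / 2 = Nat.xor k.val 1 / 2 by decide) k)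
  have hT := List.all_eq_true.1 (List.all_eq_true.1 (List.all_eq_true.1 (List.all_eq_true.1 tuple_facts
    _ (List.mem_range.2 (hn8 0))) _ (List.mem_range.2 (hn8 2))) _ (List.mem_range.2 (hn8 4)))
    _ (List.mem_range.2 (hn8 6))
  rw [hsep 0 2 (by decide), hsep 0 4 (by decide), hsep 0 6 (by decide), hsep 2 4 (by decide),
    hsep 2 6 (by decide), hsep 4 6 (by decide), force_eq] at hT
  set e := idx (n 0) (n 2) (n 4) (n 6) with he
  simp only [Bool.false_or, Bool.and_eq_true, List.all_cons, List.all_nil, Bool.and_true] at hT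
  obtain ⟨hi, t0, t1, t2, t3, t4, t5, t6, t7⟩ := hT
  have hi' : e % 256 < 192 := by simpa [Nat.blt] using hi
  refine ⟨e % 256, hi', ?_⟩
  rw [← hpair 0 1 (by decide)] at t1
  rw [← hpair 2 3 (by decide)] at t3
  rw [← hpair 4 5 (by decide)] at t5
  rw [← hpair 6 7 (by decide)] at t7
  have ext12 : ∀ p : Perm (Fin 8), (∀ k : Fin 8, (p k).val = n k) → b = sh p := by
    intro p hp
    refine Equiv.ext fun x => ?_
    by_cases hx : x.val < 4
    · rw [hlow x hx, sh_low p hx]
    · obtain ⟨k, rfl⟩ : ∃ k : Fin 8, ((pt8 k : {i : Fin 12 // 4 ≤ i.val}) : Fin 12) = x :=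
        ⟨pt8.symm ⟨x, by omega⟩, by rw [Equiv.apply_symm_apply]⟩
      refine Fin.ext ?_
      rw [sh_high, high_facts.2, hp, hnval]
  by_cases hflag : e < 256
  · have hb' : Nat.blt e 256 = true := by simpa [Nat.blt] using hflag
    simp only [hb', cond_true] at t0 t1 t2 t3 t4 t5 t6 t7
    refine ext12 _ fun k => ?_
    rw [nm_apply hi']
    fin_cases k
    exacts [Nat.eq_of_beq_eq_true t0, Nat.eq_of_beq_eq_true t1, Nat.eq_of_beq_eq_true t2,
      Nat.eq_of_beq_eq_true t3, Nat.eq_of_beq_eq_true t4, Nat.eq_of_beq_eq_true t5,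
      Nat.eq_of_beq_eq_true t6, Nat.eq_of_beq_eq_true t7]
  · exfalso
    have hb' : Nat.blt e 256 = false := by
      cases hq : Nat.blt e 256 with
      | false => rfl
      | true => exact absurd (by simpa [Nat.blt] using hq) hflag
    simp only [hb', cond_false] at t0 t1 t2 t3 t4 t5 t6 t7
    have := ext12 ((Alt.nm (e % 256) : Perm (Fin 8)) * swap (0 : Fin 8) 1) fun k => by
      rw [Perm.mul_apply, nm_apply hi']
      fin_cases k
      exacts [Nat.eq_of_beq_eq_true t0, Nat.eq_of_beq_eq_true t1, Nat.eq_of_beq_eq_true t2,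
        Nat.eq_of_beq_eq_true t3, Nat.eq_of_beq_eq_true t4, Nat.eq_of_beq_eq_true t5,
        Nat.eq_of_beq_eq_true t6, Nat.eq_of_beq_eq_true t7]
    have hs := congrArg Perm.sign this
    rw [(mem_C12.1 hbC).1, map_mul, Perm.sign_mul] at hs
    have h1 := (mem_C12.1 (emb_commute hi').1).1
    rw [emb] at h1
    rw [h1, one_mul, odd_swap] at hs
    exact absurd hs (by decide)

end CfsgLib.Recog.CentTwelve
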