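import Cfsg.Agent.Lib.Recog.CentTwelve.AltFix
import Cfsg.Agent.Lib.Recog.CentTwelve.AltNumber

/-!
The centraliser of the four-group on a block, modulo that group, has an involution centraliser of type `A₈`.
-/

set_option autoImplicit false
set_option maxRecDepth 100000

namespace CfsgLib.Recog.CentTwelve

open Equiv Subgroup CfsgLib.Recog.QSThree

universe u

variable {G : Type u} [Group G] {α : G} (S : Setting α)

/-- The four elements of the first block. -/
def Blk (v : P12) : Prop := v = 1 ∨ v = x0 ∨ v = y0 ∨ v = x0 * y0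

theorem Blk.facts {v : P12} (h : Blk v) : v ∈ C12 ∧ x0 * v = v * x0 ∧ y0 * v = v * y0 := by
  rcases h with rfl | rfl | rfl | rfl <;> decide +kernel

/-- The centraliser of the four-group on the first block. -/
def CV : Subgroup G := centralizer {S.f x0, S.f y0}

theorem mem_CV {c : G} :
    c ∈ CV S ↔ c * S.f x0 = S.f x0 * c ∧ c * S.f y0 = S.f y0 * c := by
  rw [CV, mem_centralizer_iff]
  simp only [Set.mem_insert_iff, Set.mem_singleton_iff, forall_eq_or_imp, forall_eq]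
  exact ⟨fun h => ⟨h.1.symm, h.2.symm⟩, fun h => ⟨h.1.symm, h.2.symm⟩⟩

theorem f_mem_CV {a : P12} (ha : a ∈ C12) (h0 : x0 * a = a * x0) (h1 : y0 * a = a * y0) :
    S.f a ∈ CV S :=
  (mem_CV S).2 ⟨(S.commute_iff ha named_mem.1).2 h0.symm, (S.commute_iff ha named_mem.2.1).2 h1.symm⟩

theorem emb_mem_CV {i : ℕ} (hi : i < 192) : S.f (emb i) ∈ CV S :=
  f_mem_CV S (emb_commute hi).1 (emb_commute hi).2.1 (emb_commute hi).2.2.1

theorem blk_rel : S.f x0 * S.f x0 = 1 ∧ S.f y0 * S.f y0 = 1 ∧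
    S.f x0 * S.f y0 = S.f y0 * S.f x0 := by
  obtain ⟨nx, ny, -⟩ := named_mem
  refine ⟨?_, ?_, (S.commute_iff nx ny).2 (by decide +kernel)⟩
  · rw [← S.mul _ nx _ nx, show x0 * x0 = 1 by decide +kernel, S.f_one]
  · rw [← S.mul _ ny _ ny, show y0 * y0 = 1 by decide +kernel, S.f_one]

/-- The four-group inside its centraliser. -/
def NV : Subgroup (CV S) :=
  (Alt.fourSub (S.f x0) (S.f y0) (blk_rel S).1 (blk_rel S).2.1 (blk_rel S).2.2).subgroupOf (CV S)

theorem mem_NV {c : CV S} : c ∈ NV S ↔ ∃ v, Blk v ∧ (c : G) = S.f v := by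
  obtain ⟨nx, ny, -⟩ := named_mem
  rw [NV, mem_subgroupOf, Alt.mem_fourSub]
  constructor
  · rintro (h | h | h | h)
    exacts [⟨1, Or.inl rfl, by rw [h, S.f_one]⟩, ⟨x0, Or.inr (Or.inl rfl), h⟩,
      ⟨y0, Or.inr (Or.inr (Or.inl rfl)), h⟩,
      ⟨x0 * y0, Or.inr (Or.inr (Or.inr rfl)), by rw [h, S.mul _ nx _ ny]⟩]
  · rintro ⟨v, rfl | rfl | rfl | rfl, h⟩
    exacts [Or.inl (by rw [h, S.f_one]), Or.inr (Or.inl h), Or.inr (Or.inr (Or.inl h)),
      Or.inr (Or.inr (Or.inr (by rw [h, S.mul _ nx _ ny])))]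

theorem commute_blk {c : G} (hc : c ∈ CV S) {v : P12} (hv : Blk v) : c * S.f v = S.f v * c := by
  obtain ⟨h0, h1⟩ := (mem_CV S).1 hc
  rcases hv with rfl | rfl | rfl | rfl
  · rw [S.f_one, mul_one, one_mul]
  · exact h0
  · exact h1
  · rw [S.mul _ named_mem.1 _ named_mem.2.1, ← mul_assoc, h0, mul_assoc, h1, mul_assoc]

instance NV_normal : (NV S).Normal where
  conj_mem n hn c := by
    obtain ⟨v, hv, e⟩ := (mem_NV S).1 hn
    refine (mem_NV S).2 ⟨v, hv, ?_⟩
    push_cast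
    rw [e, commute_blk S c.2 hv, mul_inv_cancel_right]

/-- The quotient by the four-group. -/
abbrev XV := CV S ⧸ NV S

open Classical in
/-- The class in the quotient of an element of the centraliser. -/
noncomputable def cls (c : G) : XV S :=
  if h : c ∈ CV S then QuotientGroup.mk ⟨c, h⟩ else 1

theorem cls_of {c : G} (h : c ∈ CV S) : cls S c = QuotientGroup.mk ⟨c, h⟩ := dif_pos h

theorem cls_mul {a b : G} (ha : a ∈ CV S) (hb : b ∈ CV S) : cls S (a * b) = cls S a * cls S b := by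
  rw [cls_of S ha, cls_of S hb, cls_of S (mul_mem ha hb)]
  rfl

theorem cls_one : cls S (1 : G) = 1 := by
  rw [cls_of S (one_mem _)]
  rfl

theorem cls_inv {a : G} (ha : a ∈ CV S) : cls S a⁻¹ = (cls S a)⁻¹ := by
  refine eq_inv_of_mul_eq_one_left ?_
  rw [← cls_mul S (inv_mem ha) ha, inv_mul_cancel, cls_one]

theorem cls_eq_iff {a b : G} (ha : a ∈ CV S) (hb : b ∈ CV S) :
    cls S a = cls S b ↔ ∃ v, Blk v ∧ b = a * S.f v := by
  rw [cls_of S ha, cls_of S hb, QuotientGroup.eq, mem_NV]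
  push_cast
  exact ⟨fun ⟨v, hv, e⟩ => ⟨v, hv, by rw [← e, mul_inv_cancel_left]⟩,
    fun ⟨v, hv, e⟩ => ⟨v, hv, by rw [e, inv_mul_cancel_left]⟩⟩

theorem exists_cls (x : XV S) : ∃ c ∈ CV S, cls S c = x := by
  obtain ⟨c, rfl⟩ := QuotientGroup.mk_surjective x
  exact ⟨c, c.2, cls_of S c.2⟩

/-- The involution of the quotient. -/
noncomputable def zV : XV S := cls S (S.f (emb 16))

theorem zV_eq : zV S = cls S (S.f (x1 * x2)) := by rw [zV, emb_sixteen]

theorem fpf_facts : ¬ Fpf (x1 * x2) ∧ ∀ v ∈ [x0, y0, x0 * y0], Fpf (x1 * x2 * v) ∧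
    x1 * x2 * v * (x1 * x2 * v) = 1 ∧ x1 * x2 * v ≠ 1 := by
  simp only [List.forall_mem_cons, List.not_mem_nil, false_implies, implies_true, and_true]
  decide +kernel

variable {S}

theorem alpha_eq : α = S.f x0 * S.f (x1 * x2) := by
  refine S.f_al.symm.trans ?_
  rw [← S.mul _ named_mem.1 _ (show x1 * x2 ∈ C12 by decide +kernel),
    show x0 * (x1 * x2) = al by decide +kernel]

variable (P : AltPat S)
include P

theorem eq_of_isConj_z {v : P12} (hv : Blk v) (h : IsConj (S.f (x1 * x2)) (S.f (x1 * x2 * v))) :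
    v = 1 := by
  by_contra hne
  have hmem : v ∈ [x0, y0, x0 * y0] := by
    rcases hv with rfl | rfl | rfl | rfl <;> simp at hne ⊢
  obtain ⟨h1, h2, h3⟩ := (fpf_facts).2 v hmem
  have hzC : x1 * x2 ∈ C12 := by decide +kernel
  have hw : x1 * x2 * v ∈ C12 := mul_mem hzC hv.facts.1
  exact fpf_facts.1 ((P.fus _ hzC (by decide +kernel) (by decide +kernel)).1
    (((P.fus _ hw h2 h3).2 h1).trans h.symm))

/-- An element commuting with the involution modulo the four-group is numbered. -/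
theorem exists_number {c : G} (hc : c ∈ CV S) (h : cls S c * zV S = zV S * cls S c) :
    ∃ i < 192, cls S (S.f (emb i)) = cls S c := by
  have hz : S.f (x1 * x2) ∈ CV S := by rw [← emb_sixteen]; exact emb_mem_CV S (by norm_num)
  have hzC : x1 * x2 ∈ C12 := by decide +kernel
  rw [zV_eq, ← cls_mul S hc hz, ← cls_mul S hz hc, cls_eq_iff S (mul_mem hc hz) (mul_mem hz hc)] at h
  obtain ⟨v, hv, e⟩ := h
  have hcv := commute_blk S hc hv
  have hvv : S.f v * S.f v = 1 := by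
    rw [← S.mul _ hv.facts.1 _ hv.facts.1, ← S.f_one]
    congr 1
    rcases hv with rfl | rfl | rfl | rfl <;> decide +kernel
  have e' : c * S.f (x1 * x2) = S.f (x1 * x2 * v) * c := by
    calc c * S.f (x1 * x2) = c * S.f (x1 * x2) * S.f v * S.f v := by rw [mul_assoc _ (S.f v), hvv, mul_one]
      _ = S.f (x1 * x2) * c * S.f v := by rw [← e]
      _ = S.f (x1 * x2) * S.f v * c := by rw [mul_assoc, hcv, mul_assoc]
      _ = _ := by rw [S.mul _ hzC _ hv.facts.1]
  have hv1 : v = 1 := eq_of_isConj_z P hv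
    (isConj_iff.2 ⟨c, by rw [e', mul_inv_cancel_right]⟩)
  subst hv1
  rw [mul_one] at e'
  have hal' : c * (S.f x0 * S.f (x1 * x2)) = S.f x0 * S.f (x1 * x2) * c := by
    rw [← mul_assoc, ((mem_CV S).1 hc).1, mul_assoc, e', mul_assoc]
  have hal : c * α = α * c :=
    ((congrArg (c * ·) (alpha_eq (S := S))).trans hal').trans
      (congrArg (· * c) (alpha_eq (S := S)).symm)
  obtain ⟨a, ha, rfl⟩ := S.exists_of_commute hal
  obtain ⟨h0, h1⟩ := (mem_CV S).1 hc
  obtain ⟨w, hw, i, hi, rfl⟩ := exists_emb_of_commute ha ((S.commute_iff ha named_mem.1).1 h0).symm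
    ((S.commute_iff ha named_mem.2.1).1 h1).symm
  refine ⟨i, hi, (cls_eq_iff S (emb_mem_CV S hi) hc).2 ⟨w, hw, ?_⟩⟩
  rw [S.mul _ (Blk.facts hw).1 _ (emb_commute hi).1]
  exact (commute_blk S (emb_mem_CV S hi) hw).symm

omit P in
theorem cls_emb_inj {i j : ℕ} (hi : i < 192) (hj : j < 192)
    (h : cls S (S.f (emb i)) = cls S (S.f (emb j))) : i = j := by
  obtain ⟨v, hv, e⟩ := (cls_eq_iff S (emb_mem_CV S hi) (emb_mem_CV S hj)).1 h
  rw [← S.mul _ (emb_commute hi).1 _ hv.facts.1] at e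
  have e' := S.inj _ (emb_commute hj).1 _ (mul_mem (emb_commute hi).1 hv.facts.1) e
  have h0 := congrArg (fun p : P12 => p 0) e'
  simp only [Perm.mul_apply] at h0
  have hlow : ∀ {k : ℕ}, emb k 0 = 0 := fun {k} => sh_low _ (by decide)
  rw [hlow] at h0
  have hv0 : v 0 = 0 := (emb i).injective (h0.symm.trans hlow.symm)
  have hv1 : v = 1 := by
    rcases hv with rfl | rfl | rfl | rfl
    · rfl
    all_goals exact absurd hv0 (by decide +kernel)
  rw [hv1, mul_one] at e'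
  exact (emb_inj hj hi e').symm

omit P in
theorem cls_emb_mul {i j : ℕ} (hi : i < 192) (hj : j < 192) :
    cls S (S.f (emb i)) * cls S (S.f (emb j)) = cls S (S.f (emb (tabA.mul i j))) := by
  rw [← cls_mul S (emb_mem_CV S hi) (emb_mem_CV S hj), ← S.mul _ (emb_commute hi).1 _ (emb_commute hj).1,
    emb_mul hi hj]

/-- The numbering of the centraliser of the involution in the quotient. -/
noncomputable def dataV : Data tabA (zV S) where
  el i := cls S (S.f (emb i))
  el_mul hi hj := cls_emb_mul hi hj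
  el_inj hi hj := cls_emb_inj hi hj
  mem := by
    intro x
    obtain ⟨c, hc, rfl⟩ := exists_cls S x
    refine ⟨fun h => exists_number P hc h, ?_⟩
    rintro ⟨i, hi, e⟩
    rw [← e, zV, cls_emb_mul hi (by norm_num), cls_emb_mul (by norm_num) hi]
    have := (tabA_ok.inv_facts hi).2.2.2.2.2.2
    rw [Tab.comm] at this
    rw [Nat.eq_of_beq_eq_true this]
  el_zero := by rw [emb_zero, S.f_one, cls_one]
  el_zi := rfl

theorem zV_order : orderOf (zV S) = 2 := by
  have h := (dataV P).orderOf_el tabA_ok (i := 16) (by norm_num) (by norm_num) (by decide +kernel)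
  exact h

omit P in
theorem reps_eq : emb 5 = emb 66 * (y1 * (x2 * y2)) * (emb 66)⁻¹ ∧
    emb 6 = emb 33 * (y1 * y2) * (emb 33)⁻¹ ∧ emb 96 = emb 64 * (y1 * x2) * (emb 64)⁻¹ ∧
    tabA.rep 2 = 5 ∧ tabA.rep 3 = 6 ∧ tabA.rep 4 = 7 ∧ tabA.rep 5 = 96 ∧ tabA.rep 6 = 112 := by
  refine ⟨?_, ?_, ?_, ?_, ?_, ?_, ?_, ?_⟩ <;> decide +kernel

omit P in
theorem not_fused_facts : ∀ v ∈ [1, x0, y0, x0 * y0],
    ¬ Fpf (x0 * (emb 7 * v)) ∨ (Fpf (emb 7 * v) ∧ emb 7 * v * (emb 7 * v) = 1 ∧ emb 7 * v ≠ 1) := by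
  simp only [List.forall_mem_cons, List.not_mem_nil, false_implies, implies_true, and_true]
  decide +kernel

omit P in
theorem not_fused_facts' : ∀ v ∈ [1, x0, y0, x0 * y0],
    ¬ Fpf (x0 * (emb 112 * v)) ∨
      (Fpf (emb 112 * v) ∧ emb 112 * v * (emb 112 * v) = 1 ∧ emb 112 * v ≠ 1) := by
  simp only [List.forall_mem_cons, List.not_mem_nil, false_implies, implies_true, and_true]
  decide +kernel

theorem not_conj_el {i : ℕ} (hi : i < 192)
    (hf : ∀ v ∈ [1, x0, y0, x0 * y0],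
      ¬ Fpf (x0 * (emb i * v)) ∨ (Fpf (emb i * v) ∧ emb i * v * (emb i * v) = 1 ∧ emb i * v ≠ 1)) :
    ¬ IsConj (zV S) (cls S (S.f (emb i))) := by
  intro h
  obtain ⟨x, hx⟩ := isConj_iff.1 h
  obtain ⟨c, hc, rfl⟩ := exists_cls S x
  have hz : S.f (x1 * x2) ∈ CV S := by rw [← emb_sixteen]; exact emb_mem_CV S (by norm_num)
  have hzC : x1 * x2 ∈ C12 := by decide +kernel
  rw [zV_eq, ← cls_inv S hc, ← cls_mul S hc hz, ← cls_mul S (mul_mem hc hz) (inv_mem hc)] at hx
  obtain ⟨v, hv, e⟩ := (cls_eq_iff S (emb_mem_CV S hi) (mul_mem (mul_mem hc hz) (inv_mem hc))).1 hx.symm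
  obtain ⟨hwC, -, -⟩ := hv.facts
  obtain ⟨hiC, hi0, -, -⟩ := emb_commute hi
  rw [← S.mul _ hiC _ hwC] at e
  have hv' : v ∈ [1, x0, y0, x0 * y0] := by rcases hv with rfl | rfl | rfl | rfl <;> simp
  have hwm : emb i * v ∈ C12 := mul_mem hiC hwC
  rcases hf v hv' with hn | ⟨hfp, h2, h1⟩
  · have hxw : x0 * (emb i * v) ∈ C12 := mul_mem named_mem.1 hwm
    have hal : IsConj α (S.f (x0 * (emb i * v))) := by
      refine isConj_iff.2 ⟨c, (congrArg (c * · * c⁻¹) (alpha_eq (S := S))).trans ?_⟩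
      rw [S.mul _ named_mem.1 _ hwm, ← e, ← mul_assoc c, ((mem_CV S).1 hc).1]
      group
    have hal2 : S.f (x0 * (emb i * v)) * S.f (x0 * (emb i * v)) = 1 := by
      obtain ⟨d, hd⟩ := isConj_iff.1 hal
      rw [← hd]
      calc d * α * d⁻¹ * (d * α * d⁻¹) = d * (α * α) * d⁻¹ := by group
        _ = 1 := by
          have haa : α * α = 1 :=
            (congrArg₂ (· * ·) S.f_al.symm S.f_al.symm).trans (by
              rw [← S.mul _ al_mem _ al_mem, show al * al = 1 by decide +kernel, S.f_one])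
          rw [haa, mul_one, mul_inv_cancel]
    refine hn ((P.fus _ hxw ?_ ?_).1 hal)
    · rw [← S.mul _ hxw _ hxw] at hal2
      exact (S.eq_one_iff (mul_mem hxw hxw)).1 hal2
    · intro h0
      rw [h0, S.f_one] at hal
      have h1 : α = 1 := (isConj_one_left.1 hal)
      exact absurd ((S.eq_one_iff al_mem).1 (S.f_al.trans h1)) (by decide +kernel)
  · exact fpf_facts.1 ((P.fus _ hzC (by decide +kernel) (by decide +kernel)).1
      (((P.fus _ hwm h2 h1).2 hfp).trans (e ▸ (isConj_iff.2 ⟨c, rfl⟩ :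
        IsConj (S.f (x1 * x2)) (c * S.f (x1 * x2) * c⁻¹))).symm))

end CfsgLib.Recog.CentTwelve
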