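import Cfsg.Agent.Lib.Recog.CentTwelve.AltThirteen

/-!
The homomorphism from the alternating group of degree thirteen.
-/

set_option autoImplicit false
set_option maxRecDepth 100000

namespace CfsgLib.Recog.CentTwelve

open Equiv Subgroup CfsgLib.Recog.QSThree CfsgLib.InvChar.Coset CfsgLib.Clifford.AltSchur

universe u

/-- The first twelve of thirteen points. -/
def low13 : Fin 12 ≃ {i : Fin 13 // i.val < 12} where
  toFun k := ⟨k.castSucc, k.isLt⟩
  invFun i := ⟨i.1.val, i.2⟩
  left_inv _ := rfl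
  right_inv _ := rfl

/-- `A₁₂` inside `A₁₃`. -/
def inc13 : alternatingGroup (Fin 12) →* alternatingGroup (Fin 13) :=
  ((Perm.extendDomainHom low13).comp (alternatingGroup (Fin 12)).subtype).codRestrict
    (alternatingGroup (Fin 13)) fun a => by
      rw [Perm.mem_alternatingGroup]
      show Perm.sign (Perm.extendDomain (a : Perm (Fin 12)) low13) = 1
      rw [Perm.sign_extendDomain]
      exact Perm.mem_alternatingGroup.1 a.2

/-- The three cycles `(0 1 i)` of thirteen points. -/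
def a13 (i : Fin 11) : alternatingGroup (Fin 13) := toAlt (c3 0 1 ⟨i.val + 2, by omega⟩)

theorem a13_facts : (∀ i, a13 i ^ 3 = 1) ∧
    (∀ i j, i ≠ j → a13 i * a13 j * (a13 i * a13 j) = 1) ∧
    ∀ i : Fin 10, a13 i.castSucc = inc13 (c12 i) := by
  refine ⟨?_, ?_, ?_⟩ <;> decide +kernel

theorem closure_a13 : Subgroup.closure (Set.range a13) = ⊤ :=
  Alt.closure_c3_eq_top (a := 0) (b := 1) (by decide) a13 fun i h1 h2 => by
    have key : ∀ i : Fin 13, i ≠ 0 → i ≠ 1 → ∃ j : Fin 11, (a13 j : Perm (Fin 13)) = c3 0 1 i := by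
      decide +kernel
    exact key i h1 h2

/-- The image of a point under the interchange of the first two blocks. -/
def tgt (i : Fin 10) : Fin 12 := b01 ⟨i.val + 2, by omega⟩

/-- The three cycle `(0 1 j)` of the eight points. -/
def hiEl (i : Fin 10) : alternatingGroup (Fin 8) := toAlt (c3 0 1 (Fin.ofNat 8 ((tgt i).val - 4)))

/-- An element carrying the fifth point to a low one. -/
def sig (j : Fin 12) : alternatingGroup (Fin 12) := toAlt (c3 6 7 j) * (toAlt (c3 6 7 8))⁻¹

theorem ext_facts :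
    (∀ i : Fin 10, 4 ≤ (tgt i).val →
      (toAlt b01)⁻¹ * c12 i * toAlt b01 = sh8 (hiEl i) ∧
        inc9 (hiEl i) * gam * (inc9 (hiEl i) * gam) = 1) ∧
    (∀ i : Fin 10, (tgt i).val < 4 →
      (toAlt b01)⁻¹ * c12 i * toAlt b01 = sig (tgt i) * sh8 (a8 (c3 0 1 4)) * (sig (tgt i))⁻¹) ∧
    toAlt (c3 6 7 8) = sh8 (a8 (c3 2 3 4)) ∧
    toAlt (c3 6 7 (3 : Fin 12)) = toAlt (c3 3 6 7) ∧
    toAlt (c3 6 7 (2 : Fin 12)) = toAlt x0 * toAlt (c3 3 6 7) * (toAlt x0)⁻¹ ∧
    toAlt (c3 6 7 (1 : Fin 12)) = toAlt y0 * toAlt (c3 3 6 7) * (toAlt y0)⁻¹ ∧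
    toAlt (c3 6 7 (0 : Fin 12)) = toAlt x0 * toAlt y0 * toAlt (c3 3 6 7) * (toAlt x0 * toAlt y0)⁻¹ ∧
    Alt.g9 (Fin.last 6) = inc9 (a8 (swap 0 6 * swap 1 7)) * gam * (inc9 (a8 (swap 0 6 * swap 1 7)))⁻¹ ∧
    inc9 (a8 (c3 0 1 4)) * gam * (inc9 (a8 (c3 0 1 4)) * gam) = 1 := by
  refine ⟨?_, ?_, ?_, ?_, ?_, ?_, ?_, ?_, ?_⟩ <;> decide +kernel

variable {G : Type u} [Group G] {α : G} {S : Setting α} {g : G}
  (hg : Theta S g) (C : Chart S g 9) (φ : alternatingGroup (Fin 12) →* G)
  (hag : ∀ a (h : a ∈ C12), φ ⟨a, Perm.mem_alternatingGroup.2 (mem_C12.1 h).1⟩ = S.f a)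
  (hsh : ∀ a, φ (sh8 a) = C.ψ (inc9 a)) (hth : φ (toAlt th0) = g)
include hg hag hsh hth

theorem comm_sig {j : Fin 12} (hj : j.val < 4) : Commute (C.ψ gam) (φ (sig j)) := by
  obtain ⟨-, -, e8, e3, e2, e1, e0, -, -⟩ := ext_facts
  have hx : Commute (C.ψ gam) (φ (toAlt x0)) := by
    rw [map_toAlt φ hag named_mem.1]; exact commute_blk S (C.mem gam) (Or.inr (Or.inl rfl))
  have hy : Commute (C.ψ gam) (φ (toAlt y0)) := by
    rw [map_toAlt φ hag named_mem.2.1]; exact commute_blk S (C.mem gam) (Or.inr (Or.inr (Or.inl rfl)))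
  have h3 := comm_367 hg C φ hag hsh hth
  have h8 : Commute (C.ψ gam) (φ (toAlt (c3 6 7 8))) := by
    rw [e8]; exact comm_sh8 C φ hsh (gam_comm _ (by simp))
  rw [sig, map_mul, map_inv]
  refine Commute.mul_right ?_ h8.inv_right
  fin_cases j
  · show Commute _ (φ (toAlt (c3 6 7 (0 : Fin 12))))
    rw [e0, map_mul, map_inv, map_mul, map_mul]
    exact ((hx.mul_right hy).mul_right h3).mul_right (hx.mul_right hy).inv_right
  · show Commute _ (φ (toAlt (c3 6 7 (1 : Fin 12))))
    rw [e1, map_mul, map_inv, map_mul]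
    exact (hy.mul_right h3).mul_right hy.inv_right
  · show Commute _ (φ (toAlt (c3 6 7 (2 : Fin 12))))
    rw [e2, map_mul, map_inv, map_mul]
    exact (hx.mul_right h3).mul_right hx.inv_right
  · show Commute _ (φ (toAlt (c3 6 7 (3 : Fin 12))))
    rw [e3]
    exact h3
  all_goals exact absurd hj (by decide)

/-- The relation of the new generator with the old ones. -/
theorem rel_new (i : Fin 10) :
    φ ((toAlt b01)⁻¹ * c12 i * toAlt b01) * C.ψ gam *
      (φ ((toAlt b01)⁻¹ * c12 i * toAlt b01) * C.ψ gam) = 1 := by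
  obtain ⟨hh, hl, -, -, -, -, -, -, h014⟩ := ext_facts
  by_cases hi : 4 ≤ (tgt i).val
  · obtain ⟨e, r⟩ := hh i hi
    rw [e, hsh, ← map_mul, ← map_mul, r, map_one]
  · have hc := comm_sig hg C φ hag hsh hth (j := tgt i) (by omega)
    rw [hl i (by omega), map_mul, map_mul, map_inv, hsh]
    set s := φ (sig (tgt i))
    set T := C.ψ gam
    set d := C.ψ (inc9 (a8 (c3 0 1 4)))
    have hT : s * T * s⁻¹ = T := by rw [← hc.eq, mul_inv_cancel_right]
    calc s * d * s⁻¹ * T * (s * d * s⁻¹ * T) = s * d * s⁻¹ * (s * T * s⁻¹) *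
          (s * d * s⁻¹ * (s * T * s⁻¹)) := by rw [hT]
      _ = s * (d * T * (d * T)) * s⁻¹ := by group
      _ = 1 := by rw [← map_mul, ← map_mul, h014, map_one, mul_one, mul_inv_cancel]

/-- The homomorphism from `A₁₃`. -/
theorem exists_thirteen [Finite G] : ∃ φ' : alternatingGroup (Fin 13) →* G, Function.Injective φ' ∧
    (∀ a ∈ C12, ∀ b : alternatingGroup (Fin 13),
      (∀ i : Fin 12, (b : Perm (Fin 13)) i.castSucc = (a i).castSucc) → φ' b = S.f a) ∧
    CV S ≤ φ'.range := by
  classical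
  obtain ⟨h3, h2, hcast⟩ := a13_facts
  obtain ⟨c12cyc, c3', c2'⟩ := c12_facts
  set B := toAlt b01 with hB
  set xn := φ B * C.ψ gam * (φ B)⁻¹ with hxn
  let x : Fin 11 → G := Fin.snoc (fun i => φ (c12 i)) xn
  have hxc : ∀ i : Fin 10, x i.castSucc = φ (c12 i) := fun i => Fin.snoc_castSucc _ _ i
  have hxl : x (Fin.last 10) = xn := Fin.snoc_last _ _
  have hx3 : ∀ i, x i ^ 3 = 1 := fun i => by
    induction i using Fin.lastCases with
    | last => rw [hxl, hxn, conj_pow, ← map_pow C.ψ, gam_rel.1, map_one, mul_one, mul_inv_cancel]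
    | cast i => rw [hxc, ← map_pow, c3', map_one]
  have hnew : ∀ i, φ (c12 i) * xn * (φ (c12 i) * xn) = 1 := fun i => by
    have h := rel_new hg C φ hag hsh hth i
    rw [← hB, map_mul, map_mul, map_inv] at h
    calc φ (c12 i) * xn * (φ (c12 i) * xn) = φ B * ((φ B)⁻¹ * φ (c12 i) * φ B * C.ψ gam *
          ((φ B)⁻¹ * φ (c12 i) * φ B * C.ψ gam)) * (φ B)⁻¹ := by rw [hxn]; group
      _ = 1 := by rw [h, mul_one, mul_inv_cancel]
  have hx2 : ∀ i j, i ≠ j → x i * x j * (x i * x j) = 1 := fun i j hij => by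
    induction i using Fin.lastCases with
    | last =>
      induction j using Fin.lastCases with
      | last => exact absurd rfl hij
      | cast j =>
        rw [hxl, hxc]
        calc xn * φ (c12 j) * (xn * φ (c12 j))
            = xn * (φ (c12 j) * xn * (φ (c12 j) * xn)) * xn⁻¹ := by group
          _ = 1 := by rw [hnew j]; group
    | cast i =>
      induction j using Fin.lastCases with
      | last => rw [hxl, hxc]; exact hnew i
      | cast j =>
        rw [hxc, hxc, ← map_mul, ← map_mul, c2' i j (fun e => hij (congrArg Fin.castSucc e)), map_one]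
  obtain ⟨φ', hφ'⟩ := Alt.exists_hom_carmichael 11 a13 h3 h2 closure_a13 x hx3 hx2
  have hcomp : φ'.comp inc13 = φ := by
    refine MonoidHom.eq_of_eqOn_dense closure_c12 ?_
    rintro _ ⟨i, rfl⟩
    rw [MonoidHom.comp_apply, ← hcast, hφ', hxc]
  have hin : ∀ a, φ' (inc13 a) = φ a := fun a => DFunLike.congr_fun hcomp a
  have hagree : ∀ a ∈ C12, ∀ b : alternatingGroup (Fin 13),
      (∀ i : Fin 12, (b : Perm (Fin 13)) i.castSucc = (a i).castSucc) → φ' b = S.f a := by
    intro a ha b hb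
    have hi : ∀ i : Fin 12, (inc13 (toAlt a) : Perm (Fin 13)) i.castSucc = (a i).castSucc := fun i => by
      conv_rhs => rw [← coe_toAlt (mem_C12.1 ha).1]
      exact Perm.extendDomain_apply_image (toAlt a : P12) low13 i
    have hlast : ∀ p : Perm (Fin 13), (∀ i : Fin 12, p i.castSucc = (a i).castSucc) →
        p (Fin.last 12) = Fin.last 12 := by
      intro p hp
      induction h : p (Fin.last 12) using Fin.lastCases with
      | last => rfl
      | cast j =>
        exfalso
        have := hp (a⁻¹ j)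
        rw [← Perm.mul_apply, mul_inv_cancel, Perm.one_apply, ← h] at this
        exact absurd (p.injective this) (Fin.castSucc_ne_last _)
    have : b = inc13 (toAlt a) := Subtype.ext (Equiv.ext fun k => by
      induction k using Fin.lastCases with
      | last => rw [hlast _ hb, hlast _ hi]
      | cast i => rw [hb, hi])
    rw [this, hin, map_toAlt φ hag ha]
  refine ⟨φ', ?_, hagree, ?_⟩
  · haveI : IsSimpleGroup (alternatingGroup (Fin 13)) := alternatingGroup.isSimpleGroup (by simp)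
    rcases φ'.normal_ker.eq_bot_or_eq_top with h | h
    · exact (MonoidHom.ker_eq_bot_iff _).1 h
    · exfalso
      have h1 : φ' (inc13 (toAlt al)) = 1 := by rw [← MonoidHom.mem_ker, h]; exact mem_top _
      rw [hin, map_toAlt φ hag al_mem] at h1
      exact absurd ((S.eq_one_iff al_mem).1 h1) (by decide +kernel)
  · have hphi : ∀ a, φ a ∈ φ'.range := fun a => ⟨inc13 a, hin a⟩
    have hT : C.ψ gam ∈ φ'.range := by
      have : xn ∈ φ'.range := ⟨a13 (Fin.last 10), by rw [hφ', hxl]⟩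
      have h := mul_mem (mul_mem (inv_mem (hphi B)) this) (hphi B)
      rw [hxn] at h
      simpa [mul_assoc] using h
    have hψ : ∀ a, C.ψ a ∈ φ'.range := by
      intro a
      have ha : a ∈ Subgroup.closure (Set.range Alt.g9) := by rw [Alt.closure_g9]; exact mem_top a
      refine ((Subgroup.closure_le (φ'.range.comap C.ψ)).2 ?_) ha
      rintro _ ⟨i, rfl⟩
      show C.ψ (Alt.g9 i) ∈ φ'.range
      induction i using Fin.lastCases with
      | cast i => rw [← inc9_g8, ← hsh]; exact hphi _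
      | last =>
        obtain ⟨-, -, -, -, -, -, -, e, -⟩ := ext_facts
        rw [e, map_mul, map_mul, map_inv, ← hsh]
        exact mul_mem (mul_mem (hphi _) hT) (inv_mem (hphi _))
    intro c hc
    obtain ⟨a, v, hv, rfl⟩ := C.cover c hc
    refine mul_mem (hψ a) ?_
    rw [← map_toAlt φ hag hv.facts.1]
    exact hphi _

end CfsgLib.Recog.CentTwelve
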