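import Cfsg.Agent.Lib.Recog.CentTwelve.AltPoints

/-!
The element inducing a three cycle on the first block centralises the point stabiliser of that block.
-/

set_option autoImplicit false
set_option maxRecDepth 20000

namespace CfsgLib.Recog.CentTwelve

open Equiv Subgroup

universe u

variable {G : Type u} [Group G] {α : G} {S : Setting α} {g : G}

/-- The property of the element inducing the three cycle `(1 2 3)`. -/
def Theta (S : Setting α) (g : G) : Prop :=
  g ^ 3 = 1 ∧ ∀ a ∈ D12, g * S.f a * g⁻¹ = S.f (th0 * a * th0⁻¹)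

/-- The elements centralised by `g`. -/
def Fixed (S : Setting α) (g : G) (a : P12) : Prop := a ∈ C12 ∧ g * S.f a * g⁻¹ = S.f a

theorem Fixed.mul {a b : P12} (ha : Fixed S g a) (hb : Fixed S g b) : Fixed S g (a * b) := by
  refine ⟨mul_mem ha.1 hb.1, ?_⟩
  rw [S.mul _ ha.1 _ hb.1]
  calc g * (S.f a * S.f b) * g⁻¹ = g * S.f a * g⁻¹ * (g * S.f b * g⁻¹) := by group
    _ = _ := by rw [ha.2, hb.2]

theorem Fixed.inv {a : P12} (ha : Fixed S g a) : Fixed S g a⁻¹ := by
  refine ⟨inv_mem ha.1, ?_⟩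
  rw [S.f_inv ha.1]
  calc g * (S.f a)⁻¹ * g⁻¹ = (g * S.f a * g⁻¹)⁻¹ := by group
    _ = _ := by rw [ha.2]

namespace Theta

variable (hg : Theta S g)
include hg

theorem fixed_D {a : P12} (ha : a ∈ D12) (h : th0 * a * th0⁻¹ = a) : Fixed S g a :=
  ⟨(mem_D12.1 ha).1, by rw [hg.2 a ha, h]⟩

/-- The image of an element centralising the first block and the involution on the others. -/
theorem exists_image {r : P12} (hr : r ∈ C12) (h0 : x0 * r = r * x0) (h1 : y0 * r = r * y0)
    (hz : x1 * x2 * r = r * (x1 * x2)) :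
    ∃ r' ∈ C12, x0 * r' = r' * x0 ∧ y0 * r' = r' * y0 ∧ x1 * x2 * r' = r' * (x1 * x2) ∧
      g * S.f r * g⁻¹ = S.f r' := by
  obtain ⟨mx, my, mx1, -, mx2, -, -⟩ := named_D
  have mz : x1 * x2 ∈ D12 := mul_mem mx1 mx2
  set G' := g * S.f r * g⁻¹ with hG'
  have move : ∀ {d : P12}, d ∈ D12 → d * r = r * d → Commute (S.f (th0 * d * th0⁻¹)) G' := fun hd h => by
    rw [hG', ← hg.2 _ hd]
    exact (show Commute (S.f _) (S.f r) from
      (S.commute_iff (mem_D12.1 hd).1 hr).2 h).map (MulAut.conj g).toMonoidHom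
  have hzf : Commute (S.f (x1 * x2)) G' := by
    have := move mz hz
    rwa [show th0 * (x1 * x2) * th0⁻¹ = x1 * x2 by decide +kernel] at this
  have hA : Commute (S.f y0) G' := by
    have := move mx h0
    rwa [show th0 * x0 * th0⁻¹ = y0 by decide +kernel] at this
  have hB : Commute (S.f x0) G' := by
    have := move (mul_mem mx my) (by rw [mul_assoc, h1, ← mul_assoc, h0, mul_assoc])
    rwa [show th0 * (x0 * y0) * th0⁻¹ = x0 by decide +kernel] at this
  obtain ⟨nx, ny, -⟩ := named_mem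
  have hzC : x1 * x2 ∈ C12 := (mem_D12.1 mz).1
  have hal : Commute (S.f al) G' := by
    rw [show al = x0 * (x1 * x2) by decide +kernel, S.mul _ nx _ hzC]
    exact hB.mul_left hzf
  rw [S.f_al] at hal
  obtain ⟨r', hr', e⟩ := S.exists_of_commute hal.eq.symm
  refine ⟨r', hr', (S.commute_iff nx hr').1 ?_, (S.commute_iff ny hr').1 ?_, (S.commute_iff hzC hr').1 ?_,
    e.symm⟩
  all_goals rw [e]
  exacts [hB.eq, hA.eq, hzf.eq]

/-- An element conjugating fixed elements among themselves, whose centraliser of them is inside the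
three blocks, is centralised up to an element of the first block. -/
theorem image_up_to_block {r : P12} (hr : r ∈ C12) (h0 : x0 * r = r * x0) (h1 : y0 * r = r * y0)
    (hz : x1 * x2 * r = r * (x1 * x2)) (L : List P12) (hL : ∀ k ∈ L, Fixed S g k)
    (hLr : ∀ k ∈ L, Fixed S g (r * k * r⁻¹))
    (hcen : ∀ q : P12, x0 * q = q * x0 → y0 * q = q * y0 → x1 * x2 * q = q * (x1 * x2) →
      (∀ k ∈ L, k * q = q * k) → q ∈ D12) :
    ∃ v, (v = 1 ∨ v = x0 ∨ v = y0 ∨ v = x0 * y0) ∧ g * S.f r * g⁻¹ = S.f (r * v) := by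
  obtain ⟨r', hr', p0, p1, pz, e⟩ := exists_image hg hr h0 h1 hz
  set q := r⁻¹ * r' with hq
  have hqC : q ∈ C12 := mul_mem (inv_mem hr) hr'
  have hcomm : ∀ {p : P12}, p * r = r * p → p * r' = r' * p → p * q = q * p := fun a b => by
    exact ((show Commute _ r from a).inv_right.mul_right b).eq
  have hk : ∀ k ∈ L, k * q = q * k := by
    intro k hk
    obtain ⟨hkC, hkf⟩ := hL k hk
    obtain ⟨hkC', hkf'⟩ := hLr k hk
    have hconj : S.f (r' * k * r'⁻¹) = S.f (r * k * r⁻¹) := by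
      rw [S.f_conj hr' hkC, ← e, ← hkf', S.f_conj hr hkC]
      conv_lhs => rw [← hkf]
      group
    have := S.inj _ (mul_mem (mul_mem hr' hkC) (inv_mem hr')) _ hkC' hconj
    calc k * q = r⁻¹ * (r * k * r⁻¹) * r' := by rw [hq]; group
      _ = r⁻¹ * (r' * k * r'⁻¹) * r' := by rw [this]
      _ = q * k := by rw [hq]; group
  have hqD : q ∈ D12 := hcen q (hcomm h0 p0) (hcomm h1 p1) (hcomm hz pz) hk
  obtain ⟨hq0, hq1, hq2, hq3, hq4, hq5⟩ := (mem_D12.1 hqD).2
  obtain ⟨i, hi⟩ := exists_dEl hq0 hq1 hq2 hq3 hq4 hq5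
  have e1 : g * S.f r * g⁻¹ = S.f r * S.f q := by
    rw [e, ← S.mul _ hr _ hqC, hq, mul_inv_cancel_left]
  obtain ⟨c, hc⟩ : ∃ c : G → G, ∀ x, c x = g * x * g⁻¹ := ⟨_, fun _ => rfl⟩
  have cmul : ∀ x y, c (x * y) = c x * c y := fun x y => by simp only [hc]; group
  have hth : ∀ a ∈ D12, th0 * a * th0⁻¹ ∈ D12 := by
    intro a ha
    obtain ⟨-, a0, a1, a2, a3, a4, a5⟩ := mem_D12.1 ha
    obtain ⟨j, rfl⟩ := exists_dEl a0 a1 a2 a3 a4 a5
    exact (show ∀ j, th0 * dEl j * th0⁻¹ ∈ D12 by decide +kernel) j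
  set q1 := th0 * q * th0⁻¹ with hq1d
  have hq1D : q1 ∈ D12 := hth q hqD
  set q2 := th0 * q1 * th0⁻¹ with hq2d
  have hq2D : q2 ∈ D12 := hth q1 hq1D
  have c3 : c (c (c (S.f r))) = S.f r := by
    calc c (c (c (S.f r))) = g ^ 3 * S.f r * (g ^ 3)⁻¹ := by
          simp only [hc, pow_succ, pow_zero, one_mul, mul_inv_rev, mul_assoc]
      _ = _ := by rw [hg.1]; group
  have hcq : c (S.f q) = S.f q1 := (hc _).trans (hg.2 q hqD)
  have hcq1 : c (S.f q1) = S.f q2 := (hc _).trans (hg.2 q1 hq1D)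
  have e1' : c (S.f r) = S.f r * S.f q := (hc _).trans e1
  rw [e1', cmul, e1', hcq, cmul, cmul, e1', hcq, hcq1, mul_assoc, mul_assoc] at c3
  have hprod : S.f (q * (q1 * q2)) = 1 := by
    rw [S.mul _ hqC _ (mul_mem (mem_D12.1 hq1D).1 (mem_D12.1 hq2D).1),
      S.mul _ (mem_D12.1 hq1D).1 _ (mem_D12.1 hq2D).1]
    exact mul_eq_left.1 c3
  have h1' := (S.eq_one_iff (mul_mem hqC (mul_mem (mem_D12.1 hq1D).1 (mem_D12.1 hq2D).1))).1 hprod
  rw [hq2d, hq1d, ← hi] at h1'
  refine ⟨q, ?_, by rw [e, hq, mul_inv_cancel_left]⟩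
  rw [← hi]
  exact (show ∀ i, dEl i * (th0 * dEl i * th0⁻¹ * (th0 * (th0 * dEl i * th0⁻¹) * th0⁻¹)) = 1 →
    dEl i = 1 ∨ dEl i = x0 ∨ dEl i = y0 ∨ dEl i = x0 * y0 by decide +kernel) i h1'

end Theta

/-- The generators of the stabiliser of the first block are fixed. -/
theorem AltPat.fixed_generators (P : AltPat S) (hg : Theta S g) :
    Fixed S g x1 ∧ Fixed S g y1 ∧ Fixed S g x2 ∧ Fixed S g y2 ∧ Fixed S g er ∧ Fixed S g b12 ∧
      Fixed S g cy := by
  obtain ⟨-, -, mx1, my1, mx2, my2, -⟩ := named_D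
  obtain ⟨nx, ny, -⟩ := named_mem
  have F1 := hg.fixed_D mx1 (by decide +kernel)
  have F2 := hg.fixed_D my1 (by decide +kernel)
  have F3 := hg.fixed_D mx2 (by decide +kernel)
  have F4 := hg.fixed_D my2 (by decide +kernel)
  have four : ∀ {q : P12}, x0 * q = q * x0 → y0 * q = q * y0 → (∀ k ∈ [x1, y1, x2, y2], k * q = q * k) →
      q ∈ D12 := fun a b h =>
    mem_D_of_commute a b (h x1 (by simp)) (h y1 (by simp)) (h x2 (by simp)) (h y2 (by simp))
  have keep : ∀ {r : P12}, r ∈ C12 → x0 * r = r * x0 → y0 * r = r * y0 →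
      x1 * x2 * r = r * (x1 * x2) →
      Fixed S g (r * x1 * r⁻¹) → Fixed S g (r * y1 * r⁻¹) → Fixed S g (r * x2 * r⁻¹) →
      Fixed S g (r * y2 * r⁻¹) →
      ∃ v, (v = 1 ∨ v = x0 ∨ v = y0 ∨ v = x0 * y0) ∧ g * S.f r * g⁻¹ = S.f (r * v) := by
    intro r hr a b c d1 d2 d3 d4
    refine hg.image_up_to_block hr a b c [x1, y1, x2, y2] ?_ ?_ fun q p0 p1 _ h => four p0 p1 h
    · simp only [List.forall_mem_cons, List.not_mem_nil, false_implies, implies_true, and_true]
      exact ⟨F1, F2, F3, F4⟩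
    · simp only [List.forall_mem_cons, List.not_mem_nil, false_implies, implies_true, and_true]
      exact ⟨d1, d2, d3, d4⟩
  have b12C : b12 ∈ C12 := named_mem.2.2.2.2.2.2.2
  have F5 : Fixed S g er := by
    obtain ⟨v, hv, e⟩ := keep er_mem (by decide +kernel) (by decide +kernel) (by decide +kernel)
      (by rw [show er * x1 * er⁻¹ = x1 by decide +kernel]; exact F1)
      (by rw [show er * y1 * er⁻¹ = x1 * y1 by decide +kernel]; exact F1.mul F2)
      (by rw [show er * x2 * er⁻¹ = x2 by decide +kernel]; exact F3)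
      (by rw [show er * y2 * er⁻¹ = x2 * y2 by decide +kernel]; exact F3.mul F4)
    refine ⟨er_mem, ?_⟩
    have hc : IsConj (S.f x0) (S.f (er * v)) := by
      refine IsConj.trans ?_ (isConj_iff.2 ⟨g, e⟩)
      exact S.isConj_f nx (c := b01 * b12 * p12) (by decide +kernel) (by decide +kernel)
    rcases hv with rfl | rfl | rfl | rfl
    · rwa [mul_one] at e
    · exact absurd (hc.trans (S.isConj_f (a := x0 * x1) (by decide +kernel)
        (c := b01 * b12 * p12 * b12) (by decide +kernel) (by decide +kernel)).symm) P.sep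
    · exact absurd (hc.trans ((P.join.trans (S.isConj_f (a := x0 * y1) (by decide +kernel)
        (c := b01 * b12 * p12 * b12) (by decide +kernel) (by decide +kernel))).symm)) P.sep
    · exact absurd (hc.trans ((P.join.trans (S.isConj_f (a := x0 * y1) (by decide +kernel)
        (c := q01 * b01 * b12 * p12 * b12) (by decide +kernel) (by decide +kernel))).symm)) P.sep
  have F6 : Fixed S g b12 := by
    obtain ⟨v, hv, e⟩ := keep b12C (by decide +kernel) (by decide +kernel) (by decide +kernel)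
      (by rw [show b12 * x1 * b12⁻¹ = x2 by decide +kernel]; exact F3)
      (by rw [show b12 * y1 * b12⁻¹ = y2 by decide +kernel]; exact F4)
      (by rw [show b12 * x2 * b12⁻¹ = x1 by decide +kernel]; exact F1)
      (by rw [show b12 * y2 * b12⁻¹ = y1 by decide +kernel]; exact F2)
    refine ⟨b12C, ?_⟩
    have hnot : ¬ IsConj α (S.f b12) := fun h =>
      absurd ((P.fus b12 b12C (by decide +kernel) (by decide +kernel)).1 h) (by decide +kernel)
    have hk : ∀ w, w ∈ C12 → w * w = 1 → w ≠ 1 → Fpf w → S.f w ≠ g * S.f b12 * g⁻¹ := by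
      intro w hw h2 h1 hf he
      exact hnot (((P.fus w hw h2 h1).2 hf).trans (he ▸ (isConj_iff.2 ⟨g, rfl⟩ :
        IsConj (S.f b12) (g * S.f b12 * g⁻¹)).symm))
    rcases hv with rfl | rfl | rfl | rfl
    · rwa [mul_one] at e
    all_goals exact absurd e.symm (hk _ (by decide +kernel) (by decide +kernel) (by decide +kernel)
      (by decide +kernel))
  refine ⟨F1, F2, F3, F4, F5, F6, cy_mem, ?_⟩
  obtain ⟨v, hv, e⟩ := hg.image_up_to_block cy_mem (by decide +kernel) (by decide +kernel)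
    (by decide +kernel) [x1, x2, er, b12, y1 * y2]
    (by
      simp only [List.forall_mem_cons, List.not_mem_nil, false_implies, implies_true, and_true]
      exact ⟨F1, F3, F5, F6, F2.mul F4⟩)
    (by
      simp only [List.forall_mem_cons, List.not_mem_nil, false_implies, implies_true, and_true]
      refine ⟨?_, ?_, ?_, ?_, ?_⟩
      · rw [show cy * x1 * cy⁻¹ = x1 * er by decide +kernel]; exact F1.mul F5
      · rw [show cy * x2 * cy⁻¹ = x2 * er by decide +kernel]; exact F3.mul F5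
      · rw [show cy * er * cy⁻¹ = x1 by decide +kernel]; exact F1
      · rw [show cy * b12 * cy⁻¹ = y1 * y2 by decide +kernel]; exact F2.mul F4
      · rw [show cy * (y1 * y2) * cy⁻¹ = y1 * y2 * b12 by decide +kernel]; exact (F2.mul F4).mul F6)
    fun q p0 p1 _ h => by
      obtain ⟨a, b⟩ := commute_blocks_of_regular (h x1 (by simp)) (h x2 (by simp)) (h er (by simp))
        (h b12 (by simp)) (h (y1 * y2) (by simp))
      exact mem_D_of_commute p0 p1 (h x1 (by simp)) a (h x2 (by simp)) b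
  have hc3 : S.f ((cy * v) ^ 3) = 1 := by
    rw [S.f_pow (mul_mem cy_mem (by rcases hv with rfl | rfl | rfl | rfl <;> decide +kernel)), ← e,
      conj_pow, ← S.f_pow cy_mem, show cy ^ 3 = 1 by decide +kernel, S.f_one, mul_one, mul_inv_cancel]
  rcases hv with rfl | rfl | rfl | rfl
  · rwa [mul_one] at e
  all_goals exact absurd ((S.eq_one_iff (pow_mem (by decide +kernel) 3)).1 hc3) (by decide +kernel)

end CfsgLib.Recog.CentTwelve
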