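import Cfsg.Agent.Lib.Recog.CentTwelve.AltData
import Cfsg.Agent.Lib.Recog.QSThree.AltNorm

/-!
The fusion in the quotient is the fusion of `A₈`, which embeds.
-/

set_option autoImplicit false
set_option maxRecDepth 100000

namespace CfsgLib.Recog.CentTwelve

open Equiv Subgroup CfsgLib.Recog.QSThree

universe u

variable {G : Type u} [Group G] {α : G} {S : Setting α} {g : G}

/-- The element inducing the three cycle on the image of the first block under `h`. -/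
def moved (S : Setting α) (g : G) (h : P12) : G := S.f h * g * (S.f h)⁻¹

theorem moved_cube (hg : Theta S g) (h : P12) : moved S g h ^ 3 = 1 := by
  rw [moved, conj_pow, hg.1, mul_one, mul_inv_cancel]

theorem moved_act (hg : Theta S g) {h : P12} (hh : h ∈ C12) {d : P12} (hd : d ∈ D12)
    (hd' : h⁻¹ * d * h ∈ D12) :
    moved S g h * S.f d * (moved S g h)⁻¹ =
      S.f ((h * th0 * h⁻¹) * d * (h * th0 * h⁻¹)⁻¹) := by
  have hd0 := (mem_D12.1 hd').1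
  have himg : th0 * (h⁻¹ * d * h) * th0⁻¹ ∈ C12 := by
    obtain ⟨-, a0, a1, a2, a3, a4, a5⟩ := mem_D12.1 hd'
    obtain ⟨i, hi⟩ := exists_dEl a0 a1 a2 a3 a4 a5
    rw [← hi]
    exact (show ∀ j, th0 * dEl j * th0⁻¹ ∈ C12 by decide +kernel) i
  have e : S.f d = S.f h * S.f (h⁻¹ * d * h) * (S.f h)⁻¹ := by
    rw [← S.f_conj hh hd0]
    congr 1
    group
  rw [show (h * th0 * h⁻¹) * d * (h * th0 * h⁻¹)⁻¹ = h * (th0 * (h⁻¹ * d * h) * th0⁻¹) * h⁻¹ by group,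
    S.f_conj hh himg, ← hg.2 _ hd', e, moved]
  group

theorem moved_mem_CV (hg : Theta S g) {h : P12} (hh : h ∈ C12)
    (h0 : h⁻¹ * x0 * h ∈ D12 ∧ h * th0 * h⁻¹ * x0 = x0 * (h * th0 * h⁻¹))
    (h1 : h⁻¹ * y0 * h ∈ D12 ∧ h * th0 * h⁻¹ * y0 = y0 * (h * th0 * h⁻¹)) :
    moved S g h ∈ CV S := by
  refine (mem_CV S).2 ⟨mul_inv_eq_iff_eq_mul.1 ?_, mul_inv_eq_iff_eq_mul.1 ?_⟩
  · rw [moved_act hg hh named_D.1 h0.1, mul_inv_eq_iff_eq_mul.2 h0.2]
  · rw [moved_act hg hh named_D.2.1 h1.1, mul_inv_eq_iff_eq_mul.2 h1.2]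

/-- The element of the second block. -/
def t1 (S : Setting α) (g : G) : G := moved S g b01
/-- The element of the third block. -/
def t2 (S : Setting α) (g : G) : G := moved S g (b12 * b01)

theorem b21_mem : b12 * b01 ∈ C12 := by decide +kernel

theorem t1_mem (hg : Theta S g) : t1 S g ∈ CV S :=
  moved_mem_CV hg named_mem.2.2.2.2.2.2.1 (by decide +kernel) (by decide +kernel)

theorem t2_mem (hg : Theta S g) : t2 S g ∈ CV S :=
  moved_mem_CV hg b21_mem (by decide +kernel) (by decide +kernel)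

theorem act_facts :
    (b01⁻¹ * (x1 * x2) * b01 ∈ D12 ∧ b01 * th0 * b01⁻¹ * (x1 * x2) * (b01 * th0 * b01⁻¹)⁻¹ = y1 * x2) ∧
    ((b12 * b01)⁻¹ * (y1 * x2) * (b12 * b01) ∈ D12 ∧
      b12 * b01 * th0 * (b12 * b01)⁻¹ * (y1 * x2) * (b12 * b01 * th0 * (b12 * b01)⁻¹)⁻¹ = y1 * y2) ∧
    ((b12 * b01)⁻¹ * (y1 * y2) * (b12 * b01) ∈ D12 ∧
      b12 * b01 * th0 * (b12 * b01)⁻¹ * (y1 * y2) * (b12 * b01 * th0 * (b12 * b01)⁻¹)⁻¹ =
        y1 * (x2 * y2)) := by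
  decide +kernel

theorem prods_mem : x1 * x2 ∈ D12 ∧ y1 * x2 ∈ D12 ∧ y1 * y2 ∈ D12 ∧ y1 * (x2 * y2) ∈ D12 := by
  decide +kernel

theorem f_D_mem {d : P12} (hd : d ∈ D12) : S.f d ∈ CV S :=
  f_mem_CV S (mem_D12.1 hd).1 (mem_D12.1 hd).2.1 (mem_D12.1 hd).2.2.1

theorem isConj_step {c : G} (hc : c ∈ CV S) {a b : P12} (ha : a ∈ D12)
    (e : c * S.f a * c⁻¹ = S.f b) : IsConj (cls S (S.f a)) (cls S (S.f b)) :=
  isConj_iff.2 ⟨cls S c, by
    rw [← cls_inv S hc, ← cls_mul S hc (f_D_mem ha),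
      ← cls_mul S (mul_mem hc (f_D_mem ha)) (inv_mem hc), e]⟩

variable (P : AltPat S)
include P

/-- The three fused classes. -/
theorem fused (hg : Theta S g) : IsConj (zV S) (cls S (S.f (y1 * x2))) ∧
    IsConj (zV S) (cls S (S.f (y1 * y2))) ∧ IsConj (zV S) (cls S (S.f (y1 * (x2 * y2)))) := by
  obtain ⟨⟨a1, e1⟩, ⟨a2, e2⟩, ⟨a3, e3⟩⟩ := act_facts
  obtain ⟨m0, m1, m2, -⟩ := prods_mem
  have c1 : IsConj (zV S) (cls S (S.f (y1 * x2))) := by
    rw [zV_eq]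
    exact isConj_step (t1_mem hg) m0 (by rw [t1, moved_act hg named_mem.2.2.2.2.2.2.1 m0 a1, e1])
  have c2 : IsConj (zV S) (cls S (S.f (y1 * y2))) :=
    c1.trans (isConj_step (t2_mem hg) m1 (by rw [t2, moved_act hg b21_mem m1 a2, e2]))
  exact ⟨c1, c2, c2.trans (isConj_step (t2_mem hg) m2 (by rw [t2, moved_act hg b21_mem m2 a3, e3]))⟩

theorem fus_of {k r : ℕ} (hk : k < 192) (hr : r < 192) {t : P12} (ht : t ∈ D12)
    (e : emb r = emb k * t * (emb k)⁻¹) (h : IsConj (zV S) (cls S (S.f t))) :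
    IsConj (zV S) ((dataV P).el r) := by
  refine h.trans (isConj_iff.2 ⟨cls S (S.f (emb k)), ?_⟩)
  have hk' := emb_mem_CV S hk
  show _ = cls S (S.f (emb r))
  rw [← cls_inv S hk', ← cls_mul S hk' (f_D_mem ht),
    ← cls_mul S (mul_mem hk' (f_D_mem ht)) (inv_mem hk'), e,
    S.f_conj (emb_commute hk).1 (mem_D12.1 ht).1]

theorem good (hg : Theta S g) : Alt.Good (dataV P) := by
  obtain ⟨c1, c2, c3⟩ := fused P hg
  obtain ⟨m0, m1, m2, m3⟩ := prods_mem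
  obtain ⟨e5, e6, e96, r2, r3, r4, r5, r6⟩ := reps_eq
  refine ⟨?_, ?_, ?_, ?_, ?_⟩ <;> unfold Alt.Fus
  · rw [r2]; exact fus_of P (by norm_num) (by norm_num) m3 e5 c3
  · rw [r3]; exact fus_of P (by norm_num) (by norm_num) m2 e6 c2
  · rw [r4]; exact not_conj_el P (by norm_num) not_fused_facts
  · rw [r5]; exact fus_of P (by norm_num) (by norm_num) m1 e96 c1
  · rw [r6]; exact not_conj_el P (by norm_num) not_fused_facts'

theorem exists_embV [Finite G] (hg : Theta S g) : Nonempty (Alt.Emb (dataV P)) :=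
  Alt.exists_emb (dataV P) (zV_order P) (good P hg)

end CfsgLib.Recog.CentTwelve
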