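import Cfsg.Agent.Lib.Recog.CentTwelve.AltGood
import Cfsg.Agent.Lib.Recog.QSThree.Alt

/-!
The element inducing the three cycle is trivial on the quotient, whose group lifts to its centraliser.
-/

set_option autoImplicit false
set_option maxRecDepth 100000

namespace CfsgLib.Recog.CentTwelve

open Equiv Subgroup CfsgLib.Recog.QSThree CfsgLib.InvChar.Coset

universe u

variable {G : Type u} [Group G] {α : G} {S : Setting α} {g : G}

theorem conj_mem_CV (hg : Theta S g) {c : G} (hc : c ∈ CV S) : g * c * g⁻¹ ∈ CV S := by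
  obtain ⟨h0, h1⟩ := (mem_CV S).1 hc
  have key : ∀ d ∈ D12, c * S.f d = S.f d * c → ∀ e : P12, th0 * d * th0⁻¹ = e →
      g * c * g⁻¹ * S.f e = S.f e * (g * c * g⁻¹) := by
    intro d hd hcd e he
    rw [← he, ← hg.2 d hd]
    exact ((show Commute c (S.f d) from hcd).map (MulAut.conj g).toMonoidHom).eq
  refine (mem_CV S).2 ⟨key (x0 * y0) (mul_mem named_D.1 named_D.2.1) ?_ _ (by decide +kernel),
    key x0 named_D.1 h0 _ (by decide +kernel)⟩
  rw [S.mul _ named_mem.1 _ named_mem.2.1, ← mul_assoc, h0, mul_assoc, h1, mul_assoc]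

theorem conj_blk (hg : Theta S g) {v : P12} (hv : Blk v) :
    ∃ w, Blk w ∧ w = th0 * v * th0⁻¹ ∧ g * S.f v * g⁻¹ = S.f w := by
  refine ⟨_, ?_, rfl, hg.2 v ?_⟩
  · rcases hv with rfl | rfl | rfl | rfl <;> unfold Blk <;> decide +kernel
  · rcases hv with rfl | rfl | rfl | rfl <;> decide +kernel

/-- The automorphism of the quotient induced by `g`. -/
noncomputable def thQ (hg : Theta S g) : XV S →* XV S :=
  QuotientGroup.lift (NV S)
    ((QuotientGroup.mk' (NV S)).comp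
      { toFun := fun c => (⟨g * (c : G) * g⁻¹, conj_mem_CV hg c.2⟩ : CV S)
        map_one' := Subtype.ext (by simp)
        map_mul' := fun a b => Subtype.ext (by simp [mul_assoc]) })
    fun c hc => by
      obtain ⟨v, hv, e⟩ := (mem_NV S).1 hc
      obtain ⟨w, hw, -, e'⟩ := conj_blk hg hv
      rw [MonoidHom.mem_ker, MonoidHom.comp_apply, QuotientGroup.mk'_apply, QuotientGroup.eq_one_iff]
      exact (mem_NV S).2 ⟨w, hw, by simp [e, e']⟩

theorem thQ_cls (hg : Theta S g) {c : G} (hc : c ∈ CV S) :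
    thQ hg (cls S c) = cls S (g * c * g⁻¹) := by
  rw [cls_of S hc, cls_of S (conj_mem_CV hg hc)]
  rfl

theorem thQ_cube (hg : Theta S g) (x : XV S) : thQ hg (thQ hg (thQ hg x)) = x := by
  obtain ⟨c, hc, rfl⟩ := exists_cls S x
  rw [thQ_cls hg hc, thQ_cls hg (conj_mem_CV hg hc), thQ_cls hg (conj_mem_CV hg (conj_mem_CV hg hc))]
  congr 1
  calc g * (g * (g * c * g⁻¹) * g⁻¹) * g⁻¹ = g ^ 3 * c * (g ^ 3)⁻¹ := by
        simp only [pow_succ, pow_zero, one_mul, mul_inv_rev, mul_assoc]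
    _ = c := by rw [hg.1]; group

theorem blk_facts : (∀ v ∈ [1, x0, y0, x0 * y0], th0 * v * th0⁻¹ = v → v = 1) ∧
    (∀ v ∈ [1, x0, y0, x0 * y0], ∃ w ∈ [1, x0, y0, x0 * y0], v * (th0 * w * th0⁻¹) = w) := by
  simp only [List.forall_mem_cons, List.exists_mem_cons_iff, List.not_mem_nil, false_implies, implies_true,
    and_true, false_and, exists_false, or_false]
  decide +kernel

theorem blk_iff {v : P12} : Blk v ↔ v ∈ [1, x0, y0, x0 * y0] := by simp [Blk]

/-- A fixed element of the quotient has exactly one fixed preimage. -/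
theorem exists_lift (hg : Theta S g) {x : XV S} (hx : thQ hg x = x) :
    ∃ c ∈ CV S, g * c * g⁻¹ = c ∧ cls S c = x := by
  obtain ⟨c, hc, rfl⟩ := exists_cls S x
  rw [thQ_cls hg hc, eq_comm, cls_eq_iff S hc (conj_mem_CV hg hc)] at hx
  obtain ⟨v, hv, e⟩ := hx
  obtain ⟨w, hw, ew⟩ := blk_facts.2 v (blk_iff.1 hv)
  have hw' := blk_iff.2 hw
  obtain ⟨u, hu, hu', eu⟩ := conj_blk hg hw'
  refine ⟨c * S.f w, mul_mem hc (f_mem_CV S hw'.facts.1 hw'.facts.2.1 hw'.facts.2.2), ?_, ?_⟩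
  · calc g * (c * S.f w) * g⁻¹ = g * c * g⁻¹ * (g * S.f w * g⁻¹) := by group
      _ = c * (S.f v * S.f u) := by rw [e, eu, mul_assoc]
      _ = c * S.f w := by rw [← S.mul _ hv.facts.1 _ hu.facts.1, hu', ew]
  · refine ((cls_eq_iff S hc (mul_mem hc (f_mem_CV S hw'.facts.1 hw'.facts.2.1 hw'.facts.2.2))).2
      ⟨w, hw', rfl⟩).symm

theorem lift_unique (hg : Theta S g) {c d : G} (hc : c ∈ CV S) (hd : d ∈ CV S)
    (hcf : g * c * g⁻¹ = c) (hdf : g * d * g⁻¹ = d) (h : cls S c = cls S d) : c = d := by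
  obtain ⟨v, hv, e⟩ := (cls_eq_iff S hc hd).1 h
  obtain ⟨w, hw, hw', ew⟩ := conj_blk hg hv
  have : S.f w = S.f v := by
    apply mul_left_cancel (a := c)
    calc c * S.f w = g * c * g⁻¹ * (g * S.f v * g⁻¹) := by rw [hcf, ew]
      _ = g * (c * S.f v) * g⁻¹ := by group
      _ = c * S.f v := by rw [← e, hdf, e]
  have hwv := S.inj _ hw.facts.1 _ hv.facts.1 this
  rw [hw'] at hwv
  rw [e, blk_facts.1 v (blk_iff.1 hv) hwv, S.f_one, mul_one]

variable (P : AltPat S)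
include P

/-- The numbered elements are centralised. -/
theorem emb_fixed (hg : Theta S g) {i : ℕ} (hi : i < 192) : g * S.f (emb i) * g⁻¹ = S.f (emb i) := by
  obtain ⟨F1, F2, F3, F4, F5, F6, F7⟩ := P.fixed_generators hg
  obtain ⟨e0, e1, e2, e3⟩ := letters_eq
  refine (emb_induction (p := Fixed S g) ⟨C12.one_mem, by rw [S.f_one]; group⟩
    (fun a b => Fixed.mul) (fun x hx => ?_) hi).2
  interval_cases x
  · rw [e0]; exact ((F5.mul F6).mul F7).mul F2
  · rw [e1]; exact ((F1.mul F3).mul F7).mul F2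
  · rw [e2]; exact ((F1.mul F7).mul F2).mul F3
  · rw [e3]; exact (((F1.mul F2).mul F3).mul F6).mul F7

theorem thQ_el (hg : Theta S g) {i : ℕ} (hi : i < 192) :
    thQ hg ((dataV P).el i) = (dataV P).el i := by
  show thQ hg (cls S (S.f (emb i))) = cls S (S.f (emb i))
  rw [thQ_cls hg (emb_mem_CV S hi), emb_fixed P hg hi]

omit P in
/-- Facts on the numbered group: elements centralising both four-groups, and words for the generators. -/
theorem model_facts :
    Tab.all192 (fun i => !(tabA.comm i 7 && tabA.comm i 183 && tabA.comm i 23 && tabA.comm i 186) ||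
      [0, 7, 183, 23, 186, tabA.mul 7 183, tabA.mul 23 186].contains i ||
      [(7, 23), (7, 186), (7, tabA.mul 23 186), (183, 23), (183, 186), (183, tabA.mul 23 186),
        (tabA.mul 7 183, 23), (tabA.mul 7 183, 186), (tabA.mul 7 183, tabA.mul 23 186)].any
          (fun p => Nat.beq (tabA.mul p.1 p.2) i)) = true ∧
    tabA.mul 7 23 = 16 ∧
    Alt.g8 0 = [Alt.gA 3, Alt.gA 1, Alt.eC, Alt.gA 1, Alt.gA 3].prod ∧
    Alt.g8 1 = [Alt.gA 2, Alt.gA 3, Alt.gA 1, Alt.gA 2, Alt.gA 3, Alt.eC, Alt.gA 2].prod ∧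
    Alt.g8 2 = [Alt.gA 3, Alt.gA 0, Alt.gA 2, Alt.eC, Alt.gA 0, Alt.gA 2, Alt.gA 3].prod ∧
    Alt.g8 3 = [Alt.gA 1, Alt.gA 3, Alt.gA 0, Alt.gA 1, Alt.eC, Alt.gA 0, Alt.gA 1, Alt.gA 3, Alt.gA 1].prod ∧
    Alt.g8 4 = [Alt.eC, Alt.gA 3, Alt.gA 1, Alt.gA 2, Alt.gA 3].prod ∧
    Alt.g8 5 = [Alt.eC, Alt.eC, Alt.gA 3, Alt.gA 1, Alt.gA 2, Alt.gA 3].prod ∧
    (∀ x : Fin 4, Alt.gA x.val = Alt.nm ([96, 101, 107, 128].getD x.val 0)) ∧
    Alt.eC ^ 3 = 1 ∧ Alt.eC * Alt.eT = Alt.eT * Alt.eC ∧ Alt.eC * Alt.eP = Alt.eP * Alt.eC ∧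
    (∀ w ∈ [1, Alt.eW, Alt.eW', Alt.eW * Alt.eW'], Alt.eC * w * Alt.eC⁻¹ ∈ [1, Alt.eW, Alt.eW', Alt.eW * Alt.eW']) := by
  refine ⟨?_, ?_, ?_, ?_, ?_, ?_, ?_, ?_, ?_, ?_, ?_, ?_, ?_⟩
  iterate 12 decide +kernel
  simp only [List.forall_mem_cons, List.not_mem_nil, false_implies, implies_true, and_true]
  decide +kernel

theorem thQ_map (hg : Theta S g) (E : Alt.Emb (dataV P)) (a : alternatingGroup (Fin 8)) :
    thQ hg (E.α a) = E.α a := by
  obtain ⟨hfour, h723, w0, w1, w2, w3, w4, w5, hgA, hc3, hcT, hcP, hcW⟩ := model_facts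
  set M : Subgroup (alternatingGroup (Fin 8)) := ((thQ hg).comp E.α).eqLocus E.α with hMdef
  have hM : ∀ b, b ∈ M ↔ thQ hg (E.α b) = E.α b := fun b => Iff.rfl
  have hnm : ∀ i < 192, Alt.nm i ∈ M := fun i hi => by
    rw [hM, E.map_nm i hi]; exact thQ_el P hg hi
  have hfix : ∀ b ∈ [(1 : alternatingGroup (Fin 8)), Alt.eT, Alt.eP, Alt.eW, Alt.eW'], b ∈ M := by
    simp only [List.forall_mem_cons, List.not_mem_nil, false_implies, implies_true, and_true]
    obtain ⟨-, n7, n183, n23, n186, -, -⟩ := Alt.nm_facts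
    exact ⟨one_mem _, n7 ▸ hnm 7 (by norm_num), n183 ▸ hnm 183 (by norm_num), n23 ▸ hnm 23 (by norm_num),
      n186 ▸ hnm 186 (by norm_num)⟩
  have hT : Alt.eT ∈ M := hfix _ (by simp)
  have hP : Alt.eP ∈ M := hfix _ (by simp)
  have hW : Alt.eW ∈ M := hfix _ (by simp)
  have hW' : Alt.eW' ∈ M := hfix _ (by simp)
  have hWW : ∀ w ∈ [1, Alt.eW, Alt.eW', Alt.eW * Alt.eW'], w ∈ M := by
    simp only [List.forall_mem_cons, List.not_mem_nil, false_implies, implies_true, and_true]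
    exact ⟨one_mem _, hW, hW', mul_mem hW hW'⟩
  set y := (E.α Alt.eC)⁻¹ * thQ hg (E.α Alt.eC) with hy
  have hcomm : ∀ b ∈ M, Alt.eC * b * Alt.eC⁻¹ ∈ M → y * E.α b = E.α b * y := by
    intro b hb hb'
    rw [hM] at hb hb'
    rw [map_mul, map_mul, map_inv, map_mul, map_mul, map_inv, hb] at hb'
    have e : thQ hg (E.α Alt.eC) * E.α b =
        E.α Alt.eC * E.α b * (E.α Alt.eC)⁻¹ * thQ hg (E.α Alt.eC) := mul_inv_eq_iff_eq_mul.1 hb'
    rw [hy, mul_assoc, e]
    group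
  have yT := hcomm _ hT (by rw [hcT, mul_inv_cancel_right]; exact hT)
  have yP := hcomm _ hP (by rw [hcP, mul_inv_cancel_right]; exact hP)
  have yW := hcomm _ hW (hWW _ (hcW _ (by simp)))
  have yW' := hcomm _ hW' (hWW _ (hcW _ (by simp)))
  obtain ⟨-, n7, n183, n23, n186, -, -⟩ := Alt.nm_facts
  rw [E.map_T] at yT
  rw [E.map_P] at yP
  rw [E.map_W] at yW
  rw [E.map_W'] at yW'
  have ys : y * zV S = zV S * y := by
    rw [show zV S = (dataV P).el 7 * (dataV P).el 23 by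
      rw [(dataV P).el_mul (by norm_num) (by norm_num), h723]; rfl]
    exact (Commute.mul_right yT yW).eq
  obtain ⟨i, hi, ei⟩ := (dataV P).mem.1 ys
  rw [← ei] at yT yP yW yW'
  have hc := Tab.all192_get hfour hi
  rw [((dataV P).el_commute tabA_ok hi (by norm_num)).1 yT, ((dataV P).el_commute tabA_ok hi (by norm_num)).1 yP,
    ((dataV P).el_commute tabA_ok hi (by norm_num)).1 yW,
    ((dataV P).el_commute tabA_ok hi (by norm_num)).1 yW'] at hc
  simp only [Bool.and_self, Bool.not_true, Bool.false_or] at hc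
  have hiM : Alt.nm i ∈ M := hnm i hi
  have hy2 : E.α (Alt.nm i) * E.α (Alt.nm i) = 1 := by
    have hlist : ∀ j ∈ [0, 7, 183, 23, 186, tabA.mul 7 183, tabA.mul 23 186] ++
        [(7, 23), (7, 186), (7, tabA.mul 23 186), (183, 23), (183, 186), (183, tabA.mul 23 186),
        (tabA.mul 7 183, 23), (tabA.mul 7 183, 186), (tabA.mul 7 183, tabA.mul 23 186)].map
          (fun p : ℕ × ℕ => tabA.mul p.1 p.2), tabA.mul j j = 0 := by
      simp only [List.map_cons, List.map_nil, List.cons_append, List.nil_append, List.forall_mem_cons,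
        List.not_mem_nil, false_implies, implies_true, and_true]
      decide +kernel
    rw [E.map_nm i hi, (dataV P).el_mul hi hi, hlist i ?_, (dataV P).el_zero]
    rw [List.mem_append, List.mem_map]
    rcases Bool.or_eq_true_iff.1 hc with h | h
    · exact Or.inl (List.contains_iff_mem.1 h)
    · obtain ⟨p, hp, h⟩ := List.any_eq_true.1 h
      exact Or.inr ⟨p, hp, Nat.eq_of_beq_eq_true h⟩
  have e1 : thQ hg (E.α Alt.eC) = E.α Alt.eC * E.α (Alt.nm i) := by
    rw [E.map_nm i hi, ei, hy, mul_inv_cancel_left]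
  have e3 := thQ_cube hg (E.α Alt.eC)
  have hifix : thQ hg (E.α (Alt.nm i)) = E.α (Alt.nm i) := (hM _).1 hiM
  rw [e1, map_mul, e1, hifix, map_mul, map_mul, e1, hifix, mul_assoc, mul_assoc, mul_eq_left, hy2,
    mul_one] at e3
  rw [e3, mul_one] at e1
  have hC : Alt.eC ∈ M := e1
  have hL : ∀ x < 4, Alt.gA x ∈ M := by
    intro x hx
    rw [hgA ⟨x, hx⟩]
    refine hnm _ ?_
    interval_cases x <;> norm_num
  suffices htop : M = ⊤ from (hM a).1 (htop ▸ mem_top a)
  have hwords : ∀ l : List (alternatingGroup (Fin 8)), (∀ b ∈ l, b ∈ M) → l.prod ∈ M :=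
    fun l hl => list_prod_mem hl
  rw [eq_top_iff, ← Alt.closure_g8, closure_le]
  rintro _ ⟨j, rfl⟩
  have a0 := hL 0 (by norm_num)
  have a1 := hL 1 (by norm_num)
  have a2 := hL 2 (by norm_num)
  have a3 := hL 3 (by norm_num)
  have step : ∀ {b : alternatingGroup (Fin 8)} {l : List (alternatingGroup (Fin 8))}, b = l.prod →
      (∀ c ∈ l, c ∈ M) → b ∈ M := fun e hl => e ▸ hwords _ hl
  fin_cases j
  exacts [step w0 (by simp [hC, a0, a1, a2, a3]), step w1 (by simp [hC, a0, a1, a2, a3]),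
    step w2 (by simp [hC, a0, a1, a2, a3]), step w3 (by simp [hC, a0, a1, a2, a3]),
    step w4 (by simp [hC, a0, a1, a2, a3]), step w5 (by simp [hC, a0, a1, a2, a3])]

/-- The ninth point is fixed as well. -/
theorem thQ_om [Finite G] (hg : Theta S g) {E : Alt.Emb (dataV P)} (K : E.Ninth) :
    thQ hg K.om = K.om := by
  have hT := thQ_map P hg E Alt.eT
  have hP := thQ_map P hg E Alt.eP
  have hR := thQ_map P hg E Alt.eR
  obtain ⟨hmT, hmP⟩ := (Alt.Emb.mem_CV E).1 K.om_mem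
  have hmR : K.om * E.α Alt.eR = E.α Alt.eR * K.om := (mul_inv_eq_iff_eq_mul.1 K.conj_R_om).symm
  have mT := congrArg (thQ hg) hmT
  have mP := congrArg (thQ hg) hmP
  have mR := congrArg (thQ hg) hmR
  rw [map_mul, map_mul, hT] at mT
  rw [map_mul, map_mul, hP] at mP
  rw [map_mul, map_mul, hR] at mR
  have h3 : thQ hg K.om ^ 3 = 1 := by rw [← map_pow, Alt.Emb.Ninth.om_cube K, map_one]
  rcases K.fixed_R (thQ hg K.om) ((Alt.Emb.mem_CV E).2 ⟨mT, mP⟩) h3 mR with e | e | e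
  · have := thQ_cube hg K.om
    rw [e, map_one, map_one] at this
    rw [← this, map_one]
  · exact e
  · have := thQ_cube hg K.om
    rw [e, map_inv, e, inv_inv, e] at this
    rw [e, this]

end CfsgLib.Recog.CentTwelve
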