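/-! # Conjugating words for pairs of three cycles (generated values) -/

set_option autoImplicit false

namespace CfsgLib.Recog.CentTwelve

/-- Words conjugating `(1 2 3)` to the three cycles `(0 1 i)`. -/
def cycWords : List (List Nat) := [
  [1, 5],
  [1],
  [2, 1, 5],
  [2, 1],
  [3, 0, 1, 2],
  [3, 1, 2],
  [4, 2, 1, 5],
  [4, 2, 1],
  [4, 3, 0, 1, 2],
  [4, 3, 1, 2]]

/-- For each pair a word moving both cycles to the last eight points, and the numbers describing them. -/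
def pairRows : List (Nat × Nat × List Nat × Nat × Nat × Nat × Nat) := [
  (0, 1, [3], 19, 164, 26, 189),
  (0, 2, [3, 4], 19, 171, 65, 27),
  (0, 3, [3, 4], 19, 171, 72, 27),
  (0, 4, [3, 4], 19, 171, 41, 28),
  (0, 5, [3, 4], 19, 171, 39, 27),
  (0, 6, [3], 19, 164, 65, 27),
  (0, 7, [3], 19, 164, 72, 27),
  (0, 8, [3], 19, 164, 41, 28),
  (0, 9, [3], 19, 164, 39, 27),
  (1, 2, [3, 4], 26, 171, 65, 27),
  (1, 3, [3, 4], 26, 171, 72, 27),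
  (1, 4, [3, 4], 26, 171, 41, 28),
  (1, 5, [3, 4], 26, 171, 39, 27),
  (1, 6, [3], 26, 189, 65, 27),
  (1, 7, [3], 26, 189, 72, 27),
  (1, 8, [3], 26, 189, 41, 28),
  (1, 9, [3], 26, 189, 39, 27),
  (2, 3, [3, 2], 19, 164, 26, 189),
  (2, 4, [3, 4], 65, 27, 41, 28),
  (2, 5, [3, 4], 65, 27, 39, 27),
  (2, 6, [3, 2], 19, 164, 65, 96),
  (2, 7, [3, 2], 19, 164, 72, 126),
  (2, 8, [3, 2], 19, 164, 41, 138),
  (2, 9, [3, 2], 19, 164, 39, 141),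
  (3, 4, [3, 4], 72, 27, 41, 28),
  (3, 5, [3, 4], 72, 27, 39, 27),
  (3, 6, [3, 2], 26, 189, 65, 96),
  (3, 7, [3, 2], 26, 189, 72, 126),
  (3, 8, [3, 2], 26, 189, 41, 138),
  (3, 9, [3, 2], 26, 189, 39, 141),
  (4, 5, [2, 1], 19, 20, 26, 26),
  (4, 6, [2, 1], 19, 20, 65, 63),
  (4, 7, [2, 1], 19, 20, 72, 49),
  (4, 8, [2, 1], 19, 20, 41, 95),
  (4, 9, [2, 1], 19, 20, 39, 72),
  (5, 6, [2, 1], 26, 26, 65, 63),
  (5, 7, [2, 1], 26, 26, 72, 49),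
  (5, 8, [2, 1], 26, 26, 41, 95),
  (5, 9, [2, 1], 26, 26, 39, 72),
  (6, 7, [3], 65, 27, 72, 27),
  (6, 8, [3], 65, 27, 41, 28),
  (6, 9, [3], 65, 27, 39, 27),
  (7, 8, [3], 72, 27, 41, 28),
  (7, 9, [3], 72, 27, 39, 27),
  (8, 9, [3], 41, 28, 39, 27)]

end CfsgLib.Recog.CentTwelve

namespace CfsgLib.Recog.CentTwelve

/-- For each generator a word, the cycles used with their numbers, the word in them, and the number. -/
def genRows : List (List Nat × List (Nat × Nat × Nat) × List Nat × Nat) := [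
  ([3], [(0, 19, 164), (1, 26, 189)], [0, 1, 1, 0], 7),
  ([3], [(0, 19, 164), (1, 26, 189)], [0, 1], 183),
  ([3, 4], [(0, 19, 171), (1, 26, 171), (2, 65, 27), (3, 72, 27)], [0, 1, 2, 3, 0, 1], 150),
  ([3, 2], [(2, 19, 164), (3, 26, 189)], [0, 1, 1, 0], 7),
  ([3, 4], [(2, 65, 27), (3, 72, 27), (4, 41, 28), (5, 39, 27)], [0, 2, 1, 3, 0, 2], 23),
  ([3, 4], [(2, 65, 27), (3, 72, 27), (4, 41, 28), (5, 39, 27)], [0, 1, 2, 3, 0, 1], 186),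
  ([3], [(6, 65, 27), (7, 72, 27), (8, 41, 28), (9, 39, 27)], [0, 2, 1, 3, 0, 2], 23),
  ([3, 2], [(2, 19, 164), (3, 26, 189), (6, 65, 96), (7, 72, 126)], [0, 2, 1, 3, 0, 2], 25),
  ([3, 2, 4], [(2, 65, 96), (3, 72, 126), (4, 41, 138), (5, 39, 141), (6, 19, 164), (7, 26, 189)], [0, 1, 4, 5, 2, 3, 0, 1], 67),
  ([3, 2], [(2, 19, 164), (3, 26, 189), (6, 65, 96), (7, 72, 126)], [0, 1, 2, 3, 0, 1], 150),
  ([2, 1], [(4, 19, 20), (5, 26, 26), (8, 41, 95), (9, 39, 72)], [0, 1, 2, 3, 0, 1], 126)]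

/-- Words moving a point to `0`. -/
def toZero : List (List Nat) := [[], [0], [1], [0, 1], [1, 2], [0, 1, 2], [1, 2, 5], [0, 1, 2, 5], [1, 2, 9], [0, 1, 2, 9], [1, 2, 5, 10], [0, 1, 2, 5, 10]]

/-- Words fixing `0` moving a point to `2`. -/
def toTwo : List (List Nat) := [[], [], [], [2, 4, 2], [2], [2, 4], [2, 5], [2, 4, 5], [2, 9], [2, 4, 9], [2, 5, 10], [2, 4, 5, 10]]

end CfsgLib.Recog.CentTwelve
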