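import Cfsg.Agent.Lib.Recog.CentTwelve.AltTwelve

/-!
With a chart by the alternating group of degree nine the homomorphism extends to degree thirteen.
-/

set_option autoImplicit false
set_option maxRecDepth 100000

namespace CfsgLib.Recog.CentTwelve

open Equiv Subgroup CfsgLib.Recog.QSThree CfsgLib.InvChar.Coset CfsgLib.Clifford.AltSchur

universe u

/-- The three cycle of the nine points through the extra point. -/
def gam : alternatingGroup (Fin 9) := toAlt (c3 0 1 8)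

/-- The mixing double transposition. -/
def q67 : P12 := swap 0 1 * swap 6 7

/-- The interchange of the first and last block. -/
def w02 : P12 := b01 * b12 * b01

/-- An element of `A₈` as a permutation. -/
abbrev a8 (p : Perm (Fin 8)) : alternatingGroup (Fin 8) := toAlt p

theorem mix_mem : q67 ∈ C12 ∧ w02 ∈ C12 := by decide +kernel

theorem mix_facts :
    q67 * x0 * q67⁻¹ = x0 ∧ q67 * (x0 * y0) * q67⁻¹ = y0 ∧ w02 * x2 * w02⁻¹ = x0 ∧
      w02 * y2 * w02⁻¹ = y0 ∧ emb 23 = x2 ∧ emb 186 = y2 ∧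
    toAlt q67 * sh8 (a8 (c3 3 2 4)) * (toAlt q67)⁻¹ = sh8 (a8 (c3 2 3 4)) ∧
    toAlt q67 * sh8 (a8 (c3 4 5 6)) * (toAlt q67)⁻¹ = sh8 (a8 (c3 4 5 6)) ∧
    toAlt q67 * sh8 (a8 (c3 5 6 7)) * (toAlt q67)⁻¹ = sh8 (a8 (c3 5 6 7)) ∧
    toAlt q67 * sh8 (a8 (c3 0 1 4)) * (toAlt q67)⁻¹ = sh8 (a8 (c3 0 1 4)) ∧
    toAlt w02 * toAlt x0 * (toAlt w02)⁻¹ = sh8 (Alt.nm 23) ∧
    toAlt w02 * toAlt y0 * (toAlt w02)⁻¹ = sh8 (Alt.nm 186) ∧
    toAlt w02 * toAlt th0 * (toAlt w02)⁻¹ = sh8 (a8 (c3 5 6 7)) ∧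
    toAlt w02 * toAlt q67 * (toAlt w02)⁻¹ = sh8 (a8 (swap 4 5 * swap 2 3)) ∧
    toAlt (c3 3 6 7) = (toAlt w02)⁻¹ * sh8 (a8 (c3 7 2 3)) * toAlt w02 := by
  refine ⟨?_, ?_, ?_, ?_, ?_, ?_, ?_, ?_, ?_, ?_, ?_, ?_, ?_, ?_, ?_⟩ <;> decide +kernel

theorem gam_comm : ∀ p ∈ [c3 3 2 4, c3 4 5 6, c3 5 6 7, (Alt.nm 23 : Perm (Fin 8)), (Alt.nm 186 : Perm (Fin 8)),
    c3 2 3 4],
    inc9 (a8 p) * gam = gam * inc9 (a8 p) := by
  simp only [List.forall_mem_cons, List.not_mem_nil, false_implies, implies_true, and_true]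
  decide +kernel

theorem gam_rel : gam ^ 3 = 1 ∧ gam * inc9 (a8 (c3 0 1 4)) * (gam * inc9 (a8 (c3 0 1 4))) = 1 := by
  refine ⟨?_, ?_⟩ <;> decide +kernel

theorem coe_inc9_apply (a : alternatingGroup (Fin 8)) (k : Fin 8) :
    (inc9 a : Perm (Fin 9)) k.castSucc = ((a : Perm (Fin 8)) k).castSucc :=
  Perm.extendDomain_apply_image (a : Perm (Fin 8)) low9 k

/-- Recognising `gam`. -/
theorem eq_gam {b : alternatingGroup (Fin 9)} (h3 : b ^ 3 = 1)
    (hA : b * inc9 (a8 (c3 2 3 4)) = inc9 (a8 (c3 2 3 4)) * b)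
    (hB : b * inc9 (a8 (c3 4 5 6)) = inc9 (a8 (c3 4 5 6)) * b)
    (hC : b * inc9 (a8 (c3 5 6 7)) = inc9 (a8 (c3 5 6 7)) * b)
    (hE : b * inc9 (a8 (c3 0 1 4)) * (b * inc9 (a8 (c3 0 1 4))) = 1) : b = gam := by
  have conv : ∀ {a : alternatingGroup (Fin 9)}, b * a = a * b →
      ∀ k, (b : Perm (Fin 9)) ((a : Perm (Fin 9)) k) = (a : Perm (Fin 9)) ((b : Perm (Fin 9)) k) :=
    fun h k => congrArg (fun q : alternatingGroup (Fin 9) => (q : Perm (Fin 9)) k) h
  set β := (b : Perm (Fin 9)) with hβ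
  set A := (inc9 (a8 (c3 2 3 4)) : Perm (Fin 9)) with hAd
  set B := (inc9 (a8 (c3 4 5 6)) : Perm (Fin 9)) with hBd
  set C := (inc9 (a8 (c3 5 6 7)) : Perm (Fin 9)) with hCd
  have vals : A 4 = 2 ∧ A 2 = 3 ∧ B 4 = 5 ∧ B 5 = 6 ∧ C 6 = 7 := by
    rw [hAd, hBd, hCd]; decide +kernel
  obtain ⟨a4, a2, b4, b5, c6⟩ := vals
  have hb4 : β 4 = 4 := by
    have m1 : A (β 4) ≠ β 4 := fun e => by
      rw [← conv hA 4] at e
      have := β.injective e
      rw [a4] at this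
      exact absurd this (by decide)
    have m2 : B (β 4) ≠ β 4 := fun e => by
      rw [← conv hB 4] at e
      have := β.injective e
      rw [b4] at this
      exact absurd this (by decide)
    revert m1 m2
    rw [hAd, hBd]
    generalize β 4 = j
    revert j
    decide +kernel
  have hb2 : β 2 = 2 := by rw [← a4, conv hA, hb4, a4]
  have hb3 : β 3 = 3 := by rw [← a2, conv hA, hb2, a2]
  have hb5 : β 5 = 5 := by rw [← b4, conv hB, hb4, b4]
  have hb6 : β 6 = 6 := by rw [← b5, conv hB, hb5, b5]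
  have hb7 : β 7 = 7 := by rw [← c6, conv hC, hb6, c6]
  have out : ∀ k : Fin 9, k = 0 ∨ k = 1 ∨ k = 8 → β k = 0 ∨ β k = 1 ∨ β k = 8 := by
    intro k hk
    have ne : ∀ v : Fin 9, β v = v → v ≠ k → β k ≠ v := fun v hv hvk e =>
      hvk (β.injective (hv.trans e.symm))
    have d : ∀ v : Fin 9, (v ≠ 2 ∧ v ≠ 3 ∧ v ≠ 4 ∧ v ≠ 5 ∧ v ≠ 6 ∧ v ≠ 7) → v = 0 ∨ v = 1 ∨ v = 8 := by
      decide
    refine d _ ⟨ne 2 hb2 ?_, ne 3 hb3 ?_, ne 4 hb4 ?_, ne 5 hb5 ?_, ne 6 hb6 ?_, ne 7 hb7 ?_⟩ <;>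
      rcases hk with rfl | rfl | rfl <;> decide
  let F : Fin 9 → Fin 9 → Fin 9 → Fin 9 → Fin 9 := fun p q r => ![p, q, 2, 3, 4, 5, 6, 7, r]
  have hF : ∀ k, β k = F (β 0) (β 1) (β 8) k := by
    intro k
    fin_cases k
    exacts [rfl, rfl, hb2, hb3, hb4, hb5, hb6, hb7, rfl]
  have key : ∀ p q r : Fin 9, (p = 0 ∨ p = 1 ∨ p = 8) → (q = 0 ∨ q = 1 ∨ q = 8) →
      (r = 0 ∨ r = 1 ∨ r = 8) → (∀ k, F p q r (F p q r (F p q r k)) = k) →
      (∀ k, F p q r ((inc9 (a8 (c3 0 1 4)) : Perm (Fin 9))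
        (F p q r ((inc9 (a8 (c3 0 1 4)) : Perm (Fin 9)) k))) = k) →
      ∀ k, F p q r k = (gam : Perm (Fin 9)) k := by
    decide +kernel
  refine Subtype.ext (Equiv.ext fun k => (hF k).trans (key _ _ _ (out 0 (Or.inl rfl))
    (out 1 (Or.inr (Or.inl rfl))) (out 8 (Or.inr (Or.inr rfl))) (fun l => ?_) (fun l => ?_) k))
  · rw [← hF, ← hF, ← hF]
    exact congrArg (fun q : alternatingGroup (Fin 9) => (q : Perm (Fin 9)) l) h3
  · rw [← hF, ← hF]
    exact congrArg (fun q : alternatingGroup (Fin 9) => (q : Perm (Fin 9)) l) hE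

/-- An element commuting with four named elements commutes with the three cycle `(7 2 3)`. -/
theorem comm_seven {b : alternatingGroup (Fin 9)} (h3 : b ^ 3 = 1)
    (hP : b * inc9 (Alt.nm 23) = inc9 (Alt.nm 23) * b)
    (hQ : b * inc9 (Alt.nm 186) = inc9 (Alt.nm 186) * b)
    (hR : b * inc9 (a8 (c3 5 6 7)) = inc9 (a8 (c3 5 6 7)) * b)
    (hU : b * inc9 (a8 (swap 4 5 * swap 2 3)) = inc9 (a8 (swap 4 5 * swap 2 3)) * b) :
    b * inc9 (a8 (c3 7 2 3)) = inc9 (a8 (c3 7 2 3)) * b := by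
  have conv : ∀ {a : alternatingGroup (Fin 9)}, b * a = a * b →
      ∀ k, (b : Perm (Fin 9)) ((a : Perm (Fin 9)) k) = (a : Perm (Fin 9)) ((b : Perm (Fin 9)) k) :=
    fun h k => congrArg (fun q : alternatingGroup (Fin 9) => (q : Perm (Fin 9)) k) h
  set β := (b : Perm (Fin 9)) with hβ
  set P := (inc9 (Alt.nm 23) : Perm (Fin 9)) with hPd
  set Q := (inc9 (Alt.nm 186) : Perm (Fin 9)) with hQd
  set R := (inc9 (a8 (c3 5 6 7)) : Perm (Fin 9)) with hRd
  set U := (inc9 (a8 (swap 4 5 * swap 2 3)) : Perm (Fin 9)) with hUd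
  set Z := (inc9 (a8 (c3 7 2 3)) : Perm (Fin 9)) with hZd
  have vals : P 4 = 5 ∧ Q 5 = 7 ∧ R 4 = 4 ∧ U 2 = 3 ∧ U 3 = 2 ∧
      (∀ k : Fin 9, k = 7 ∨ k = 2 ∨ k = 3 → Z k = 7 ∨ Z k = 2 ∨ Z k = 3) ∧
      (∀ k : Fin 9, ¬(k = 7 ∨ k = 2 ∨ k = 3) → Z k = k) := by
    rw [hPd, hQd, hRd, hUd, hZd]; decide +kernel
  obtain ⟨p4, q5, r4, u2, u3, zin, zout⟩ := vals
  have hb4 : β 4 = 4 := by
    have m1 : P (β 4) ≠ β 4 := fun e => by
      rw [← conv hP 4] at e
      have := β.injective e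
      rw [p4] at this
      exact absurd this (by decide)
    have m2 : R (β 4) = β 4 := by rw [← conv hR 4, r4]
    revert m1 m2
    rw [hPd, hRd]
    generalize β 4 = j
    revert j
    decide +kernel
  have hb5 : β 5 = 5 := by rw [← p4, conv hP, hb4, p4]
  have hb7 : β 7 = 7 := by rw [← q5, conv hQ, hb5, q5]
  have m : U (β 2) ≠ β 2 := fun e => by
    rw [← conv hU 2] at e
    have := β.injective e
    rw [u2] at this
    exact absurd this (by decide)
  have h23 : β 2 = 2 ∨ β 2 = 3 := by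
    have d : ∀ j : Fin 9, U j ≠ j → j = 4 ∨ j = 5 ∨ j = 2 ∨ j = 3 := by
      rw [hUd]; decide +kernel
    rcases d _ m with h | h | h | h
    · exact absurd (β.injective (h.trans hb4.symm)) (by decide)
    · exact absurd (β.injective (h.trans hb5.symm)) (by decide)
    · exact Or.inl h
    · exact Or.inr h
  have hb2 : β 2 = 2 := by
    rcases h23 with h | h
    · exact h
    · exfalso
      have h' : β 3 = 2 := by rw [← u2, conv hU, h, u3]
      have := congrArg (fun q : alternatingGroup (Fin 9) => (q : Perm (Fin 9)) 2) h3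
      change β (β (β 2)) = 2 at this
      rw [h, h', h] at this
      exact absurd this (by decide)
  have hb3 : β 3 = 3 := by rw [← u2, conv hU, hb2, u2]
  have fixd : ∀ k : Fin 9, k = 7 ∨ k = 2 ∨ k = 3 → β k = k := by
    rintro k (rfl | rfl | rfl) <;> assumption
  refine Subtype.ext (Equiv.ext fun k => ?_)
  show β (Z k) = Z (β k)
  by_cases hk : k = 7 ∨ k = 2 ∨ k = 3
  · rw [fixd k hk, fixd _ (zin k hk)]
  · rw [zout k hk, zout]
    exact fun h => hk ((β.injective (fixd _ h)) ▸ h)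

variable {G : Type u} [Group G] {α : G} {S : Setting α} {g : G}

/-- An element of order dividing three of the centraliser of the block lies in the chart. -/
theorem Chart.exists_cube {n : ℕ} (C : Chart S g n) (hg : Theta S g) {c : G} (hc : c ∈ CV S)
    (hfix : g * c * g⁻¹ = c) : ∃ b, c = C.ψ b := by
  obtain ⟨a, v, hv, e⟩ := C.cover c hc
  have hvfix : g * S.f v * g⁻¹ = S.f v := by
    have h1 : g * C.ψ a * g⁻¹ * (g * S.f v * g⁻¹) = C.ψ a * S.f v := by
      rw [← e]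
      calc g * C.ψ a * g⁻¹ * (g * S.f v * g⁻¹) = g * (C.ψ a * S.f v) * g⁻¹ := by group
        _ = c := by rw [← e, hfix]
    rw [C.fixed] at h1
    exact mul_left_cancel h1
  obtain ⟨w, hw, hw', ew⟩ := conj_blk hg hv
  have hwv : S.f w = S.f v := ew.symm.trans hvfix
  have := S.inj _ hw.facts.1 _ hv.facts.1 hwv
  rw [hw'] at this
  rw [blk_facts.1 v (blk_iff.1 hv) this, S.f_one, mul_one] at e
  exact ⟨a, e⟩

variable (hg : Theta S g) (C : Chart S g 9) (φ : alternatingGroup (Fin 12) →* G)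
  (hag : ∀ a (h : a ∈ C12), φ ⟨a, Perm.mem_alternatingGroup.2 (mem_C12.1 h).1⟩ = S.f a)
  (hsh : ∀ a, φ (sh8 a) = C.ψ (inc9 a)) (hth : φ (toAlt th0) = g)
include hg hag hsh hth

omit hg hsh hth in
theorem map_toAlt {a : P12} (h : a ∈ C12) : φ (toAlt a) = S.f a := by
  rw [← hag a h, ← toAlt_coe ⟨a, Perm.mem_alternatingGroup.2 (mem_C12.1 h).1⟩]

omit hg hag hth in
theorem comm_sh8 {a : alternatingGroup (Fin 8)} (h : inc9 a * gam = gam * inc9 a) :
    Commute (C.ψ gam) (φ (sh8 a)) := by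
  rw [hsh]
  exact (show Commute gam (inc9 a) from h.symm).map C.ψ

omit hg hsh hth in
/-- Transport of commutation by an element of `C12`. -/
theorem comm_conj {q : P12} (hq : q ∈ C12) {T : G} {x y : alternatingGroup (Fin 12)}
    (e : toAlt q * x * (toAlt q)⁻¹ = y) (h : Commute T (φ x)) :
    Commute (S.f q * T * (S.f q)⁻¹) (φ y) := by
  rw [← e, map_mul, map_mul, map_inv, map_toAlt φ hag hq]
  exact h.map (MulAut.conj (S.f q)).toMonoidHom

/-- The three cycle through the extra point commutes with the mixing transposition. -/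
theorem comm_q67 : Commute (C.ψ gam) (S.f q67) := by
  obtain ⟨c1, c2, -, -, -, -, eA, eB, eC, eE, -, -, -, -, -⟩ := mix_facts
  obtain ⟨hq, -⟩ := mix_mem
  obtain ⟨nx, ny, -⟩ := named_mem
  set T := C.ψ gam with hT
  set T' := S.f q67 * T * (S.f q67)⁻¹ with hT'
  have move : ∀ {d d' : P12}, d ∈ C12 → q67 * d * q67⁻¹ = d' → Commute T (S.f d) → Commute T' (S.f d') := by
    intro d d' hd e h
    rw [← e, S.f_conj hq hd]
    exact h.map (MulAut.conj (S.f q67)).toMonoidHom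
  have hx : Commute T (S.f x0) := (commute_blk S (C.mem gam) (Or.inr (Or.inl rfl)))
  have hy : Commute T (S.f y0) := (commute_blk S (C.mem gam) (Or.inr (Or.inr (Or.inl rfl))))
  have hxy : Commute T (S.f (x0 * y0)) := (commute_blk S (C.mem gam) (Or.inr (Or.inr (Or.inr rfl))))
  have hmem : T' ∈ CV S := (mem_CV S).2 ⟨(move nx c1 hx).eq, (move (mul_mem nx ny) c2 hxy).eq⟩
  have hg' : g * T' * g⁻¹ = T' := by
    have e1 : toAlt q67 * (toAlt x0 * toAlt th0 * (toAlt x0)⁻¹)⁻¹ * (toAlt q67)⁻¹ = toAlt th0 := by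
      decide +kernel
    have h : Commute T (φ (toAlt x0 * toAlt th0 * (toAlt x0)⁻¹)⁻¹) := by
      rw [map_inv, map_mul, map_mul, map_inv, hth, map_toAlt φ hag nx]
      exact ((hx.mul_right (show g * T = T * g by
        rw [← mul_inv_eq_iff_eq_mul]; exact C.fixed gam).symm).mul_right hx.inv_right).inv_right
    have := comm_conj φ hag hq e1 h
    rw [hth] at this
    rw [← this.eq, mul_inv_cancel_right]
  obtain ⟨b, hb⟩ := C.exists_cube hg hmem hg'
  have hcube : b ^ 3 = 1 := C.inj (by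
    rw [map_pow, ← hb, hT', conj_pow, hT, ← map_pow, gam_rel.1, map_one, mul_one, mul_inv_cancel])
  have back : ∀ {a a' : alternatingGroup (Fin 8)}, toAlt q67 * sh8 a * (toAlt q67)⁻¹ = sh8 a' →
      inc9 a * gam = gam * inc9 a → b * inc9 a' = inc9 a' * b := by
    intro a a' e h
    have h1 := comm_conj φ hag hq e (comm_sh8 C φ hsh h)
    rw [← hT, ← hT', hb, hsh] at h1
    exact C.inj (by rw [map_mul, map_mul]; exact h1.eq)
  have hbg : b = gam := by
    refine eq_gam hcube (back eA (gam_comm _ (by simp))) (back eB (gam_comm _ (by simp)))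
      (back eC (gam_comm _ (by simp))) (C.inj ?_)
    rw [map_one, map_mul, map_mul, ← hb, ← hsh, ← eE, map_mul, map_mul, map_inv, map_toAlt φ hag hq,
      hsh, hT', hT]
    calc _ = S.f q67 * (C.ψ gam * C.ψ (inc9 (a8 (c3 0 1 4))) *
          (C.ψ gam * C.ψ (inc9 (a8 (c3 0 1 4))))) * (S.f q67)⁻¹ := by group
      _ = 1 := by rw [← map_mul, ← map_mul, gam_rel.2, map_one, mul_one, mul_inv_cancel]
  rw [hbg, ← hT] at hb
  exact (mul_inv_eq_iff_eq_mul.1 (hT'.symm.trans hb)).symm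

/-- The three cycle through the extra point commutes with a mixing three cycle. -/
theorem comm_367 : Commute (C.ψ gam) (φ (toAlt (c3 3 6 7))) := by
  obtain ⟨-, -, c3', c4, i23, i186, -, -, -, -, eP, eQ, eR, eU, eZ⟩ := mix_facts
  obtain ⟨hq, hw⟩ := mix_mem
  obtain ⟨nx, ny, -⟩ := named_mem
  set T := C.ψ gam with hT
  set T' := S.f w02 * T * (S.f w02)⁻¹ with hT'
  have hhigh : ∀ k < 192, inc9 (Alt.nm k) * gam = gam * inc9 (Alt.nm k) → Commute T (S.f (emb k)) := by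
    intro k hk h
    have := comm_sh8 C φ hsh h
    rwa [sh8_eq, ← emb, map_toAlt φ hag (emb_commute hk).1] at this
  have move : ∀ {d d' : P12}, d ∈ C12 → w02 * d * w02⁻¹ = d' → Commute T (S.f d) → Commute T' (S.f d') := by
    intro d d' hd e h
    rw [← e, S.f_conj hw hd]
    exact h.map (MulAut.conj (S.f w02)).toMonoidHom
  have g23 : inc9 (Alt.nm 23) * gam = gam * inc9 (Alt.nm 23) := by
    have := gam_comm _ (show (Alt.nm 23 : Perm (Fin 8)) ∈ _ by simp)
    rwa [show a8 (Alt.nm 23 : Perm (Fin 8)) = Alt.nm 23 from toAlt_coe _] at this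
  have g186 : inc9 (Alt.nm 186) * gam = gam * inc9 (Alt.nm 186) := by
    have := gam_comm _ (show (Alt.nm 186 : Perm (Fin 8)) ∈ _ by simp)
    rwa [show a8 (Alt.nm 186 : Perm (Fin 8)) = Alt.nm 186 from toAlt_coe _] at this
  have n2 : x2 ∈ C12 ∧ y2 ∈ C12 := ⟨named_mem.2.2.2.2.1, named_mem.2.2.2.2.2.1⟩
  have hmem : T' ∈ CV S := (mem_CV S).2
    ⟨(move n2.1 c3' (i23 ▸ hhigh 23 (by norm_num) g23)).eq,
      (move n2.2 c4 (i186 ▸ hhigh 186 (by norm_num) g186)).eq⟩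
  have hth' : Commute T (φ (toAlt th0)) := by
    rw [hth]
    exact (show g * T = T * g by rw [← mul_inv_eq_iff_eq_mul]; exact C.fixed gam).symm
  have hg' : g * T' * g⁻¹ = T' := by
    have e1 : toAlt w02 * sh8 (a8 (c3 5 6 7)) * (toAlt w02)⁻¹ = toAlt th0 := by decide +kernel
    have := comm_conj φ hag hw e1 (comm_sh8 C φ hsh (gam_comm _ (by simp)))
    rw [← hT, hth] at this
    rw [← this.eq, mul_inv_cancel_right]
  obtain ⟨b, hb⟩ := C.exists_cube hg hmem hg'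
  have hcube : b ^ 3 = 1 := C.inj (by
    rw [map_pow, ← hb, hT', conj_pow, hT, ← map_pow, gam_rel.1, map_one, mul_one, mul_inv_cancel])
  have back : ∀ {x : alternatingGroup (Fin 12)} {a : alternatingGroup (Fin 8)},
      toAlt w02 * x * (toAlt w02)⁻¹ = sh8 a → Commute T (φ x) → b * inc9 a = inc9 a * b := by
    intro x a e h
    have h1 := comm_conj φ hag hw e h
    rw [← hT', hb, hsh] at h1
    exact C.inj (by rw [map_mul, map_mul]; exact h1.eq)
  have hZ := comm_seven hcube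
    (back eP (by rw [map_toAlt φ hag nx]; exact commute_blk S (C.mem gam) (Or.inr (Or.inl rfl))))
    (back eQ (by rw [map_toAlt φ hag ny]; exact commute_blk S (C.mem gam) (Or.inr (Or.inr (Or.inl rfl)))))
    (back eR hth')
    (back eU (by rw [map_toAlt φ hag hq]; exact comm_q67 hg C φ hag hsh hth))
  have h1 : Commute T' (φ (sh8 (a8 (c3 7 2 3)))) := by
    rw [hb, hsh]; exact (show Commute b _ from hZ).map C.ψ
  have h2 := h1.map (MulAut.conj (S.f w02)⁻¹).toMonoidHom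
  rw [eZ, map_mul, map_mul, map_inv, map_toAlt φ hag hw]
  simpa [MulAut.conj_apply, hT', mul_assoc] using h2

end CfsgLib.Recog.CentTwelve
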