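import Cfsg.Agent.Lib.Recog.CentTwelve.AltChart

/-!
The element inducing the three cycle can be chosen so that its translate is a three cycle of the chart.
-/

set_option autoImplicit false
set_option maxRecDepth 100000

namespace CfsgLib.Recog.CentTwelve

open Equiv Subgroup CfsgLib.Recog.QSThree CfsgLib.InvChar.Coset

universe u

/-- The three cycle of the eight points corresponding to the translate of `th0`. -/
def e567 : alternatingGroup (Fin 8) :=
  ⟨swap 1 2 * swap 2 3, Perm.mem_alternatingGroup.2 (by decide +kernel)⟩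

theorem e567_facts : sh (e567 : Perm (Fin 8)) = b01 * th0 * b01⁻¹ ∧
    e567 * Alt.eT * e567⁻¹ = Alt.eP ∧ e567 * Alt.eP * e567⁻¹ = Alt.eT * Alt.eP ∧
    e567 * Alt.eW = Alt.eW * e567 ∧ e567 * Alt.eW' = Alt.eW' * e567 ∧ e567 ^ 3 = 1 := by
  refine ⟨?_, ?_, ?_, ?_, ?_, ?_⟩ <;> decide +kernel

theorem cube_facts : Tab.all192 (fun i =>
    !(tabA.comm i 7 && tabA.comm i 183 && tabA.comm i 23 && tabA.comm i 186) ||
      !(decide ((e567 * Alt.nm i) ^ 3 = 1)) ||
      decide (e567 * Alt.nm i = e567 ∨ e567 * Alt.nm i = Alt.eT * e567 * Alt.eT ∨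
        e567 * Alt.nm i = Alt.eP * e567 * Alt.eP ∨
        e567 * Alt.nm i = Alt.eT * Alt.eP * e567 * (Alt.eT * Alt.eP))) = true := by
  decide +kernel

theorem back_facts : (∀ v ∈ [1, x0, y0, x0 * y0], v * v = 1 ∧ b01 * v * b01⁻¹ ∈ [1, x1, y1, x1 * y1]) ∧
    b01 * x0 * b01⁻¹ = x1 ∧ b01 * y0 * b01⁻¹ = y1 ∧ b01 * (x0 * y0) * b01⁻¹ = x1 * y1 ∧
    emb 7 = x1 ∧ emb 183 = y1 ∧ emb 23 = x2 ∧ emb 186 = y2 ∧
    b01⁻¹ * x1 * b01 = x0 ∧ b01⁻¹ * y1 * b01 = y0 ∧ b01⁻¹ * x2 * b01 = x2 ∧ b01⁻¹ * y2 * b01 = y2 := by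
  simp only [List.forall_mem_cons, List.not_mem_nil, false_implies, implies_true, and_true]
  decide +kernel

variable {G : Type u} [Group G] {α : G} {S : Setting α} {g : G}

/-- Conjugation by an element of the block keeps the properties. -/
theorem theta_conj (hg : Theta S g) {v : P12} (hv : Blk v) :
    Theta S (S.f v * g * (S.f v)⁻¹) := by
  have hvD : v ∈ D12 := by rcases hv with rfl | rfl | rfl | rfl <;> decide +kernel
  have hab : ∀ d ∈ D12, S.f v * S.f d = S.f d * S.f v := fun d hd => by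
    obtain ⟨-, a0, a1, -⟩ := mem_D12.1 hd
    refine (S.commute_iff hv.facts.1 (mem_D12.1 hd).1).2 ?_
    rcases hv with rfl | rfl | rfl | rfl
    · simp
    · exact a0
    · exact a1
    · exact (Commute.mul_left a0 a1).eq
  refine ⟨by rw [conj_pow, hg.1, mul_one, mul_inv_cancel], fun a ha => ?_⟩
  have hva : (S.f v)⁻¹ * S.f a * S.f v = S.f a := by
    rw [mul_assoc, ← hab a ha, inv_mul_cancel_left]
  have hth : th0 * a * th0⁻¹ ∈ D12 := by
    obtain ⟨-, a0, a1, a2, a3, a4, a5⟩ := mem_D12.1 ha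
    obtain ⟨i, rfl⟩ := exists_dEl a0 a1 a2 a3 a4 a5
    exact (show ∀ j, th0 * dEl j * th0⁻¹ ∈ D12 by decide +kernel) i
  calc S.f v * g * (S.f v)⁻¹ * S.f a * (S.f v * g * (S.f v)⁻¹)⁻¹
      = S.f v * (g * ((S.f v)⁻¹ * S.f a * S.f v) * g⁻¹) * (S.f v)⁻¹ := by group
    _ = S.f v * S.f (th0 * a * th0⁻¹) * (S.f v)⁻¹ := by rw [hva, hg.2 a ha]
    _ = _ := by rw [hab _ hth, mul_inv_cancel_right]

/-- The chart for a conjugate of `g` by the block. -/
def Chart.conj {n : ℕ} (C : Chart S g n) {v : P12} (hv : Blk v) : Chart S (S.f v * g * (S.f v)⁻¹) n where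
  ψ := C.ψ
  inj := C.inj
  mem := C.mem
  cover := C.cover
  fixed a := by
    have h := commute_blk S (C.mem a) hv
    calc S.f v * g * (S.f v)⁻¹ * C.ψ a * (S.f v * g * (S.f v)⁻¹)⁻¹
        = S.f v * g * ((S.f v)⁻¹ * (C.ψ a * S.f v)) * g⁻¹ * (S.f v)⁻¹ := by group
      _ = S.f v * (g * C.ψ a * g⁻¹) * (S.f v)⁻¹ := by rw [h, inv_mul_cancel_left]; group
      _ = C.ψ a := by rw [C.fixed a, ← h, mul_inv_cancel_right]

/-- The translate of `g` is a three cycle of the chart after conjugating `g`. -/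
theorem exists_tuned (P : AltPat S) (hg : Theta S g) {n : ℕ} (C : Chart S g n)
    (ι : alternatingGroup (Fin 8) →* alternatingGroup (Fin n))
    (hι : ∀ i < 192, C.ψ (ι (Alt.nm i)) = S.f (emb i)) :
    ∃ (g' : G) (C' : Chart S g' n), Theta S g' ∧ (∀ i < 192, C'.ψ (ι (Alt.nm i)) = S.f (emb i)) ∧
      C'.ψ (ι e567) = S.f b01 * g' * (S.f b01)⁻¹ := by
  obtain ⟨hv2, bx, bp, bxp, m7, m183, m23, m186, i7, i183, i23, i186⟩ := back_facts
  obtain ⟨-, eT', eP', eW1, eW2, e3⟩ := e567_facts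
  obtain ⟨-, n7, n183, n23, n186, -, -⟩ := Alt.nm_facts
  have hb : b01 ∈ C12 := named_mem.2.2.2.2.2.2.1
  set t := moved S g b01 with ht
  have htm : t ∈ CV S := t1_mem hg
  obtain ⟨a, v, hv, et⟩ := C.cover t htm
  have hvfix : S.f v = C.ψ ((a ^ 3)⁻¹) := by
    have h3 := moved_cube hg b01
    rw [← ht, et, (show Commute (C.ψ a) (S.f v) from commute_blk S (C.mem a) hv).mul_pow, ← map_pow,
      pow_succ (S.f v), pow_two (S.f v), ← S.mul _ hv.facts.1 _ hv.facts.1,
      (hv2 v (blk_iff.1 hv)).1, S.f_one, one_mul] at h3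
    rw [map_inv]
    exact eq_inv_of_mul_eq_one_right h3
  have hv1 : v = 1 := by
    obtain ⟨w, hw, hw', ew⟩ := conj_blk hg hv
    have hwv : S.f w = S.f v := by rw [← ew, hvfix, C.fixed]
    have := S.inj _ hw.facts.1 _ hv.facts.1 hwv
    rw [hw'] at this
    exact blk_facts.1 v (blk_iff.1 hv) this
  rw [hv1, S.f_one, mul_one] at et
  have step : ∀ (x y : alternatingGroup (Fin 8)) (i j : ℕ) (d e : P12), i < 192 → j < 192 → Alt.nm i = x →
      Alt.nm j = y → emb i = d → emb j = e → d ∈ D12 → b01⁻¹ * d * b01 ∈ D12 →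
      b01 * th0 * b01⁻¹ * d * (b01 * th0 * b01⁻¹)⁻¹ = e → e567 * x * e567⁻¹ = y →
      C.ψ ((ι e567)⁻¹ * a) * C.ψ (ι x) = C.ψ (ι x) * C.ψ ((ι e567)⁻¹ * a) := by
    intro x y i j d e hi hj hx hy hd he hdD hdD' hact hxy
    have h1 : t * S.f d * t⁻¹ = S.f e := by rw [ht, moved_act hg hb hdD hdD', hact]
    rw [et, ← hd, ← he, ← hι i hi, ← hι j hj, hx, hy, ← map_inv, ← map_mul, ← map_mul] at h1
    have h2 := C.inj h1
    rw [← hxy, map_mul, map_mul, map_inv] at h2
    rw [← map_mul, ← map_mul]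
    congr 1
    calc (ι e567)⁻¹ * a * ι x = (ι e567)⁻¹ * (a * ι x * a⁻¹) * a := by group
      _ = ι x * ((ι e567)⁻¹ * a) := by rw [h2]; group
  set q := C.ψ ((ι e567)⁻¹ * a) with hq
  obtain ⟨nx1, ny1, nx2, ny2⟩ := (show x1 ∈ D12 ∧ y1 ∈ D12 ∧ x2 ∈ D12 ∧ y2 ∈ D12 from
    ⟨named_D.2.2.1, named_D.2.2.2.1, named_D.2.2.2.2.1, named_D.2.2.2.2.2.1⟩)
  have q7 := step _ _ 7 183 x1 y1 (by norm_num) (by norm_num) n7 n183 m7 m183 nx1
    (by rw [i7]; exact named_D.1) (by decide +kernel) eT'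
  have q183 := step Alt.eP (Alt.eT * Alt.eP) 183 (tabA.mul 7 183) y1 (x1 * y1) (by norm_num)
    (tabA_ok.mul_lt (by norm_num) (by norm_num)) n183
    (by rw [← nm_mul (by norm_num) (by norm_num), n7, n183]) m183
    (by rw [← emb_mul (by norm_num) (by norm_num), m7, m183]) ny1
    (by rw [i183]; exact named_D.2.1) (by decide +kernel) eP'
  have q23 := step _ Alt.eW 23 23 x2 x2 (by norm_num) (by norm_num) n23 n23 m23 m23 nx2
    (by rw [i23]; exact nx2) (by decide +kernel) (by rw [eW1, mul_inv_cancel_right])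
  have q186 := step _ Alt.eW' 186 186 y2 y2 (by norm_num) (by norm_num) n186 n186 m186 m186 ny2
    (by rw [i186]; exact ny2) (by decide +kernel) (by rw [eW2, mul_inv_cancel_right])
  rw [← n7, hι 7 (by norm_num), m7] at q7
  rw [← n183, hι 183 (by norm_num), m183] at q183
  rw [← n23, hι 23 (by norm_num), m23] at q23
  rw [← n186, hι 186 (by norm_num), m186] at q186
  have hqz : cls S q * zV S = zV S * cls S q := by
    have hz : S.f (x1 * x2) ∈ CV S := by rw [← emb_sixteen]; exact emb_mem_CV S (by norm_num)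
    rw [zV_eq, ← cls_mul S (C.mem _) hz, ← cls_mul S hz (C.mem _), S.mul _ (mem_D12.1 nx1).1 _ (mem_D12.1 nx2).1]
    exact congrArg (cls S) (Commute.mul_right q7 q23).eq
  obtain ⟨i, hi, ei⟩ := exists_number P (C.mem _) hqz
  have hqi : q = S.f (emb i) :=
    lift_unique hg (C.mem _) (emb_mem_CV S hi) (C.fixed _) (emb_fixed P hg hi) ei.symm
  have hcomm : ∀ j, j < 192 → q * S.f (emb j) = S.f (emb j) * q → tabA.comm i j = true := by
    intro j hj h
    rw [hqi, ← S.mul _ (emb_commute hi).1 _ (emb_commute hj).1,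
      ← S.mul _ (emb_commute hj).1 _ (emb_commute hi).1, emb_mul hi hj, emb_mul hj hi] at h
    have := S.inj _ (emb_commute (tabA_ok.mul_lt hi hj)).1 _ (emb_commute (tabA_ok.mul_lt hj hi)).1 h
    rw [Tab.comm, emb_inj (tabA_ok.mul_lt hi hj) (tabA_ok.mul_lt hj hi) this]
    exact Nat.beq_refl _
  have ha : a = ι e567 * ι (Alt.nm i) := by
    have : (ι e567)⁻¹ * a = ι (Alt.nm i) := C.inj (by rw [hι i hi]; exact hqi)
    rw [← this, mul_inv_cancel_left]
  have ha3 : ι e567 * ι (Alt.nm i) = a ∧ ι ((e567 * Alt.nm i) ^ 3) = 1 := by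
    refine ⟨ha.symm, C.inj ?_⟩
    rw [map_pow, map_mul, ← ha, map_pow, map_one, ← et]
    exact moved_cube hg b01
  have htab := Tab.all192_get cube_facts hi
  rw [hcomm 7 (by norm_num) (by rw [m7]; exact q7), hcomm 183 (by norm_num) (by rw [m183]; exact q183),
    hcomm 23 (by norm_num) (by rw [m23]; exact q23),
    hcomm 186 (by norm_num) (by rw [m186]; exact q186)] at htab
  simp only [Bool.and_self, Bool.not_true, Bool.false_or, Bool.or_eq_true, decide_eq_true_eq] at htab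
  have hιinj : Function.Injective ι := by
    haveI : IsSimpleGroup (alternatingGroup (Fin 8)) := alternatingGroup.isSimpleGroup (by simp)
    rcases ι.normal_ker.eq_bot_or_eq_top with h | h
    · exact (MonoidHom.ker_eq_bot_iff _).1 h
    · exfalso
      have hk : ι (Alt.nm 7) = 1 := by rw [← MonoidHom.mem_ker, h]; exact mem_top _
      have := hι 7 (by norm_num)
      rw [hk, map_one, m7, eq_comm, S.eq_one_iff (mem_D12.1 nx1).1] at this
      exact absurd this (by decide +kernel)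
  have hcube : (e567 * Alt.nm i) ^ 3 = 1 := hιinj (ha3.2.trans (map_one ι).symm)
  have ets : t = C.ψ (ι (e567 * Alt.nm i)) := by rw [map_mul, ← ha, et]
  have fin : ∀ w : P12, Blk w → ∀ k < 192, emb k = b01 * w * b01⁻¹ →
      e567 * Alt.nm i = Alt.nm k * e567 * Alt.nm k → ∃ (g' : G) (C' : Chart S g' n),
      Theta S g' ∧ (∀ i < 192, C'.ψ (ι (Alt.nm i)) = S.f (emb i)) ∧
      C'.ψ (ι e567) = S.f b01 * g' * (S.f b01)⁻¹ := by
    intro w hw k hk hk' hki
    refine ⟨_, C.conj hw, theta_conj hg hw, fun i hi => hι i hi, ?_⟩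
    have hww : S.f w * S.f w = 1 := by
      rw [← S.mul _ hw.facts.1 _ hw.facts.1, (hv2 w (blk_iff.1 hw)).1, S.f_one]
    have hkk : S.f (emb k) * S.f (emb k) = 1 := by
      rw [hk', S.f_conj hb hw.facts.1]
      calc S.f b01 * S.f w * (S.f b01)⁻¹ * (S.f b01 * S.f w * (S.f b01)⁻¹)
          = S.f b01 * (S.f w * S.f w) * (S.f b01)⁻¹ := by group
        _ = 1 := by rw [hww]; group
    show C.ψ (ι e567) = _
    have h := ets
    rw [hki, map_mul, map_mul, map_mul, map_mul, hι k hk] at h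
    have e1 : C.ψ (ι e567) = S.f (emb k) * t * S.f (emb k) := by
      rw [h, show S.f (emb k) * (S.f (emb k) * C.ψ (ι e567) * S.f (emb k)) * S.f (emb k) =
        S.f (emb k) * S.f (emb k) * C.ψ (ι e567) * (S.f (emb k) * S.f (emb k)) by group, hkk, one_mul,
        mul_one]
    rw [e1, ht, moved, hk', S.f_conj hb hw.facts.1, inv_eq_of_mul_eq_one_right hww]
    group
  simp only [hcube, decide_true, Bool.not_true, Bool.false_eq_true, false_or] at htab
  rcases htab with h | h | h | h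
  · refine fin 1 (Or.inl rfl) 0 (by norm_num) (by rw [emb_zero]; group) ?_
    rw [h, show Alt.nm 0 = 1 by decide +kernel, one_mul, mul_one]
  · exact fin x0 (Or.inr (Or.inl rfl)) 7 (by norm_num) (by rw [m7, bx]) (by rw [h, n7])
  · exact fin y0 (Or.inr (Or.inr (Or.inl rfl))) 183 (by norm_num) (by rw [m183, bp]) (by rw [h, n183])
  · exact fin (x0 * y0) (Or.inr (Or.inr (Or.inr rfl))) (tabA.mul 7 183)
      (tabA_ok.mul_lt (by norm_num) (by norm_num))
      (by rw [← emb_mul (by norm_num) (by norm_num), m7, m183, bxp])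
      (by rw [h, ← nm_mul (by norm_num) (by norm_num), n7, n183])

end CfsgLib.Recog.CentTwelve
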