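import Cfsg.Agent.Lib.Recog.CentTwelve.AltTuned
import Cfsg.Agent.Lib.Recog.CentTwelve.AltPairData

/-!
The homomorphism from the alternating group of degree twelve extending the numbering.
-/

set_option autoImplicit false
set_option maxRecDepth 100000

namespace CfsgLib.Recog.CentTwelve

open Equiv Subgroup CfsgLib.Recog.QSThree CfsgLib.InvChar.Coset CfsgLib.Clifford.AltSchur

universe u

/-- A permutation as an element of the alternating group, with the value `1` for odd ones. -/
def toAlt {n : ℕ} (p : Perm (Fin n)) : alternatingGroup (Fin n) :=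
  if h : Perm.sign p = 1 then ⟨p, Perm.mem_alternatingGroup.2 h⟩ else 1

theorem coe_toAlt {n : ℕ} {p : Perm (Fin n)} (h : Perm.sign p = 1) :
    (toAlt p : Perm (Fin n)) = p := by rw [toAlt, dif_pos h]

theorem toAlt_coe {n : ℕ} (a : alternatingGroup (Fin n)) : toAlt (a : Perm (Fin n)) = a :=
  Subtype.ext (coe_toAlt (Perm.mem_alternatingGroup.1 a.2))

theorem toAlt_mul {n : ℕ} {p q : Perm (Fin n)} (hp : Perm.sign p = 1) (hq : Perm.sign q = 1) :
    toAlt (p * q) = toAlt p * toAlt q :=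
  Subtype.ext (by rw [Subgroup.coe_mul, coe_toAlt hp, coe_toAlt hq,
    coe_toAlt (by rw [map_mul, hp, hq, mul_one])])

/-- `A₈` on the last eight of twelve points. -/
def sh8 : alternatingGroup (Fin 8) →* alternatingGroup (Fin 12) :=
  (sh.comp (alternatingGroup (Fin 8)).subtype).codRestrict (alternatingGroup (Fin 12)) fun a => by
    rw [Perm.mem_alternatingGroup]
    show Perm.sign (Perm.extendDomain (a : Perm (Fin 8)) pt8) = 1
    rw [Perm.sign_extendDomain]
    exact Perm.mem_alternatingGroup.1 a.2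

theorem sh8_eq (a : alternatingGroup (Fin 8)) : sh8 a = toAlt (sh (a : Perm (Fin 8))) :=
  (toAlt_coe (sh8 a)).symm

/-- The generators used in the words for the three cycles. -/
def cgen : List P12 := [x0, y0, p12, b01, b12, q01]

/-- The interchange of the third and fifth pair. -/
def p24 : P12 := swap 4 8 * swap 5 9

/-- The interchange of the fourth and sixth pair. -/
def p35 : P12 := swap 6 10 * swap 7 11

/-- Generators of `C12`. -/
def gs11 : List P12 := [x0, y0, p12, q01, x1, y1, x2, er, cy, p24, p35]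

/-- A word. -/
def wordP (l : List P12) (w : List ℕ) : P12 := (w.map fun i => l.getD i 1).prod

theorem wordP_mem {l : List P12} (hl : ∀ b ∈ l, b ∈ C12) (w : List ℕ) : wordP l w ∈ C12 := by
  refine list_prod_mem fun b hb => ?_
  obtain ⟨i, -, rfl⟩ := List.mem_map.1 hb
  rw [List.getD_eq_getElem?_getD]
  cases h : l[i]? with
  | none => exact C12.one_mem
  | some v => exact hl v (List.mem_of_getElem? h)

theorem cgen_mem : ∀ b ∈ cgen, b ∈ C12 := by
  simp only [cgen, List.forall_mem_cons, List.not_mem_nil, false_implies, implies_true, and_true]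
  decide +kernel

theorem gs11_mem : ∀ b ∈ gs11, b ∈ C12 := by
  simp only [gs11, List.forall_mem_cons, List.not_mem_nil, false_implies, implies_true, and_true]
  decide +kernel

/-- The element of `C12` carrying `(1 2 3)` to a cycle through `0` and `1`. -/
def cycEl (i : Fin 10) : P12 := wordP cgen (cycWords.getD i.val [])

theorem cycEl_mem (i : Fin 10) : cycEl i ∈ C12 := wordP_mem cgen_mem _

/-- The three cycles `(0 1 i)`. -/
def c12 (i : Fin 10) : alternatingGroup (Fin 12) := toAlt (c3 0 1 ⟨i.val + 2, by omega⟩)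

theorem c12_facts : (∀ i, cycEl i * th0 * (cycEl i)⁻¹ = (c12 i : P12)) ∧ (∀ i, c12 i ^ 3 = 1) ∧
    ∀ i j, i ≠ j → c12 i * c12 j * (c12 i * c12 j) = 1 := by
  refine ⟨?_, ?_, ?_⟩ <;> decide +kernel

theorem closure_c12 : Subgroup.closure (Set.range c12) = ⊤ :=
  Alt.closure_c3_eq_top (a := 0) (b := 1) (by decide) c12 fun i h1 h2 => by
    have key : ∀ i : Fin 12, i ≠ 0 → i ≠ 1 → ∃ j : Fin 10, (c12 j : P12) = c3 0 1 i := by
      decide +kernel
    exact key i h1 h2

theorem pair_facts : ∀ r ∈ pairRows, r.1 < 10 ∧ r.2.1 < 10 ∧ r.2.2.2.1 < 192 ∧ r.2.2.2.2.1 < 192 ∧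
    r.2.2.2.2.2.1 < 192 ∧ r.2.2.2.2.2.2 < 192 ∧
    wordP cgen r.2.2.1 * cycEl (Fin.ofNat 10 r.1) = emb r.2.2.2.1 * b01 * emb r.2.2.2.2.1 ∧
    wordP cgen r.2.2.1 * cycEl (Fin.ofNat 10 r.2.1) = emb r.2.2.2.2.2.1 * b01 * emb r.2.2.2.2.2.2 ∧
    Alt.nm r.2.2.2.1 * e567 * (Alt.nm r.2.2.2.1)⁻¹ *
      (Alt.nm r.2.2.2.2.2.1 * e567 * (Alt.nm r.2.2.2.2.2.1)⁻¹) *
      (Alt.nm r.2.2.2.1 * e567 * (Alt.nm r.2.2.2.1)⁻¹ *
      (Alt.nm r.2.2.2.2.2.1 * e567 * (Alt.nm r.2.2.2.2.2.1)⁻¹)) = 1 := by
  decide +kernel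

theorem pair_cover : ∀ i j : Fin 10, i < j → ∃ r ∈ pairRows, r.1 = i.val ∧ r.2.1 = j.val := by
  decide +kernel

/-- The entries of a row, in the order of its word. -/
def rowList (r : List ℕ × List (ℕ × ℕ × ℕ) × List ℕ × ℕ) : List (ℕ × ℕ × ℕ) :=
  r.2.2.1.map fun q => r.2.1.getD q (0, 0, 0)

theorem gen_facts : ∀ p ∈ genRows.zip gs11, p.1.2.2.2 < 192 ∧
    emb p.1.2.2.2 = wordP cgen p.1.1 * p.2 * (wordP cgen p.1.1)⁻¹ ∧
    (∀ t ∈ rowList p.1, t.2.1 < 192 ∧ t.2.2 < 192 ∧
      wordP cgen p.1.1 * cycEl (Fin.ofNat 10 t.1) = emb t.2.1 * b01 * emb t.2.2) ∧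
    (((rowList p.1).map fun t => c12 (Fin.ofNat 10 t.1)).prod : P12) = p.2 ∧
    ((rowList p.1).map fun t => Alt.nm t.2.1 * e567 * (Alt.nm t.2.1)⁻¹).prod = Alt.nm p.1.2.2.2 := by
  decide +kernel

theorem gs11_cover : genRows.length = gs11.length := by decide +kernel

theorem point_facts : (∀ i : Fin 12, wordP gs11 (toZero.getD i.val []) i = 0) ∧
    (∀ j : Fin 12, 2 ≤ j.val → wordP gs11 (toTwo.getD j.val []) j = 2 ∧
      wordP gs11 (toTwo.getD j.val []) 0 = 0) ∧
    al 0 = 1 ∧ al 2 = 3 ∧ y0 * th0 * y0⁻¹ = (c12 1 : P12) ∧ cycEl 1 = y0 := by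
  refine ⟨?_, ?_, ?_, ?_, ?_, ?_⟩ <;> decide +kernel

theorem g8_words : ∀ i : Fin 6, Alt.g8 i =
    Alt.nm ([33, 38, 64, 71, 2, 5].getD i.val 0) * e567 ^ ([2, 2, 2, 2, 1, 2].getD i.val 0) *
      (Alt.nm ([33, 38, 64, 71, 2, 5].getD i.val 0))⁻¹ := by
  decide +kernel

theorem mem_nums : ∀ i : Fin 6, [33, 38, 64, 71, 2, 5].getD i.val 0 < 192 := by decide

variable {G : Type u} [Group G] {α : G} {S : Setting α} {g : G}

/-- The elements where a homomorphism agrees with the numbering. -/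
def Agree (S : Setting α) (φ : alternatingGroup (Fin 12) →* G) (a : P12) : Prop :=
  a ∈ C12 ∧ φ (toAlt a) = S.f a

theorem Agree.mul {φ : alternatingGroup (Fin 12) →* G} {a b : P12} (ha : Agree S φ a)
    (hb : Agree S φ b) : Agree S φ (a * b) :=
  ⟨mul_mem ha.1 hb.1, by
    rw [toAlt_mul (mem_C12.1 ha.1).1 (mem_C12.1 hb.1).1, map_mul, ha.2, hb.2, S.mul _ ha.1 _ hb.1]⟩

theorem Agree.one (φ : alternatingGroup (Fin 12) →* G) : Agree S φ 1 := by
  refine ⟨C12.one_mem, ?_⟩
  rw [S.f_one, show toAlt (1 : P12) = 1 from toAlt_coe 1, map_one]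

theorem Agree.inv {φ : alternatingGroup (Fin 12) →* G} {a : P12} (ha : Agree S φ a) :
    Agree S φ a⁻¹ := by
  refine ⟨inv_mem ha.1, ?_⟩
  rw [S.f_inv ha.1, ← ha.2, ← map_inv]
  congr 1
  refine Subtype.ext ?_
  rw [Subgroup.coe_inv, coe_toAlt (mem_C12.1 ha.1).1, coe_toAlt (mem_C12.1 (inv_mem ha.1)).1]

theorem Agree.word {φ : alternatingGroup (Fin 12) →* G} {l : List P12} (hl : ∀ b ∈ l, Agree S φ b)
    (w : List ℕ) : Agree S φ (wordP l w) := by
  induction w with
  | nil => exact Agree.one φ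
  | cons i w ih =>
    rw [wordP, List.map_cons, List.prod_cons]
    refine Agree.mul ?_ ih
    rw [List.getD_eq_getElem?_getD]
    cases h : l[i]? with
    | none => exact Agree.one φ
    | some v => exact hl v (List.mem_of_getElem? h)

variable (P : AltPat S) (hg : Theta S g) (χ : alternatingGroup (Fin 8) →* G)
  (hχ : ∀ i < 192, χ (Alt.nm i) = S.f (emb i)) (he : χ e567 = S.f b01 * g * (S.f b01)⁻¹)
include P hg hχ he

/-- Moving a conjugate of `g` to the eight points. -/
theorem moved_eq {m h : P12} (hm : m ∈ C12) (hh : h ∈ C12) {k l : ℕ} (hk : k < 192) (hl : l < 192)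
    (e : m * h = emb k * b01 * emb l) :
    S.f m * moved S g h * (S.f m)⁻¹ = χ (Alt.nm k * e567 * (Alt.nm k)⁻¹) := by
  have hK := (emb_commute hk).1
  have hL := (emb_commute hl).1
  have hb : b01 ∈ C12 := named_mem.2.2.2.2.2.2.1
  have e' : S.f m * S.f h = S.f (emb k) * S.f b01 * S.f (emb l) := by
    rw [← S.mul _ hm _ hh, e, S.mul _ (mul_mem hK hb) _ hL, S.mul _ hK _ hb]
  rw [map_mul, map_mul, map_inv, hχ k hk, he, moved]
  calc S.f m * (S.f h * g * (S.f h)⁻¹) * (S.f m)⁻¹
      = S.f m * S.f h * g * (S.f m * S.f h)⁻¹ := by group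
    _ = S.f (emb k) * S.f b01 * (S.f (emb l) * g * (S.f (emb l))⁻¹) * (S.f b01)⁻¹ *
          (S.f (emb k))⁻¹ := by rw [e']; group
    _ = _ := by
        have hf : S.f (emb l) * g * (S.f (emb l))⁻¹ = g := by
          rw [← mul_inv_eq_iff_eq_mul.1 (emb_fixed P hg hl), mul_inv_cancel_right]
        rw [hf]; group

/-- The homomorphism from `A₁₂`. -/
theorem exists_twelve [Finite G] : ∃ φ : alternatingGroup (Fin 12) →* G, Function.Injective φ ∧
    (∀ a (h : a ∈ C12), φ ⟨a, Perm.mem_alternatingGroup.2 (mem_C12.1 h).1⟩ = S.f a) ∧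
    (∀ a, φ (sh8 a) = χ a) ∧ φ (toAlt th0) = g := by
  classical
  obtain ⟨hcyc, hc3, hc2⟩ := c12_facts
  let x : Fin 10 → G := fun i => moved S g (cycEl i)
  have hlt : ∀ i j, i < j → x i * x j * (x i * x j) = 1 := by
    intro i j hij
    obtain ⟨r, hr, ei, ej⟩ := pair_cover i j hij
    obtain ⟨-, -, k1, l1, k2, l2, m1, m2, hrel⟩ := pair_facts r hr
    rw [show Fin.ofNat 10 r.1 = i from Fin.ext (by simp [ei])] at m1
    rw [show Fin.ofNat 10 r.2.1 = j from Fin.ext (by simp [ej])] at m2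
    have hm : wordP cgen r.2.2.1 ∈ C12 := wordP_mem cgen_mem _
    set f := S.f (wordP cgen r.2.2.1)
    have q1 : f * x i * f⁻¹ = _ := moved_eq P hg χ hχ he hm (cycEl_mem i) k1 l1 m1
    have q2 : f * x j * f⁻¹ = _ := moved_eq P hg χ hχ he hm (cycEl_mem j) k2 l2 m2
    have h : f * (x i * x j * (x i * x j)) * f⁻¹ = 1 := by
      calc _ = f * x i * f⁻¹ * (f * x j * f⁻¹) * (f * x i * f⁻¹ * (f * x j * f⁻¹)) := by group
        _ = 1 := by rw [q1, q2, ← map_mul, ← map_mul, hrel, map_one]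
    calc x i * x j * (x i * x j) = f⁻¹ * (f * (x i * x j * (x i * x j)) * f⁻¹) * f := by group
      _ = 1 := by rw [h]; group
  have hx2 : ∀ i j, i ≠ j → x i * x j * (x i * x j) = 1 := fun i j hij => by
    rcases lt_or_gt_of_ne hij with h | h
    · exact hlt i j h
    · calc x i * x j * (x i * x j) = (x j)⁻¹ * (x j * x i * (x j * x i)) * x j := by group
        _ = 1 := by rw [hlt j i h]; group
  obtain ⟨φ, hφ⟩ := Alt.exists_hom_carmichael 10 c12 hc3 hc2 closure_c12 x
    (fun i => moved_cube hg _) hx2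
  have hgens : ∀ b ∈ gs11, Agree S φ b := by
    intro b hb
    obtain ⟨n, hn, rfl⟩ := List.mem_iff_getElem.1 hb
    have hn' : n < genRows.length := gs11_cover ▸ hn
    have hz : (genRows[n], gs11[n]) ∈ genRows.zip gs11 := by
      rw [List.mem_iff_getElem]
      exact ⟨n, by simp [hn, hn'], List.getElem_zip⟩
    obtain ⟨hkc, hemb, hent, hprod, h8⟩ := gen_facts _ hz
    set r := genRows[n]
    set c := gs11[n] with hc
    have hcC : c ∈ C12 := gs11_mem c (List.getElem_mem hn)
    have hm : wordP cgen r.1 ∈ C12 := wordP_mem cgen_mem _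
    set f := S.f (wordP cgen r.1) with hf
    have key : ∀ L : List (ℕ × ℕ × ℕ), (∀ t ∈ L, t.2.1 < 192 ∧ t.2.2 < 192 ∧
        wordP cgen r.1 * cycEl (Fin.ofNat 10 t.1) = emb t.2.1 * b01 * emb t.2.2) →
        f * φ (L.map fun t => c12 (Fin.ofNat 10 t.1)).prod * f⁻¹ =
          χ (L.map fun t => Alt.nm t.2.1 * e567 * (Alt.nm t.2.1)⁻¹).prod := by
      intro L hL
      induction L with
      | nil => simp
      | cons t L ih =>
        obtain ⟨k, l, e⟩ := hL t List.mem_cons_self
        rw [List.map_cons, List.prod_cons, List.map_cons, List.prod_cons, map_mul, map_mul, hφ,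
          ← moved_eq P hg χ hχ he hm (cycEl_mem _) k l e, ← ih fun s hs => hL s (List.mem_cons_of_mem _ hs),
          ← hf]
        group
        rfl
    have h := key _ hent
    rw [h8, hχ _ hkc, hemb, S.f_conj hm hcC, ← hf] at h
    refine ⟨hcC, ?_⟩
    have hco : ((rowList r).map fun t => c12 (Fin.ofNat 10 t.1)).prod = toAlt c := by
      rw [← toAlt_coe ((rowList r).map fun t => c12 (Fin.ofNat 10 t.1)).prod, hprod]
    rw [hco] at h
    exact mul_left_cancel (mul_right_cancel h)
  have hx0 := hgens x0 (by simp [gs11])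
  have hy0 := hgens y0 (by simp [gs11])
  have hemb : ∀ i < 192, Agree S φ (emb i) := fun i hi => by
    refine emb_induction (p := Agree S φ) (Agree.one φ) (fun _ _ => Agree.mul) (fun y hy => ?_) hi
    have h1 := hgens x1 (by simp [gs11])
    have h2 := hgens y1 (by simp [gs11])
    have h3 := hgens x2 (by simp [gs11])
    have h4 := hgens er (by simp [gs11])
    have h5 := hgens cy (by simp [gs11])
    have h6 : Agree S φ b12 := by
      rw [show b12 = p24 * p35 by decide +kernel]
      exact (hgens p24 (by simp [gs11])).mul (hgens p35 (by simp [gs11]))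
    obtain ⟨l0, l1, l2, l3⟩ := letters_eq
    interval_cases y
    · rw [l0]; exact ((h4.mul h6).mul h5).mul h2
    · rw [l1]; exact ((h1.mul h3).mul h5).mul h2
    · rw [l2]; exact ((h1.mul h5).mul h2).mul h3
    · rw [l3]; exact (((h1.mul h2).mul h3).mul h6).mul h5
  have hall : ∀ a, a ∈ C12 → Agree S φ a := by
    intro a ha
    obtain ⟨hz, ht, hal0, hal2, -, -⟩ := point_facts
    set w := wordP gs11 (toZero.getD (a 0).val []) with hw
    have hwA : Agree S φ w := Agree.word hgens _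
    set a1 := w * a with ha1
    have m1 : a1 ∈ C12 := mul_mem hwA.1 ha
    have e0 : a1 0 = 0 := by rw [ha1, Perm.mul_apply, hw, hz]
    have hca : ∀ {p : P12}, p ∈ C12 → ∀ k, p (al k) = al (p k) := fun hp k =>
      congrArg (fun q : P12 => q k) (mem_C12.1 hp).2
    have e1 : a1 1 = 1 := by rw [← hal0, hca m1, e0]
    have h2 : 2 ≤ (a1 2).val := by
      by_contra hlt
      have : a1 2 = 0 ∨ a1 2 = 1 := by
        generalize a1 2 = j at hlt
        revert hlt; revert j; decide
      rcases this with h | h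
      · exact absurd (a1.injective (h.trans e0.symm)) (by decide)
      · exact absurd (a1.injective (h.trans e1.symm)) (by decide)
    set w2 := wordP gs11 (toTwo.getD (a1 2).val []) with hw2
    have hw2A : Agree S φ w2 := Agree.word hgens _
    set a2 := w2 * a1 with ha2
    have m2 : a2 ∈ C12 := mul_mem hw2A.1 m1
    have f0 : a2 0 = 0 := by rw [ha2, Perm.mul_apply, e0, hw2, (ht _ h2).2]
    have f2 : a2 2 = 2 := by rw [ha2, Perm.mul_apply, hw2, (ht _ h2).1]
    have low : ∀ k : Fin 12, k.val < 4 → a2 k = k := by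
      intro k hk
      fin_cases k
      · exact f0
      · show a2 1 = 1
        rw [← hal0, hca m2, f0]
      · exact f2
      · show a2 3 = 3
        rw [← hal2, hca m2, f2]
      all_goals exact absurd hk (by decide)
    have comm : ∀ p : P12, (∀ k : Fin 12, k.val < 4 → (p k).val < 4) →
        (∀ k : Fin 12, 4 ≤ k.val → p k = k) → p * a2 = a2 * p := by
      intro p hp1 hp2
      refine Equiv.ext fun k => ?_
      show p (a2 k) = a2 (p k)
      by_cases hk : k.val < 4
      · rw [low k hk, low _ (hp1 k hk)]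
      · rw [hp2 k (by omega), hp2]
        by_contra hlt
        have := a2.injective (low _ (by omega) : a2 (a2 k) = a2 k)
        rw [this] at hlt
        omega
    obtain ⟨v, hv, i, hi, e⟩ := exists_emb_of_commute m2 (comm x0 (by decide +kernel) (by decide +kernel))
      (comm y0 (by decide +kernel) (by decide +kernel))
    have hvA : Agree S φ v := by
      rcases hv with rfl | rfl | rfl | rfl
      exacts [Agree.one φ, hx0, hy0, hx0.mul hy0]
    have h2A : Agree S φ a2 := e ▸ hvA.mul (hemb i hi)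
    have ea : a = w⁻¹ * (w2⁻¹ * a2) := by rw [ha2, ha1]; group
    rw [ea]
    exact hwA.inv.mul (hw2A.inv.mul h2A)
  have hth : φ (toAlt th0) = g := by
    obtain ⟨-, -, -, -, hy, hcy⟩ := point_facts
    have hy0C : y0 ∈ C12 := named_mem.2.1
    have h := hφ 1
    rw [← toAlt_coe (c12 1), ← hy, toAlt_mul (by decide +kernel) (by decide +kernel),
      toAlt_mul (by decide +kernel) (by decide +kernel), map_mul, map_mul, hy0.2, hy0.inv.2,
      S.f_inv hy0C] at h
    simp only [x, moved, hcy] at h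
    exact mul_left_cancel (mul_right_cancel h)
  have hag : ∀ a (h : a ∈ C12), φ ⟨a, Perm.mem_alternatingGroup.2 (mem_C12.1 h).1⟩ = S.f a :=
    fun a h => by rw [← (hall a h).2, ← toAlt_coe ⟨a, Perm.mem_alternatingGroup.2 (mem_C12.1 h).1⟩]
  refine ⟨φ, ?_, hag, ?_, hth⟩
  · haveI : IsSimpleGroup (alternatingGroup (Fin 12)) := alternatingGroup.isSimpleGroup (by simp)
    rcases φ.normal_ker.eq_bot_or_eq_top with h | h
    · exact (MonoidHom.ker_eq_bot_iff _).1 h
    · exfalso
      have h1 : S.f al = 1 := by rw [← hag al al_mem, ← MonoidHom.mem_ker, h]; exact mem_top _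
      exact absurd ((S.eq_one_iff al_mem).1 h1) (by decide +kernel)
  · have heq : φ.comp sh8 = χ := by
      have hb : b01 ∈ C12 := named_mem.2.2.2.2.2.2.1
      have he' : φ (sh8 e567) = χ e567 := by
        rw [he, sh8_eq, e567_facts.1, toAlt_mul (by decide +kernel) (by decide +kernel),
          toAlt_mul (by decide +kernel) (by decide +kernel), map_mul, map_mul, (hall _ hb).2,
          ((hall _ hb).inv).2, S.f_inv hb, hth]
      have hn : ∀ k < 192, φ (sh8 (Alt.nm k)) = χ (Alt.nm k) := fun k hk => by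
        rw [hχ k hk, ← (hall _ (emb_commute hk).1).2, sh8_eq, emb]
      refine MonoidHom.eq_of_eqOn_dense Alt.closure_g8 ?_
      rintro _ ⟨i, rfl⟩
      simp only [MonoidHom.comp_apply, g8_words i, map_mul, map_inv, map_pow, he', hn _ (mem_nums i)]
    exact fun a => DFunLike.congr_fun heq a

end CfsgLib.Recog.CentTwelve
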