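import Cfsg.Agent.Lib.Recog.CentTwelve.AltPoints
import Cfsg.Agent.Lib.Perm.SwappedPair
import Cfsg.Agent.Lib.Invol.Isolated
import Cfsg.Agent.Lib.Recog.SymEight.Tools

/-!
The case of an isolated central involution.
-/

set_option autoImplicit false
set_option maxRecDepth 20000

namespace CfsgLib.Recog.CentTwelve

open Equiv Subgroup

universe u

/-- Every point is fixed or sent to its partner. -/
def IsFlip (p : P12) : Prop := ∀ k, p k = k ∨ p k = al k

instance : DecidablePred IsFlip := fun p => inferInstanceAs (Decidable (∀ k, p k = k ∨ p k = al k))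

theorem al_al : ∀ k : Fin 12, al (al k) = k := by decide +kernel

theorem IsFlip.sq {p : P12} (h : IsFlip p) : p * p = 1 := by
  refine Equiv.ext fun k => ?_
  show p (p k) = k
  rcases h k with e | e
  · rw [e, e]
  · rw [e]
    rcases h (al k) with e' | e'
    · exact e'.trans (p.injective (e'.trans e.symm))
    · exact e'.trans (al_al k)

theorem IsFlip.commute {p q : P12} (hp : IsFlip p) (hq : IsFlip q) (cp : p * al = al * p)
    (cq : q * al = al * q) : p * q = q * p := by
  refine Equiv.ext fun k => ?_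
  show p (q k) = q (p k)
  have a1 : p (al k) = al (p k) := congrArg (fun r : P12 => r k) cp
  have a2 : q (al k) = al (q k) := congrArg (fun r : P12 => r k) cq
  rcases hp k with e | e <;> rcases hq k with e' | e' <;> simp only [e, e', a1, a2]

theorem IsFlip.conj {p a : P12} (hp : IsFlip p) (ha : a * al = al * a) : IsFlip (a * p * a⁻¹) := by
  intro k
  obtain ⟨j, rfl⟩ := a.surjective k
  have e1 : (a * p * a⁻¹) (a j) = a (p j) := by simp
  rw [e1]
  rcases hp j with e | e
  · left; rw [e]
  · right; rw [e]; exact congrArg (fun r : P12 => r j) ha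

theorem flip_of_commute {a : P12} (h : ∀ e ∈ [x0, q01, x1, er, x2], a * e = e * a) : IsFlip a := by
  have hm : ∀ e ∈ [x0, q01, x1, er, x2], ∀ k, (e (a k) = a k ↔ e k = k) := by
    intro e he k
    have hk : a (e k) = e (a k) := congrArg (fun r : P12 => r k) (h e he)
    rw [← hk]
    exact ⟨fun x => a.injective x, fun x => congrArg a x⟩
  intro k
  have key : ∀ k j : Fin 12, ((x0 j = j ↔ x0 k = k) ∧ (q01 j = j ↔ q01 k = k) ∧ (x1 j = j ↔ x1 k = k) ∧
      (er j = j ↔ er k = k) ∧ (x2 j = j ↔ x2 k = k)) → j = k ∨ j = al k := by decide +kernel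
  exact key k (a k) ⟨hm x0 (by simp) k, hm q01 (by simp) k, hm x1 (by simp) k, hm er (by simp) k,
    hm x2 (by simp) k⟩

theorem flip_named : ∀ e ∈ [x0, q01, x1, er, x2], e ∈ C12 ∧ IsFlip e := by
  simp only [List.forall_mem_cons, List.not_mem_nil, false_implies, implies_true, and_true]
  decide +kernel

variable {G : Type u} [Group G] [Finite G] {α : G}

/-- Without other conjugates of `α` in its centraliser, `G = O(G) C(α)` with `O(G)` abelian. -/
theorem isolated_case (hα : orderOf α = 2) (S : Setting α)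
    (hiso : ∀ a ∈ C12, a * a = 1 → IsConj α (S.f a) → a = al) :
    Cfsg.oddCore G ⊔ centralizer ({α} : Set G) = ⊤ ∧ IsMulCommutative (Cfsg.oddCore G) := by
  have hαα : α * α = 1 := by rw [← sq, ← hα, pow_orderOf_eq_one]
  have hI : Cfsg.IsIsolatedInvolution α := by
    refine ⟨hα, fun g hc => ?_⟩
    obtain ⟨a, ha, e⟩ := S.exists_of_commute (show g * α * g⁻¹ * α = α * (g * α * g⁻¹) from
      (Commute.eq (by first | exact hc | exact hc.symm)))
    have h2 : a * a = 1 := (S.eq_one_iff (mul_mem ha ha)).1 (by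
      rw [S.mul _ ha _ ha, e, show g * α * g⁻¹ * (g * α * g⁻¹) = g * (α * α) * g⁻¹ by group, hαα,
        mul_one, mul_inv_cancel])
    have := hiso a ha h2 (isConj_iff.2 ⟨g, e.symm⟩)
    rw [this, S.f_al] at e
    exact e.symm
  refine ⟨by rw [sup_comm]; exact CfsgLib.Perm.SwappedPair.sup_oddCore_eq_top hI, ?_⟩
  set O := Cfsg.oddCore G with hO
  have hodd : ∀ x ∈ O, x * x = 1 → x = 1 := fun x hx h2 => by
    have hd : orderOf x ∣ 2 := orderOf_dvd_of_pow_eq_one (by rw [sq, h2])
    have ho : Odd (orderOf x) := Odd.of_dvd_nat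
      (Nat.coprime_two_right.mp (CfsgLib.Solvable.pPrimeCore_coprime 2)) (orderOf_dvd_natCard O hx)
    rcases (Nat.dvd_prime Nat.prime_two).1 hd with h | h
    · exact orderOf_eq_one_iff.1 h
    · rw [h] at ho; exact absurd ho (by decide)
  have hN : O.Normal := by rw [hO]; infer_instance
  have hfix : ∀ r ∈ O, Commute α r → r = 1 := by
    intro r hr hc
    obtain ⟨a, ha, e⟩ := S.exists_of_commute hc.eq.symm
    have hflip : IsFlip a := by
      refine flip_of_commute fun d hd => ?_
      obtain ⟨hdC, hdF⟩ := flip_named d hd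
      have hd2 := hdF.sq
      have hde : d⁻¹ = d := inv_eq_of_mul_eq_one_right hd2
      have hcC : a * d * a⁻¹ * d ∈ C12 := mul_mem (mul_mem (mul_mem ha hdC) (inv_mem ha)) hdC
      have hcO : S.f (a * d * a⁻¹ * d) ∈ O := by
        rw [S.mul _ (mul_mem (mul_mem ha hdC) (inv_mem ha)) _ hdC, S.f_conj ha hdC, e]
        have : S.f d * r⁻¹ * (S.f d)⁻¹ ∈ O := hN.conj_mem _ (inv_mem hr) _
        have h3 := mul_mem hr this
        rwa [← S.f_inv hdC, hde, show r * (S.f d * r⁻¹ * S.f d) = r * S.f d * r⁻¹ * S.f d by group] at h3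
      have hcf := hdF.conj (mem_C12.1 ha).2
      have hsq : a * d * a⁻¹ * d * (a * d * a⁻¹ * d) = 1 := by
        have hcm := hcf.commute hdF (mem_C12.1 (mul_mem (mul_mem ha hdC) (inv_mem ha))).2 (mem_C12.1 hdC).2
        calc a * d * a⁻¹ * d * (a * d * a⁻¹ * d) = a * d * a⁻¹ * (d * (a * d * a⁻¹)) * d := by group
          _ = a * d * a⁻¹ * (a * d * a⁻¹ * d) * d := by rw [← hcm]
          _ = a * d * a⁻¹ * (a * d * a⁻¹) * (d * d) := by group
          _ = 1 := by rw [hcf.sq, hd2, mul_one]
      have := hodd _ hcO (by rw [← S.mul _ hcC _ hcC, hsq, S.f_one])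
      have h1 := (S.eq_one_iff hcC).1 this
      rw [mul_eq_one_iff_eq_inv, hde, mul_inv_eq_iff_eq_mul] at h1
      exact h1
    have := hodd r hr (by rw [← e, ← S.mul _ ha _ ha, hflip.sq, S.f_one])
    exact this
  have hinv := CfsgLib.Recog.SymEight.inverts_of_no_fixed hαα (fun r hr => by
    have := hN.conj_mem r hr α
    rwa [inv_eq_of_mul_eq_one_right hαα] at this) hfix
  refine ⟨⟨fun x y => Subtype.ext ?_⟩⟩
  show (x : G) * y = y * x
  have h := hinv _ (mul_mem x.2 y.2)
  rw [mul_inv_rev, ← hinv x x.2, ← hinv y y.2] at h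
  have h' : α * ((x : G) * y) * α = α * ((y : G) * x) * α := by
    rw [h]
    calc α * (y : G) * α * (α * x * α) = α * (y : G) * (α * α) * x * α := by group
      _ = _ := by rw [hαα]; group
  exact mul_left_cancel (mul_right_cancel h')

end CfsgLib.Recog.CentTwelve
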