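import Cfsg.Prelude.Def_Classical
import Cfsg.Prelude.Def_CaseTheorems
import Cfsg.Agent.Lib.Recog.CentTwelve.AltCase
import Cfsg.Agent.Lib.Recog.CentTwelve.Isolated

/-!
The four outcomes from the three fusion patterns.
-/

set_option autoImplicit false

namespace CfsgLib.Recog.CentTwelve

open Subgroup

universe u

/-- The statement from the trichotomy and the symplectic case. -/
theorem assemble {G : Type u} [Group G] [Finite G] {α : G} (hα : orderOf α = 2) (S : Setting α)
    (htri : (∀ a ∈ C12, a * a = 1 → IsConj α (S.f a) → a = al) ∨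
      ∃ S' : Setting α, AltPat S' ∨ SpPat S')
    (hsp : ∀ S' : Setting α, SpPat S' → ∃ (F : Type) (_ : Field F) (_ : Fintype F),
      Fintype.card F = 2 ∧ Nonempty (G ≃* Cfsg.PSp 3 F)) :
    Nonempty (G ≃* ↥(alternatingGroup (Fin 12))) ∨ Nonempty (G ≃* ↥(alternatingGroup (Fin 13))) ∨
      (∃ (F : Type) (_ : Field F) (_ : Fintype F), Fintype.card F = 2 ∧ Nonempty (G ≃* Cfsg.PSp 3 F)) ∨
      (Cfsg.oddCore G ⊔ centralizer ({α} : Set G) = ⊤ ∧ IsMulCommutative ↥(Cfsg.oddCore G)) := by
  rcases htri with h | ⟨S', h | h⟩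
  · exact Or.inr (Or.inr (Or.inr (isolated_case hα S h)))
  · rcases alt_case h with e | e
    · exact Or.inl e
    · exact Or.inr (Or.inl e)
  · exact Or.inr (Or.inr (Or.inl (hsp S' h)))

end CfsgLib.Recog.CentTwelve
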