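import Cfsg.Agent.Lib.Recog.CentTwelve.Model

/-!
Permutations of twelve points coded in base sixteen, and a search through the centraliser of `al` which
preserves the last block.
-/

set_option autoImplicit false
set_option maxRecDepth 8000
set_option maxHeartbeats 1000000

namespace CfsgLib.Recog.CentTwelve.Code

/-- The digit of a code. -/
def dig (n i : ℕ) : ℕ := n / 16 ^ i % 16

/-- The code with the digits `f i`, `s ≤ i < s + k`. -/
def packN (f : ℕ → ℕ) : ℕ → ℕ → ℕ
  | 0, _ => 0
  | k + 1, s => f s + 16 * packN f k (s + 1)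

/-- The code with the given digits. -/
def pack (f : ℕ → ℕ) : ℕ := packN f 12 0

/-- Composition of codes. -/
def comp (a b : ℕ) : ℕ := pack fun i => dig a (dig b i)

/-- The code of a permutation. -/
def code (g : P12) : ℕ := pack fun i => (g (Fin.ofNat 12 i)).val

theorem dig_zero (x r : ℕ) (hx : x < 16) : dig (x + 16 * r) 0 = x := by
  simp [dig, Nat.add_mul_mod_self_left, Nat.mod_eq_of_lt hx]

theorem dig_succ (x r i : ℕ) (hx : x < 16) : dig (x + 16 * r) (i + 1) = dig r i := by
  unfold dig
  rw [pow_succ', ← Nat.div_div_eq_div_mul, Nat.add_mul_div_left _ _ (by norm_num : 0 < 16),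
    Nat.div_eq_of_lt hx, zero_add]

theorem dig_packN (f : ℕ → ℕ) (hf : ∀ i, f i < 16) :
    ∀ k s i, i < k → dig (packN f k s) i = f (s + i)
  | 0, _, _, hi => by omega
  | k + 1, s, 0, _ => by rw [packN, dig_zero _ _ (hf s), Nat.add_zero]
  | k + 1, s, i + 1, hi => by
    rw [packN, dig_succ _ _ _ (hf s), dig_packN f hf k (s + 1) i (by omega)]
    congr 1
    omega

theorem dig_pack (f : ℕ → ℕ) (hf : ∀ i, f i < 16) (i : ℕ) (hi : i < 12) : dig (pack f) i = f i := by
  rw [pack, dig_packN f hf 12 0 i hi, Nat.zero_add]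

theorem packN_congr (f g : ℕ → ℕ) : ∀ k s, (∀ i, s ≤ i → i < s + k → f i = g i) → packN f k s = packN g k s
  | 0, _, _ => rfl
  | k + 1, s, h => by
    rw [packN, packN, h s le_rfl (by omega),
      packN_congr f g k (s + 1) fun i h1 h2 => h i (by omega) (by omega)]

theorem dig_code (g : P12) (i : Fin 12) : dig (code g) i.val = (g i).val := by
  rw [code, dig_pack _ (fun k => lt_trans (g (Fin.ofNat 12 k)).isLt (by norm_num)) _ i.isLt,
    Fin.ofNat_val_eq_self]

theorem code_injective : Function.Injective code := by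
  intro a b h
  refine Equiv.ext fun i => Fin.ext ?_
  rw [← dig_code a i, ← dig_code b i, h]

theorem code_mul (a b : P12) : code (a * b) = comp (code a) (code b) := by
  have key : ∀ n, n < 12 → ((a * b) (Fin.ofNat 12 n)).val = dig (code a) (dig (code b) n) := fun n hn => by
    have e : n = (Fin.ofNat 12 n).val := by rw [Fin.val_ofNat, Nat.mod_eq_of_lt hn]
    conv_rhs => rw [e, dig_code b, dig_code a]
    rfl
  have h := packN_congr (fun n => ((a * b) (Fin.ofNat 12 n)).val) (fun n => dig (code a) (dig (code b) n)) 12 0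
    (fun i _ hi => key i (by omega))
  rw [code, comp, pack, pack]
  exact h

attribute [local irreducible] code comp packN

theorem code_inj {a b : P12} : code a = code b ↔ a = b := code_injective.eq_iff

theorem mem_map_code {a : P12} {L : List P12} : code a ∈ L.map code ↔ a ∈ L := by
  rw [List.mem_map]
  exact ⟨fun ⟨b, hb, e⟩ => code_injective e ▸ hb, fun h => ⟨a, h, rfl⟩⟩

/-- Membership of a number in a list. -/
def memB (c : ℕ) (L : List ℕ) : Bool := L.any fun x => Nat.beq x c

theorem memB_iff {c : ℕ} {L : List ℕ} : memB c L = true ↔ c ∈ L := by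
  simp [memB]

/-- Commutation of codes. -/
def cB (a b : ℕ) : Bool := Nat.beq (comp a b) (comp b a)

theorem cB_iff {a b : P12} : cB (code a) (code b) = true ↔ a * b = b * a := by
  simp [cB, ← code_mul, code_inj]

/-- The products of all choices from the lists. -/
def prods : List (List P12) → List P12
  | [] => [1]
  | l :: ls => l.flatMap fun a => (prods ls).map fun b => a * b

/-- The codes of `prods`. -/
def cprods : List (List ℕ) → List ℕ
  | [] => [code 1]
  | l :: ls => let r := cprods ls; l.flatMap fun a => r.map fun b => comp a b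

theorem map_code_prods : ∀ ls : List (List P12), (prods ls).map code = cprods (ls.map fun l => l.map code)
  | [] => rfl
  | l :: ls => by
    simp only [prods, cprods, List.map_cons, List.map_flatMap, List.flatMap_map, ← map_code_prods ls,
      List.map_map]
    congr 1
    funext a
    exact List.map_congr_left fun b _ => code_mul a b

theorem prods_mem (S : Subgroup P12) : ∀ ls : List (List P12), (∀ l ∈ ls, ∀ a ∈ l, a ∈ S) → ∀ p ∈ prods ls, p ∈ S
  | [], _, p, hp => by rw [List.mem_singleton.1 hp]; exact one_mem S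
  | l :: ls, h, p, hp => by
    obtain ⟨a, ha, hp'⟩ := List.mem_flatMap.1 hp
    obtain ⟨b, hb, rfl⟩ := List.mem_map.1 hp'
    exact mul_mem (h l (List.mem_cons_self ..) a ha)
      (prods_mem S ls (fun l' hl' => h l' (List.mem_cons_of_mem _ hl')) b hb)

/-- The partner in a pair. -/
def par (j : ℕ) : ℕ := if j % 2 = 0 then j + 1 else j - 1

/-- All choices of images of the even points `2 i`, `i ≥ n - k`, keeping the last block. -/
def search (P : ℕ → Bool) : ℕ → ℕ → ℕ → Bool
  | 0, _, acc => P acc
  | k + 1, used, acc => (List.range 12).all fun j =>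
      Nat.testBit used (j / 2) || ((decide (5 - k < 4) != decide (j < 8))) ||
        search P k (used ||| 2 ^ (j / 2)) (acc + (j + 16 * par j) * 256 ^ (5 - k))

theorem par_eq (a : P12) (ha : a * al = al * a) {i : ℕ} (hi : i < 6) :
    (a (Fin.ofNat 12 (2 * i + 1))).val = par (a (Fin.ofNat 12 (2 * i))).val := by
  have h : a (al (Fin.ofNat 12 (2 * i))) = al (a (Fin.ofNat 12 (2 * i))) :=
    congrArg (fun p : P12 => p (Fin.ofNat 12 (2 * i))) ha
  have e1 : ∀ i : Fin 6, al (Fin.ofNat 12 (2 * i.val)) = Fin.ofNat 12 (2 * i.val + 1) := by decide +kernel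
  have e2 : ∀ j : Fin 12, (al j).val = par j.val := by decide +kernel
  rw [e1 ⟨i, hi⟩] at h
  rw [h, e2]

/-- The contribution of one pair. -/
def term (a : P12) (i : ℕ) : ℕ :=
  ((a (Fin.ofNat 12 (2 * i))).val + 16 * par (a (Fin.ofNat 12 (2 * i))).val) * 256 ^ i

/-- The accumulated code. -/
def partialCode (a : P12) : ℕ → ℕ
  | 0 => 0
  | i + 1 => partialCode a i + term a i

/-- The pairs used. -/
def usedBits (a : P12) : ℕ → ℕ
  | 0 => 0
  | i + 1 => usedBits a i ||| 2 ^ ((a (Fin.ofNat 12 (2 * i))).val / 2)

theorem packN_two (f : ℕ → ℕ) (k s : ℕ) :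
    packN f (k + 2) s = f s + 16 * f (s + 1) + 256 * packN f k (s + 2) := by
  rw [packN, packN]; ring

theorem partialCode_add (a : P12) (ha : a * al = al * a) : ∀ i, i ≤ 6 →
    partialCode a i + 256 ^ i * packN (fun n => (a (Fin.ofNat 12 n)).val) (2 * (6 - i)) (2 * i) = code a
  | 0, _ => by rw [partialCode, pow_zero, one_mul, Nat.zero_add, code, pack]
  | i + 1, hi => by
    refine Eq.trans ?_ (partialCode_add a ha i (by omega))
    rw [show 2 * (6 - i) = 2 * (6 - (i + 1)) + 2 by omega, packN_two,
      par_eq a ha (show i < 6 by omega), show 2 * (i + 1) = 2 * i + 2 by ring, pow_succ]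
    simp only [partialCode, term]
    ring

theorem partialCode_six (a : P12) (ha : a * al = al * a) : partialCode a 6 = code a := by
  have h := partialCode_add a ha 6 le_rfl
  simpa [packN] using h

theorem pair_ne (a : P12) (ha : a * al = al * a) {i j : ℕ} (hi : i < 6) (hj : j < i) :
    (a (Fin.ofNat 12 (2 * j))).val / 2 ≠ (a (Fin.ofNat 12 (2 * i))).val / 2 := by
  intro e
  have hcases : (a (Fin.ofNat 12 (2 * j))).val = (a (Fin.ofNat 12 (2 * i))).val ∨
      (a (Fin.ofNat 12 (2 * j + 1))).val = (a (Fin.ofNat 12 (2 * i))).val := by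
    rw [par_eq a ha (show j < 6 by omega), par]
    split <;> omega
  rcases hcases with h | h <;>
  · have := congrArg Fin.val (a.injective (Fin.ext h))
    simp [Fin.val_ofNat] at this
    omega

theorem testBit_usedBits (a : P12) (ha : a * al = al * a) : ∀ i, i ≤ 6 → ∀ b : ℕ,
    (Nat.testBit (usedBits a i) b = true ↔ ∃ j < i, (a (Fin.ofNat 12 (2 * j))).val / 2 = b)
  | 0, _, b => by simp [usedBits]
  | i + 1, hi, b => by
    have ih := testBit_usedBits a ha i (by omega)
    rw [show usedBits a (i + 1) = usedBits a i ||| 2 ^ ((a (Fin.ofNat 12 (2 * i))).val / 2) from rfl,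
      Nat.testBit_or, Bool.or_eq_true, ih, Nat.testBit_two_pow, decide_eq_true_eq]
    constructor
    · rintro (⟨j, hj, h⟩ | h)
      · exact ⟨j, by omega, h⟩
      · exact ⟨i, by omega, h⟩
    · rintro ⟨j, hj, h⟩
      rcases Nat.lt_succ_iff_lt_or_eq.1 hj with h' | rfl
      · exact Or.inl ⟨j, h', h⟩
      · exact Or.inr h

theorem search_sound {P : ℕ → Bool} (h : search P 6 0 0 = true) (a : P12) (ha : a * al = al * a)
    (hb : ∀ i : Fin 12, i.val < 8 ↔ (a i).val < 8) : P (code a) = true := by
  suffices key : ∀ k i, i + k = 6 → search P k (usedBits a i) (partialCode a i) = true → P (code a) = true from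
    key 6 0 rfl h
  intro k
  induction k with
  | zero =>
    intro i hi hs
    obtain rfl : i = 6 := by omega
    rw [partialCode_six a ha] at hs
    exact hs
  | succ k ih =>
    intro i hi hs
    refine ih (i + 1) (by omega) ?_
    simp only [search, List.all_eq_true, List.mem_range, Bool.or_eq_true] at hs
    rw [show 5 - k = i by omega] at hs
    rcases hs _ (a (Fin.ofNat 12 (2 * i))).isLt with (h1 | h1) | h1
    · exfalso
      obtain ⟨j, hj, e⟩ := (testBit_usedBits a ha i (by omega) _).1 h1
      exact pair_ne a ha (by omega) hj e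
    · exfalso
      have := hb (Fin.ofNat 12 (2 * i))
      rw [Fin.val_ofNat, Nat.mod_eq_of_lt (by omega)] at this
      simp only [bne_iff_ne, ne_eq, decide_eq_decide] at h1
      exact h1 ⟨fun h => this.1 (by omega), fun h => by have := this.2 h; omega⟩
    · exact h1

end CfsgLib.Recog.CentTwelve.Code
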