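import Cfsg.Agent.Lib.Recog.CentTwelve.FusionBase

/-!
The three fusion patterns of the centraliser: `α` is not fused, or the pattern of the alternating groups of
degree twelve and thirteen, or the one of the symplectic group.
-/

set_option autoImplicit false
set_option maxRecDepth 20000
set_option maxHeartbeats 1000000

namespace CfsgLib.Recog.CentTwelve.Fus

open Equiv Subgroup
open CfsgLib.Recog.CentTwelve.Code (code code_mul code_inj comp memB memB_iff)
open scoped Pointwise

attribute [local irreducible] code comp vc vec ga lin mAlt mAlt' mSp mSp' mOne maskOf P T sigv thv thf coord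

universe u

variable {G : Type u} [Group G] {α : G}

/-- The numbering as a homomorphism. -/
def hom (S : Setting α) : C12 →* G where
  toFun a := S.f a
  map_one' := S.f_one
  map_mul' a b := S.mul a a.2 b b.2

theorem hom_injective (S : Setting α) : Function.Injective (hom S) := fun a b h =>
  Subtype.ext (S.inj a a.2 b b.2 h)

/-- The image of a subgroup of `C12`. -/
def img (S : Setting α) (H : Subgroup P12) : Subgroup G := (H.subgroupOf C12).map (hom S)

theorem mem_img {S : Setting α} {H : Subgroup P12} (hH : H ≤ C12) {g : G} :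
    g ∈ img S H ↔ ∃ a ∈ H, S.f a = g := by
  constructor
  · rintro ⟨a, ha, rfl⟩
    exact ⟨a, mem_subgroupOf.1 ha, rfl⟩
  · rintro ⟨a, ha, rfl⟩
    exact ⟨⟨a, hH ha⟩, mem_subgroupOf.2 ha, rfl⟩

theorem card_img {S : Setting α} {H : Subgroup P12} (hH : H ≤ C12) : Nat.card (img S H) = Nat.card H := by
  rw [img, ← Nat.card_congr (equivMapOfInjective _ _ (hom_injective S)).toEquiv,
    Nat.card_congr (subgroupOfEquivOfLe hH).toEquiv]

theorem S0_le : S0 ≤ C12 := fun _ ha => ha.1

theorem D12_le : D12 ≤ C12 := fun _ ha => (mem_D12.1 ha).1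

/-- The image of the Sylow subgroup is a Sylow subgroup. -/
theorem exists_sylow [Finite G] (S : Setting α) : ∃ T : Sylow 2 G, (T : Subgroup G) = img S S0 := by
  haveI : Fact (Nat.Prime 2) := ⟨Nat.prime_two⟩
  have h0 : Nat.card (img S S0) = 2 ^ 9 := by rw [card_img S0_le, card_S0]; norm_num
  have hC : Nat.card (centralizer ({α} : Set G)) = 2 ^ 9 * 45 := by
    have hr : centralizer ({α} : Set G) = (hom S).range := by
      ext n
      constructor
      · intro hn
        obtain ⟨a, ha, e⟩ := S.surj n hn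
        exact ⟨⟨a, ha⟩, e⟩
      · rintro ⟨a, rfl⟩
        exact S.mem a a.2
    rw [hr, ← Nat.card_congr (MonoidHom.ofInjective (hom_injective S)).toEquiv, card_C12]
    rfl
  obtain ⟨R, hR⟩ := S.sylow
  obtain ⟨m, hm⟩ := (IsPGroup.iff_card.1 R.2)
  have hle : m ≤ 9 := by
    have hd := Subgroup.card_dvd_of_le hR
    rw [hm, hC] at hd
    exact (Nat.pow_dvd_pow_iff_le_right (by norm_num)).1
      (Nat.Coprime.dvd_of_dvd_mul_right (Nat.Coprime.pow_left _ (by norm_num)) hd)
  have hge : 2 ^ 9 ≤ 2 ^ m := by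
    rw [← hm, R.card_eq_multiplicity]
    refine Nat.pow_le_pow_right (by norm_num) ?_
    exact (Nat.Prime.pow_dvd_iff_le_factorization Nat.prime_two Nat.card_pos.ne').1
      (h0 ▸ Subgroup.card_subgroup_dvd_card _)
  have : m = 9 := le_antisymm hle ((Nat.pow_le_pow_iff_right (by norm_num)).1 hge)
  refine ⟨Sylow.ofCard (img S S0) ?_, rfl⟩
  rw [h0, ← R.card_eq_multiplicity, hm, this]

/-- The element normalises the image of `D12`. -/
def Norm (S : Setting α) (n : G) : Prop := ∀ a ∈ D12, ∃ b ∈ D12, n * S.f a * n⁻¹ = S.f b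

theorem Norm.mul {S : Setting α} {m n : G} (hm : Norm S m) (hn : Norm S n) : Norm S (m * n) := by
  intro a ha
  obtain ⟨b, hb, e⟩ := hn a ha
  obtain ⟨c, hc, e'⟩ := hm b hb
  exact ⟨c, hc, by rw [← e', ← e]; group⟩

theorem Norm.pow {S : Setting α} {n : G} (hn : Norm S n) : ∀ k : ℕ, Norm S (n ^ k)
  | 0 => fun a ha => ⟨a, ha, by simp⟩
  | k + 1 => by rw [pow_succ]; exact (Norm.pow hn k).mul hn

theorem Norm.inv [Finite G] {S : Setting α} {n : G} (hn : Norm S n) : Norm S n⁻¹ := by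
  obtain ⟨k, hk⟩ := mem_powers_iff_mem_zpowers.2 (inv_mem (mem_zpowers n))
  exact hk ▸ hn.pow k

theorem norm_f (S : Setting α) {h : P12} (hh : h ∈ C12) (hn : ∀ a ∈ D12, h * a * h⁻¹ ∈ D12) :
    Norm S (S.f h) := fun a ha => ⟨_, hn a ha, (S.f_conj hh (D12_le ha)).symm⟩

/-- A conjugate of the elementary subgroup inside the Sylow subgroup is itself. -/
theorem norm_of_le (S : Setting α) {g : G} (hg : ∀ a ∈ D12, g * S.f a * g⁻¹ ∈ img S S0) : Norm S g := by
  classical
  have h : ∀ a : D12, ∃ b ∈ S0, S.f b = g * S.f a * g⁻¹ := fun a => (mem_img S0_le).1 (hg a a.2)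
  choose ψ hψ hψf using h
  let Ψ : D12 →* P12 :=
    { toFun := ψ
      map_one' := (S.eq_one_iff (S0_le (hψ 1))).1 (by rw [hψf, Subgroup.coe_one, S.f_one]; group)
      map_mul' := fun a b => S.inj _ (S0_le (hψ _)) _ (S0_le (mul_mem (hψ a) (hψ b))) (by
        rw [S.mul _ (S0_le (hψ a)) _ (S0_le (hψ b)), hψf, hψf, hψf, Subgroup.coe_mul,
          S.mul _ (D12_le a.2) _ (D12_le b.2)]
        group) }
  have hinj : Function.Injective Ψ := by
    intro a b e
    have e' : g * S.f a * g⁻¹ = g * S.f b * g⁻¹ := by rw [← hψf, ← hψf]; exact congrArg S.f e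
    exact Subtype.ext (S.inj _ (D12_le a.2) _ (D12_le b.2) (by simpa using e'))
  have hA : Ψ.range = D12 := by
    refine elementary_unique ?_ ?_ ?_ ?_
    · rintro _ ⟨a, rfl⟩
      exact hψ a
    · rw [← Nat.card_congr (MonoidHom.ofInjective hinj).toEquiv, card_D12]
    · rintro _ ⟨a, rfl⟩
      rw [← map_mul, show a * a = 1 from Subtype.ext (D12_sq a.2), map_one]
    · rintro _ ⟨a, rfl⟩ _ ⟨b, rfl⟩
      rw [← map_mul, ← map_mul, show a * b = b * a from Subtype.ext (D12_comm a.2 b.2)]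
  intro a ha
  exact ⟨ψ ⟨a, ha⟩, (SetLike.ext_iff.1 hA (ψ ⟨a, ha⟩)).1 ⟨⟨a, ha⟩, rfl⟩, (hψf ⟨a, ha⟩).symm⟩

/-- The normaliser controls the fusion in the elementary subgroup. -/
theorem burnside [Finite G] (S : Setting α) {a b : P12} (ha : a ∈ D12) (hb : b ∈ D12)
    (h : IsConj (S.f a) (S.f b)) : ∃ n, Norm S n ∧ n * S.f a * n⁻¹ = S.f b := by
  haveI : Fact (Nat.Prime 2) := ⟨Nat.prime_two⟩
  obtain ⟨g, hg⟩ := isConj_iff.1 h
  obtain ⟨T, hT⟩ := exists_sylow S
  let K : Subgroup G := centralizer {S.f b}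
  let D1 : Subgroup G := img S D12
  let D2 : Subgroup G := D1.map (MulAut.conj g).toMonoidHom
  have hD1 : D1 ≤ K := fun x hx => by
    obtain ⟨c, hc, rfl⟩ := (mem_img D12_le).1 hx
    exact mem_centralizer_singleton_iff.2 ((S.commute_iff (D12_le hc) (D12_le hb)).2 (D12_comm hc hb))
  have hD2 : D2 ≤ K := by
    rintro _ ⟨x, hx, rfl⟩
    obtain ⟨c, hc, rfl⟩ := (mem_img D12_le).1 hx
    refine mem_centralizer_singleton_iff.2 ?_
    have e := (S.commute_iff (D12_le hc) (D12_le ha)).2 (D12_comm hc ha)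
    rw [← hg]
    show g * S.f c * g⁻¹ * (g * S.f a * g⁻¹) = g * S.f a * g⁻¹ * (g * S.f c * g⁻¹)
    simp only [← mul_assoc, inv_mul_cancel_right]
    rw [mul_assoc g, e, ← mul_assoc]
  have hp1 : IsPGroup 2 D1 := by
    refine IsPGroup.iff_card.2 ⟨6, ?_⟩
    rw [card_img D12_le, card_D12]
    norm_num
  have hp2 : IsPGroup 2 D2 := hp1.map _
  obtain ⟨R1, hR1⟩ := (hp1.comap_of_injective K.subtype K.subtype_injective).exists_le_sylow
  obtain ⟨R2, hR2⟩ := (hp2.comap_of_injective K.subtype K.subtype_injective).exists_le_sylow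
  obtain ⟨c, hc⟩ := MulAction.exists_smul_eq K R2 R1
  obtain ⟨Q, hQ⟩ := (R1.2.map K.subtype).exists_le_sylow
  obtain ⟨k, hk⟩ := MulAction.exists_smul_eq G T Q
  have inT : ∀ x ∈ (Q : Subgroup G), k⁻¹ * x * k ∈ img S S0 := by
    intro x hx
    rw [← hk, Sylow.coe_subgroup_smul, Subgroup.mem_pointwise_smul_iff_inv_smul_mem, hT] at hx
    simpa [MulAut.smul_def] using hx
  have h1 : Norm S k⁻¹ := norm_of_le S fun d hd => by
    rw [inv_inv]
    have hdD : S.f d ∈ D1 := (mem_img D12_le).2 ⟨d, hd, rfl⟩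
    exact inT _ (hQ ⟨⟨S.f d, hD1 hdD⟩, hR1 hdD, rfl⟩)
  have h2 : Norm S (k⁻¹ * ((c : G) * g)) := norm_of_le S fun d hd => by
    have hdD : g * S.f d * g⁻¹ ∈ D2 := ⟨S.f d, (mem_img D12_le).2 ⟨d, hd, rfl⟩, rfl⟩
    have hmem : MulAut.conj c • (⟨_, hD2 hdD⟩ : K) ∈ ((c • R2 : Sylow 2 K) : Subgroup K) := by
      rw [Sylow.coe_subgroup_smul]
      exact Subgroup.smul_mem_pointwise_smul _ _ _ (hR2 hdD)
    rw [hc] at hmem
    have := inT _ (hQ ⟨_, hmem, rfl⟩)
    simpa [MulAut.smul_def, mul_assoc] using this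
  refine ⟨(c : G) * g, ?_, ?_⟩
  · have := h1.inv.mul h2
    rwa [inv_inv, mul_inv_cancel_left] at this
  · have hcb : (c : G) * S.f b = S.f b * (c : G) := mem_centralizer_singleton_iff.1 c.2
    rw [show (c : G) * g * S.f a * ((c : G) * g)⁻¹ = c * (g * S.f a * g⁻¹) * (c : G)⁻¹ by group, hg, hcb,
      mul_inv_cancel_right]

/-- The map of the vectors induced by an element of the normaliser. -/
theorem exists_action (S : Setting α) {n : G} (hn : Norm S n) :
    ∃ π : ℕ → ℕ, (∀ v < 64, π v < 64 ∧ n * S.f (vec v) * n⁻¹ = S.f (vec (π v))) ∧ π 0 = 0 ∧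
      (∀ v < 64, ∀ w < 64, π (Nat.xor v w) = Nat.xor (π v) (π w)) ∧
      (∀ v < 64, ∀ w < 64, π v = π w → v = w) := by
  classical
  have h : ∀ v, v < 64 → ∃ w < 64, n * S.f (vec v) * n⁻¹ = S.f (vec w) := fun v hv => by
    obtain ⟨b, hb, e⟩ := hn _ (vec_mem hv)
    obtain ⟨w, hw, rfl⟩ := exists_vec hb
    exact ⟨w, hw, e⟩
  let π : ℕ → ℕ := fun v => if hv : v < 64 then (h v hv).choose else 0
  have hπ : ∀ v < 64, π v < 64 ∧ n * S.f (vec v) * n⁻¹ = S.f (vec (π v)) := fun v hv => by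
    simp only [π, dif_pos hv]
    exact (h v hv).choose_spec
  have huniq : ∀ v < 64, ∀ w < 64, S.f (vec v) = S.f (vec w) → v = w := fun v hv w hw e =>
    vec_inj hv hw (S.inj _ (vec_mem_C hv) _ (vec_mem_C hw) e)
  refine ⟨π, hπ, ?_, fun v hv w hw => ?_, fun v hv w hw e => ?_⟩
  · refine huniq _ (hπ 0 (by norm_num)).1 0 (by norm_num) ?_
    rw [← (hπ 0 (by norm_num)).2, vec_mask.1, S.f_one]
    group
  · have hx := xor_lt hv hw
    refine huniq _ (hπ _ hx).1 _ (xor_lt (hπ v hv).1 (hπ w hw).1) ?_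
    rw [← (hπ _ hx).2, ← vec_mul hv hw, ← vec_mul (hπ v hv).1 (hπ w hw).1,
      S.mul _ (vec_mem_C hv) _ (vec_mem_C hw), S.mul _ (vec_mem_C (hπ v hv).1) _ (vec_mem_C (hπ w hw).1),
      ← (hπ v hv).2, ← (hπ w hw).2]
    group
  · refine huniq v hv w hw ?_
    have := (hπ v hv).2.trans ((congrArg (fun z => S.f (vec z)) e).trans (hπ w hw).2.symm)
    simpa using this

/-- A mask records the conjugates of `α`. -/
def IsMask (S : Setting α) (M : ℕ) : Prop :=
  ∀ v < 64, Nat.testBit M v = true ↔ IsConj α (S.f (vec v))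

theorem testBit_action {S : Setting α} {M : ℕ} (hM : IsMask S M) {n : G} {π : ℕ → ℕ}
    (hπ : ∀ v < 64, π v < 64 ∧ n * S.f (vec v) * n⁻¹ = S.f (vec (π v))) {v : ℕ} (hv : v < 64) :
    Nat.testBit M (π v) = Nat.testBit M v := by
  obtain ⟨h1, h2⟩ := hπ v hv
  have hc : IsConj (S.f (vec v)) (S.f (vec (π v))) := isConj_iff.2 ⟨n, h2⟩
  rw [Bool.eq_iff_iff, hM _ h1, hM _ hv]
  exact ⟨fun e => e.trans hc.symm, fun e => e.trans hc⟩

theorem mem_oList {M v : ℕ} : v ∈ oList M ↔ v < 64 ∧ Nat.testBit M v = true := by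
  simp [oList]

section Invariants

variable {S : Setting α} {M : ℕ} (hM : IsMask S M) {n : G} {π : ℕ → ℕ}
  (hπ : ∀ v < 64, π v < 64 ∧ n * S.f (vec v) * n⁻¹ = S.f (vec (π v)))
  (hlin : ∀ v < 64, ∀ w < 64, π (Nat.xor v w) = Nat.xor (π v) (π w))
  (hinj : ∀ v < 64, ∀ w < 64, π v = π w → v = w)

include hM hπ hinj in
theorem perm_map : ((oList M).map π).Perm (oList M) := by
  have hnd : (oList M).Nodup := List.nodup_range.filter _
  have hnd' : ((oList M).map π).Nodup :=
    List.Nodup.map_on (fun v hv w hw e => hinj v (mem_oList.1 hv).1 w (mem_oList.1 hw).1 e) hnd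
  refine (List.subperm_of_subset hnd' fun x hx => ?_).perm_of_length_le (by simp)
  obtain ⟨v, hv, rfl⟩ := List.mem_map.1 hx
  obtain ⟨h1, h2⟩ := mem_oList.1 hv
  exact mem_oList.2 ⟨(hπ v h1).1, by rw [testBit_action hM hπ h1, h2]⟩

include hM hπ hlin hinj in
theorem P_action {c : ℕ} (hc : c < 64) : P M (π c) = P M c := by
  unfold P
  rw [← (perm_map hM hπ hinj).countP_eq, List.countP_map]
  refine List.countP_congr fun u hu => ?_
  have hu' := (mem_oList.1 hu).1
  simp only [Function.comp_apply]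
  rw [← hlin u hu' c hc, testBit_action hM hπ (xor_lt hu' hc)]

include hM hπ hlin hinj in
theorem T_action {c : ℕ} (hc : c < 64) : T M (π c) = T M c := by
  unfold T
  rw [← ((perm_map hM hπ hinj).map _).sum_eq, List.map_map]
  refine congrArg List.sum (List.map_congr_left fun u hu => ?_)
  have hu' := (mem_oList.1 hu).1
  simp only [Function.comp_apply]
  rw [← (perm_map hM hπ hinj).countP_eq, List.countP_map]
  refine List.countP_congr fun v hv => ?_
  have hv' := (mem_oList.1 hv).1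
  simp only [Function.comp_apply]
  rw [← hlin u hu' v hv', ← hlin _ (xor_lt hu' hv') c hc, testBit_action hM hπ (xor_lt (xor_lt hu' hv') hc)]

end Invariants

theorem conj_const [Finite G] {S : Setting α} {M : ℕ} (hM : IsMask S M) {r : ℕ} (hr : r < 64)
    (hb : Nat.testBit M r = true) : P M r = P M 21 ∧ T M r = T M 21 := by
  have h21 : IsConj (S.f (vec 21)) (S.f (vec r)) := by
    rw [vec_mask.2.1, S.f_al]
    exact (hM r hr).1 hb
  obtain ⟨n, hn, e⟩ := burnside S (vec_mem (by norm_num : 21 < 64)) (vec_mem hr) h21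
  obtain ⟨π, hπ, -, hlin, hinj⟩ := exists_action S hn
  have hr' : π 21 = r := vec_inj (hπ 21 (by norm_num)).1 hr
    (S.inj _ (vec_mem_C (hπ 21 (by norm_num)).1) _ (vec_mem_C hr) ((hπ 21 (by norm_num)).2.symm.trans e))
  have h1 := P_action hM hπ hlin hinj (show (21 : ℕ) < 64 by norm_num)
  have h2 := T_action hM hπ hlin hinj (show (21 : ℕ) < 64 by norm_num)
  rw [hr'] at h1 h2
  exact ⟨h1, h2⟩

theorem isConj_rep (S : Setting α) {v : ℕ} (hv : v < 64) :
    IsConj (S.f (vec (rep v))) (S.f (vec v)) := by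
  have h := all_range path_facts hv
  simp only [Bool.and_eq_true, List.all_eq_true] at h
  have hr : rep v < 64 := by
    have := Nat.le_of_ble_eq_true h.1.2
    omega
  obtain ⟨hm, hc⟩ := hword_spec (path v) fun g hg => by
    have := Nat.le_of_ble_eq_true (h.2 g hg)
    omega
  refine S.isConj_f (vec_mem_C hr) hm ?_
  rw [(hc _ hr).1, Nat.eq_of_beq_eq_true h.1.1]

/-- An element with a square root is not conjugate to `α`. -/
theorem not_conj_root (S : Setting α) {r : ℕ} (hr : r ∈ [1, 5, 10]) : ¬ IsConj α (S.f (vec r)) := by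
  intro h
  obtain ⟨b, hb, e⟩ := exists_root hr
  obtain ⟨g, hg⟩ := isConj_iff.1 h.symm
  rw [← e, S.mul _ hb _ hb] at hg
  have hx : g * S.f b * g⁻¹ * (g * S.f b * g⁻¹) = α := by refine Eq.trans ?_ hg; group
  obtain ⟨c, hc, he⟩ := S.exists_of_commute (n := g * S.f b * g⁻¹)
    ((congrArg (g * S.f b * g⁻¹ * ·) hx.symm).trans
      ((mul_assoc _ _ _).symm.trans (congrArg (· * (g * S.f b * g⁻¹)) hx)))
  refine no_root hc (S.inj _ (mul_mem hc hc) _ al_mem ?_)
  rw [S.mul _ hc _ hc, he, hx, S.f_al]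

theorem exists_mask [Finite G] (hα : orderOf α = 2) (S : Setting α) :
    ∃ M ∈ [mOne, mSp, mSp', mAlt, mAlt'], IsMask S M := by
  classical
  let c : ℕ → Bool := fun r => decide (IsConj α (S.f (vec r)))
  have hone : ¬ IsConj α (1 : G) := by
    intro e
    obtain ⟨g, hg⟩ := isConj_iff.1 e
    have e1 : α = 1 := conj_eq_one_iff.1 hg
    rw [← orderOf_eq_one_iff, hα] at e1
    omega
  have hsel : ∀ r, r < 64 → rep r = r → c r = sel (c 2) (c 6) (c 22) (c 26) (c 42) (c 43) r := by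
    have hreps : ∀ r < 64, rep r = r → r ∈ [0, 1, 2, 5, 6, 10, 21, 22, 26, 42, 43] := by decide +kernel
    have hval : ∀ a2 a6 a22 a26 a42 a43 : Bool, sel a2 a6 a22 a26 a42 a43 0 = false ∧
        sel a2 a6 a22 a26 a42 a43 1 = false ∧ sel a2 a6 a22 a26 a42 a43 5 = false ∧
        sel a2 a6 a22 a26 a42 a43 10 = false ∧ sel a2 a6 a22 a26 a42 a43 21 = true ∧
        sel a2 a6 a22 a26 a42 a43 2 = a2 ∧ sel a2 a6 a22 a26 a42 a43 6 = a6 ∧
        sel a2 a6 a22 a26 a42 a43 22 = a22 ∧ sel a2 a6 a22 a26 a42 a43 26 = a26 ∧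
        sel a2 a6 a22 a26 a42 a43 42 = a42 ∧ sel a2 a6 a22 a26 a42 a43 43 = a43 := by decide +kernel
    obtain ⟨v0, v1, v5, v10, v21, v2, v6, v22, v26, v42, v43⟩ := hval (c 2) (c 6) (c 22) (c 26) (c 42) (c 43)
    intro r hr he
    have := hreps r hr he
    simp only [List.mem_cons, List.not_mem_nil, or_false] at this
    rcases this with rfl | rfl | rfl | rfl | rfl | rfl | rfl | rfl | rfl | rfl | rfl
    · rw [v0]; exact decide_eq_false (by rw [vec_mask.1, S.f_one]; exact hone)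
    · rw [v1]; exact decide_eq_false (not_conj_root S (by simp))
    · exact v2.symm
    · rw [v5]; exact decide_eq_false (not_conj_root S (by simp))
    · exact v6.symm
    · rw [v10]; exact decide_eq_false (not_conj_root S (by simp))
    · rw [v21]; exact decide_eq_true (by rw [vec_mask.2.1, S.f_al])
    · exact v22.symm
    · exact v26.symm
    · exact v42.symm
    · exact v43.symm
  refine ⟨maskOf (c 2) (c 6) (c 22) (c 26) (c 42) (c 43), ?_, ?_⟩
  all_goals
    have hM : IsMask S (maskOf (c 2) (c 6) (c 22) (c 26) (c 42) (c 43)) := by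
      intro v hv
      have hrr : rep v < 64 ∧ rep (rep v) = rep v := by
        have : ∀ v < 64, rep v < 64 ∧ rep (rep v) = rep v := by decide +kernel
        exact this v hv
      rw [eq_of_beq (all_range (mask_facts (c 2) (c 6) (c 22) (c 26) (c 42) (c 43)) hv),
        ← hsel _ hrr.1 hrr.2, decide_eq_true_eq]
      exact ⟨fun e => e.trans (isConj_rep S hv), fun e => e.trans (isConj_rep S hv).symm⟩
  · refine survivors _ _ _ _ _ _ ?_
    simp only [goodB, Bool.and_eq_true, List.all_eq_true, Bool.or_eq_true, Bool.not_eq_true']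
    constructor <;>
    · intro r hr
      have hr' : r < 64 := by
        simp only [List.mem_cons, List.not_mem_nil, or_false] at hr
        rcases hr with rfl | rfl | rfl | rfl | rfl | rfl <;> norm_num
      cases hb : Nat.testBit (maskOf (c 2) (c 6) (c 22) (c 26) (c 42) (c 43)) r with
      | false => exact Or.inl rfl
      | true =>
        refine Or.inr ?_
        obtain ⟨h1, h2⟩ := conj_const hM hr' hb
        first | rw [h1, Nat.beq_refl] | rw [h2, Nat.beq_refl]
  · exact hM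

/-- The setting composed with the automorphism. -/
def twist (S : Setting α) : Setting α where
  f a := S.f (sgm a)
  mul a ha b hb := by rw [sgm_mul ha hb, S.mul _ (sgm_mem ha) _ (sgm_mem hb)]
  mem a ha := S.mem _ (sgm_mem ha)
  surj n hn := by
    obtain ⟨a, ha, e⟩ := S.surj n hn
    exact ⟨sgm a, sgm_mem ha, by rw [sgm_sgm ha, e]⟩
  inj a ha b hb e := by
    have := congrArg sgm (S.inj _ (sgm_mem ha) _ (sgm_mem hb) e)
    rwa [sgm_sgm ha, sgm_sgm hb] at this
  f_al := by simp [sgm, chi_al.1, S.f_al]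
  sylow := S.sylow

theorem twist_mask {S : Setting α} {M M' : ℕ} (hM : IsMask S M)
    (hs : ∀ v < 64, sigv v < 64 ∧ Nat.testBit M (sigv v) = Nat.testBit M' v) : IsMask (twist S) M' := by
  intro v hv
  obtain ⟨h1, h2⟩ := hs v hv
  rw [← h2, hM _ h1]
  show _ ↔ IsConj α (S.f (sgm (vec v)))
  rw [of_decide_eq_true (all_range sgm_vec hv)]

/-- The fusion in `D12` decides the fusion of all involutions. -/
theorem fus_of_mask {S : Setting α} {M : ℕ} (hM : IsMask S M) {Q : P12 → Prop}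
    (hQ : ∀ v < 64, Nat.testBit M v = true ↔ Q (vec v))
    (hconj : ∀ a h, h ∈ C12 → (Q (h * a * h⁻¹) ↔ Q a)) {a : P12} (ha : a ∈ C12) (h2 : a * a = 1) :
    IsConj α (S.f a) ↔ Q a := by
  obtain ⟨h, hh, v, hv, e⟩ := exists_into_D ha h2
  rw [← hconj a h hh, e, ← hQ v hv, hM v hv]
  have hc := S.isConj_f ha hh e
  exact ⟨fun e => e.trans hc, fun e => e.trans hc.symm⟩

theorem srch_sound {π : ℕ → ℕ} (h0 : π 0 = 0) (hb : ∀ v < 64, π v < 64)
    (hlin : ∀ v < 64, ∀ w < 64, π (Nat.xor v w) = Nat.xor (π v) (π w))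
    (hbit : ∀ v < 64, Nat.testBit mAlt (π v) = Nat.testBit mAlt v) :
    ∀ k, k ≤ 6 → srch k ((basis.take (6 - k)).map π) = true → leafB (basis.map π) = true
  | 0, _, h => h
  | k + 1, hk, h => by
    refine srch_sound h0 hb hlin hbit k (by omega) ?_
    have hb64 : ∀ w ∈ basis, w < 64 ∧ Nat.testBit mAlt w = true := by decide +kernel
    have hlen : 6 - (k + 1) < basis.length := by simp [basis]; omega
    have htake : (basis.take (6 - (k + 1))).map π ++ [π basis[6 - (k + 1)]] =
        (basis.take (6 - k)).map π := by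
      rw [show 6 - k = 6 - (k + 1) + 1 by omega, List.take_succ_eq_append_getElem hlen, List.map_append,
        List.map_singleton]
    obtain ⟨hw, hwb⟩ := hb64 _ (List.getElem_mem hlen)
    rw [srch, List.all_eq_true] at h
    have := h (π basis[6 - (k + 1)]) (mem_oList.2 ⟨hb _ hw, by rw [hbit _ hw, hwb]⟩)
    rw [htake, Bool.or_eq_true] at this
    refine this.resolve_left ?_
    rw [Bool.not_eq_true', Bool.not_eq_false]
    unfold okB
    rw [List.all_eq_true]
    intro m _
    rw [List.length_map, List.length_take, Nat.min_eq_left (by simp [basis])]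
    obtain ⟨h1, h2⟩ := lin_map h0 hlin (basis.take (6 - k))
      (fun w hw' => (hb64 w (List.mem_of_mem_take hw')).1) (m + 2 ^ (6 - k - 1))
    rw [← h2, hbit _ h1]
    simp

theorem alt_pat [Finite G] {S : Setting α} (hM : IsMask S mAlt) : AltPat S := by
  have hfpf : ∀ v < 64, Nat.testBit mAlt v = true ↔ Fpf (vec v) := fun v hv => by
    have h := all_range pattern_facts hv
    simp only [Bool.and_eq_true, beq_iff_eq] at h
    rw [h.1.2, decide_eq_true_eq]
  have h22 : IsConj (S.f (vec 21)) (S.f (vec 22)) := by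
    rw [vec_mask.2.1, S.f_al]
    exact (hM 22 (by norm_num)).1 (by decide +kernel)
  obtain ⟨n, hn, e⟩ := burnside S (vec_mem (by norm_num : 21 < 64)) (vec_mem (by norm_num : 22 < 64)) h22
  obtain ⟨π, hπ, h0, hlin, hinj⟩ := exists_action S hn
  have h21 : π 21 = 22 := vec_inj (hπ 21 (by norm_num)).1 (by norm_num)
    (S.inj _ (vec_mem_C (hπ 21 (by norm_num)).1) _ (vec_mem_C (by norm_num))
      ((hπ 21 (by norm_num)).2.symm.trans e))
  have hleaf : leafB (basis.map π) = true := by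
    refine srch_sound h0 (fun v hv => (hπ v hv).1) hlin (fun v hv => testBit_action hM hπ hv) 5
      (by norm_num) ?_
    rw [show (basis.take (6 - 5)).map π = [π 21] from rfl, h21]
    exact srch_fact
  obtain ⟨w, hw, hor⟩ := List.any_eq_true.1 hleaf
  obtain ⟨hm, hc⟩ := hword_spec w fun g hg => by
    have := Nat.le_of_ble_eq_true (List.all_eq_true.1 (List.all_eq_true.1 hwords_facts w hw) g hg)
    omega
  have hn' : Norm S (n * S.f (hword w)) := hn.mul (norm_f S hm fun a ha => by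
    obtain ⟨v, hv, rfl⟩ := exists_vec ha
    rw [(hc v hv).1]
    exact vec_mem (hc v hv).2)
  obtain ⟨ρ, hρ, hρ0, hρlin, -⟩ := exists_action S hn'
  have hb64 : ∀ w ∈ basis, w < 64 := by decide +kernel
  have key : ∀ v < 64, ρ v = lin (basis.map π) (coord (actW w v)) := by
    intro v hv
    obtain ⟨e1, e2⟩ := hc v hv
    have hq := (lin_map h0 hlin basis hb64 (coord (actW w v))).2
    rw [Nat.eq_of_beq_eq_true (all_range coord_facts.1 e2)] at hq
    rw [← hq]
    refine vec_inj (hρ v hv).1 (hπ _ e2).1 (S.inj _ (vec_mem_C (hρ v hv).1) _ (vec_mem_C (hπ _ e2).1) ?_)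
    rw [← (hρ v hv).2, ← (hπ _ e2).2, ← e1, S.f_conj hm (vec_mem_C hv)]
    group
  have hu : ∀ L : List ℕ, ∀ L' : ℕ → ℕ, units.map L' = L → (∀ v, L' v = lin L v) →
      ((List.range 6).all fun i => Nat.beq (lin (basis.map π) (coord (actW w (2 ^ i)))) (L' (2 ^ i))) = true →
      ∀ v < 64, ρ v = L' v := by
    intro L L' hL hL' hall v hv
    have h64 : ∀ x ∈ units, x < 64 := by decide +kernel
    have hmap : units.map ρ = units.map L' := by
      refine List.map_congr_left fun x hx => ?_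
      have hxi : ∃ i < 6, 2 ^ i = x := by
        revert x
        decide +kernel
      obtain ⟨i, hi, rfl⟩ := hxi
      rw [key _ (h64 _ hx)]
      exact Nat.eq_of_beq_eq_true (all_range hall hi)
    have h' := (lin_map hρ0 hρlin units h64 v).2
    rw [Nat.eq_of_beq_eq_true (all_range units_facts.1 hv)] at h'
    rw [h', hmap, hL, hL']
  have hpows : ∃ L : ℕ → ℕ, (∀ v < 64, ρ v = L v) ∧ ∀ v < 64, L^[16] v = thv v ∧ L^[12] v = v := by
    simp only [Bool.or_eq_true] at hor
    rcases hor with h | h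
    · refine ⟨thv, hu _ thv units_facts.2.1 (fun v => by unfold thv; rfl) h, fun v hv => ?_⟩
      have h' := all_range coord_facts.2.1 hv
      simp only [Bool.and_eq_true] at h'
      exact ⟨Nat.eq_of_beq_eq_true h'.1.1.1.1, Nat.eq_of_beq_eq_true h'.1.1.2⟩
    · refine ⟨thf, hu _ thf units_facts.2.2 (fun v => by unfold thf; rfl) h, fun v hv => ?_⟩
      have h' := all_range coord_facts.2.1 hv
      simp only [Bool.and_eq_true] at h'
      exact ⟨Nat.eq_of_beq_eq_true h'.1.1.1.2, Nat.eq_of_beq_eq_true h'.1.2⟩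
  obtain ⟨L, hL, hLp⟩ := hpows
  let g0 := n * S.f (hword w)
  have hpow : ∀ k, ∀ v < 64, L^[k] v < 64 ∧ g0 ^ k * S.f (vec v) * (g0 ^ k)⁻¹ = S.f (vec (L^[k] v)) := by
    intro k
    induction k with
    | zero => exact fun v hv => ⟨hv, by simp⟩
    | succ k ih =>
      intro v hv
      obtain ⟨h1, h2⟩ := ih v hv
      rw [Function.iterate_succ_apply', ← hL _ h1]
      refine ⟨(hρ _ h1).1, ?_⟩
      rw [← (hρ _ h1).2, ← h2, pow_succ']
      simp only [g0, mul_inv_rev, mul_assoc]
  have h24 : (g0 ^ 12) ^ 2 = 1 := by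
    have hcomm : ∀ v < 64, g0 ^ 12 * S.f (vec v) = S.f (vec v) * g0 ^ 12 := fun v hv => by
      have := (hpow 12 v hv).2
      rw [(hLp v hv).2, mul_inv_eq_iff_eq_mul] at this
      exact this
    obtain ⟨a, ha, hae⟩ := S.exists_of_commute (n := g0 ^ 12) (by
      have := hcomm 21 (by norm_num)
      rwa [vec_mask.2.1, S.f_al] at this)
    have haD : a ∈ D12 := by
      have hcm : ∀ b ∈ D12, b * a = a * b := fun b hb => by
        obtain ⟨v, hv, rfl⟩ := exists_vec hb
        refine ((S.commute_iff ha (vec_mem_C hv)).1 ?_).symm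
        rw [hae]
        exact hcomm v hv
      obtain ⟨d0, d1, d2, d3, d4, d5, -⟩ := named_D
      exact mem_D12.2 ⟨ha, hcm _ d0, hcm _ d1, hcm _ d2, hcm _ d3, hcm _ d4, hcm _ d5⟩
    rw [← hae, pow_two, ← S.mul _ ha _ ha, D12_sq haD, S.f_one]
  have hth : ∀ v < 64, g0 ^ 16 * S.f (vec v) * (g0 ^ 16)⁻¹ = S.f (vec (thv v)) := fun v hv => by
    rw [(hpow 16 v hv).2, (hLp v hv).1]
  refine ⟨fun a ha h2 _ => fus_of_mask hM hfpf (fun a h _ => fpf_conj) ha h2, ?_, ?_, ⟨g0 ^ 16, ?_, ?_⟩⟩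
  · rw [← vec_mask.2.2.2.1, ← vec_mask.2.2.1]
    intro hc
    obtain ⟨m, hm', e'⟩ := burnside S (vec_mem (by norm_num : 1 < 64)) (vec_mem (by norm_num : 5 < 64)) hc
    obtain ⟨τ, hτ, -, hτlin, hτinj⟩ := exists_action S hm'
    have h15 : τ 1 = 5 := vec_inj (hτ 1 (by norm_num)).1 (by norm_num)
      (S.inj _ (vec_mem_C (hτ 1 (by norm_num)).1) _ (vec_mem_C (by norm_num))
        ((hτ 1 (by norm_num)).2.symm.trans e'))
    have := P_action hM hτ hτlin hτinj (show (1 : ℕ) < 64 by norm_num)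
    rw [h15] at this
    exact sep_fact this.symm
  · rw [← vec_mask.2.2.2.1, ← vec_mask.2.2.2.2]
    refine isConj_iff.2 ⟨S.f (gen 2) * g0 ^ 16, ?_⟩
    have h5 : thv 5 < 64 ∧ ga 2 (thv 5) = 9 := by decide +kernel
    obtain ⟨gm, gc⟩ := gen_spec (show 2 < 4 by norm_num)
    rw [show S.f (gen 2) * g0 ^ 16 * S.f (vec 5) * (S.f (gen 2) * g0 ^ 16)⁻¹ =
      S.f (gen 2) * (g0 ^ 16 * S.f (vec 5) * (g0 ^ 16)⁻¹) * (S.f (gen 2))⁻¹ by group,
      hth 5 (by norm_num), ← S.f_conj gm (vec_mem_C h5.1), (gc _ h5.1).1, h5.2]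
  · rw [← pow_mul, show 16 * 3 = 12 * 2 * 2 from rfl, pow_mul, pow_mul, h24, one_pow]
  · intro a ha
    obtain ⟨v, hv, rfl⟩ := exists_vec ha
    have h' := all_range coord_facts.2.1 hv
    simp only [Bool.and_eq_true] at h'
    have hlt : thv v < 64 := by
      have : ∀ v < 64, thv v < 64 := by decide +kernel
      exact this v hv
    rw [hth v hv, show th0 * vec v * th0⁻¹ = vec (thv v) from mul_inv_eq_iff_eq_mul.2 (code_inj.1 (by
      rw [code_mul, code_mul, code_vec hv, code_vec hlt]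
      exact Nat.eq_of_beq_eq_true h'.2))]

theorem sp_pat [Finite G] {S : Setting α} (hM : IsMask S mSp) : SpPat S := by
  refine ⟨fun a ha h2 _ => fus_of_mask hM (Q := fun a => a = al ∨ SpK a) (fun v hv => ?_)
    (fun a h hh => ?_) ha h2⟩
  · have h := all_range pattern_facts hv
    simp only [Bool.and_eq_true, beq_iff_eq] at h
    rw [h.1.1.2, decide_eq_true_eq]
  · have hc := al_commute hh
    refine or_congr ?_ (spK_conj hc)
    rw [mul_inv_eq_iff_eq_mul, ← hc, mul_right_inj]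

end CfsgLib.Recog.CentTwelve.Fus

namespace CfsgLib.Recog.CentTwelve

open Fus

universe u

/-- `α` is not fused, or the fusion is that of an alternating or of the symplectic group. -/
theorem trichotomy {G : Type u} [Group G] [Finite G] {α : G} (hα : orderOf α = 2) (S : Setting α) :
    (∀ a ∈ C12, a * a = 1 → IsConj α (S.f a) → a = al) ∨ ∃ S' : Setting α, AltPat S' ∨ SpPat S' := by
  obtain ⟨M, hmem, hM⟩ := exists_mask hα S
  have hpat : ∀ v < 64, (Nat.testBit mOne v = Nat.beq v 21) ∧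
      (sigv v < 64 ∧ Nat.testBit mSp' (sigv v) = Nat.testBit mSp v) ∧
      (sigv v < 64 ∧ Nat.testBit mAlt' (sigv v) = Nat.testBit mAlt v) := fun v hv => by
    have h := all_range pattern_facts hv
    simp only [Bool.and_eq_true, beq_iff_eq] at h
    have := Nat.le_of_ble_eq_true h.2
    exact ⟨h.1.1.1.1.1, ⟨by omega, h.1.1.1.1.2⟩, by omega, h.1.1.1.2⟩
  simp only [List.mem_cons, List.not_mem_nil, or_false] at hmem
  rcases hmem with rfl | rfl | rfl | rfl | rfl
  · refine Or.inl fun a ha h2 hc => ?_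
    obtain ⟨h, hh, v, hv, e⟩ := exists_into_D ha h2
    have hb := (hM v hv).2 (hc.trans (S.isConj_f ha hh e))
    rw [(hpat v hv).1] at hb
    obtain rfl := Nat.eq_of_beq_eq_true hb
    rw [vec_mask.2.1, mul_inv_eq_iff_eq_mul, ← al_commute hh] at e
    exact mul_left_cancel e
  · exact Or.inr ⟨S, Or.inr (sp_pat hM)⟩
  · exact Or.inr ⟨twist S, Or.inr (sp_pat (twist_mask hM fun v hv => (hpat v hv).2.1))⟩
  · exact Or.inr ⟨S, Or.inl (alt_pat hM)⟩
  · exact Or.inr ⟨twist S, Or.inl (alt_pat (twist_mask hM fun v hv => (hpat v hv).2.2))⟩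

end CfsgLib.Recog.CentTwelve
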