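import Cfsg.Agent.Lib.Recog.CentTwelve.FusionData

/-!
Consequences of the tables: `D12` as a space of vectors, involutions of `C12` up to conjugacy, and the
automorphism of `C12` given by the sign of the permutation of the six pairs.
-/

set_option autoImplicit false
set_option maxRecDepth 20000
set_option maxHeartbeats 1000000

namespace CfsgLib.Recog.CentTwelve.Fus

open Equiv Subgroup
open CfsgLib.Recog.CentTwelve.Code (code code_mul code_inj comp memB memB_iff)

attribute [local irreducible] code comp vc vec ga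

theorem xor_lt {v w : ℕ} (hv : v < 64) (hw : w < 64) : Nat.xor v w < 64 :=
  Nat.xor_lt_two_pow (n := 6) hv hw

theorem all_range {n : ℕ} {f : ℕ → Bool} (h : (List.range n).all f = true) {v : ℕ} (hv : v < n) :
    f v = true :=
  List.all_eq_true.1 h v (List.mem_range.2 hv)

theorem code_vec {v : ℕ} (hv : v < 64) : code (vec v) = vc v :=
  Nat.eq_of_beq_eq_true (all_range vc_facts hv)

theorem vec_mul {v w : ℕ} (hv : v < 64) (hw : w < 64) : vec v * vec w = vec (Nat.xor v w) := by
  refine code_inj.1 ?_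
  rw [code_mul, code_vec hv, code_vec hw, code_vec (xor_lt hv hw)]
  exact Nat.eq_of_beq_eq_true (all_range (all_range vec_facts.1 hv) hw)

theorem vec_mem {v : ℕ} (hv : v < 64) : vec v ∈ D12 := by
  refine mem_D12_iff.2 ((dList_code _).1 ?_)
  rw [code_vec hv]
  exact memB_iff.1 (all_range vec_facts.2.1 hv)

theorem vec_mem_C {v : ℕ} (hv : v < 64) : vec v ∈ C12 := (mem_D12.1 (vec_mem hv)).1

theorem vec_inj {v w : ℕ} (hv : v < 64) (hw : w < 64) (h : vec v = vec w) : v = w := by
  have h' := congrArg code h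
  obtain ⟨-, -, -, hn, hl⟩ := vec_facts
  rw [code_vec hv, code_vec hw] at h'
  unfold vc at h'
  rw [List.getD_eq_getElem?_getD, List.getD_eq_getElem?_getD, List.getElem?_eq_getElem (hl.symm ▸ hv),
    List.getElem?_eq_getElem (hl.symm ▸ hw), Option.getD_some, Option.getD_some] at h'
  exact hn.getElem_inj_iff.1 h'

theorem exists_vec {a : P12} (ha : a ∈ D12) : ∃ v < 64, vec v = a := by
  obtain ⟨-, -, h3, -, hl⟩ := vec_facts
  obtain ⟨v, hv, e⟩ := List.mem_iff_getElem.1 (memB_iff.1 (List.all_eq_true.1 h3 _ (mem_D12_code ha)))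
  refine ⟨v, hl ▸ hv, code_inj.1 ?_⟩
  rw [code_vec (hl ▸ hv)]
  unfold vc
  rw [List.getD_eq_getElem?_getD, List.getElem?_eq_getElem hv, Option.getD_some, e]

theorem gen_spec {g : ℕ} (hg : g < 4) :
    gen g ∈ C12 ∧ ∀ v < 64, gen g * vec v * (gen g)⁻¹ = vec (ga g v) ∧ ga g v < 64 := by
  have h := all_range gen_facts hg
  rw [Bool.and_eq_true] at h
  refine ⟨of_decide_eq_true h.1, fun v hv => ?_⟩
  have h2 := all_range h.2 hv
  rw [Bool.and_eq_true] at h2
  have hlt : ga g v < 64 := by
    have := Nat.le_of_ble_eq_true h2.2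
    omega
  refine ⟨mul_inv_eq_iff_eq_mul.2 (code_inj.1 ?_), hlt⟩
  rw [code_mul, code_mul, code_vec hv, code_vec hlt]
  exact Nat.eq_of_beq_eq_true h2.1

/-- The element of a word. -/
def hword (w : List ℕ) : P12 := (w.map gen).prod

theorem hword_spec : ∀ w : List ℕ, (∀ g ∈ w, g < 4) → hword w ∈ C12 ∧
    ∀ v < 64, hword w * vec v * (hword w)⁻¹ = vec (actW w v) ∧ actW w v < 64
  | [], _ => ⟨by rw [hword, List.map_nil, List.prod_nil]; exact one_mem _, fun v hv =>
      ⟨by simp [hword, actW], by simpa [actW] using hv⟩⟩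
  | g :: w, h => by
    obtain ⟨hm, hc⟩ := hword_spec w fun g' hg' => h g' (List.mem_cons_of_mem _ hg')
    obtain ⟨gm, gc⟩ := gen_spec (h g (List.mem_cons_self ..))
    have he : hword (g :: w) = gen g * hword w := by rw [hword, List.map_cons, List.prod_cons]; rfl
    refine ⟨he ▸ mul_mem gm hm, fun v hv => ?_⟩
    obtain ⟨e, hlt⟩ := hc v hv
    obtain ⟨e', hlt'⟩ := gc _ hlt
    refine ⟨?_, hlt'⟩
    rw [he, show actW (g :: w) v = ga g (actW w v) from rfl, ← e', ← e]
    group

/-- An additive map of the vectors respects combinations. -/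
theorem lin_map {π : ℕ → ℕ} (h0 : π 0 = 0)
    (hπ : ∀ v < 64, ∀ w < 64, π (Nat.xor v w) = Nat.xor (π v) (π w)) :
    ∀ ws : List ℕ, (∀ w ∈ ws, w < 64) → ∀ m, lin ws m < 64 ∧ π (lin ws m) = lin (ws.map π) m
  | [], _, _ => ⟨by simp [lin], h0⟩
  | w :: ws, hw, m => by
    obtain ⟨hlt, he⟩ := lin_map h0 hπ ws (fun x hx => hw x (List.mem_cons_of_mem _ hx)) (m / 2)
    simp only [List.map_cons, lin]
    cases Nat.testBit m 0 with
    | false =>
      simp only [cond_false]
      exact ⟨xor_lt (by norm_num) hlt, by rw [hπ _ (by norm_num) _ hlt, h0, he]⟩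
    | true =>
      simp only [cond_true]
      exact ⟨xor_lt (hw w (List.mem_cons_self ..)) hlt, by
        rw [hπ _ (hw w (List.mem_cons_self ..)) _ hlt, he]⟩

/-- The unit vectors. -/
def units : List ℕ := [1, 2, 4, 8, 16, 32]

theorem units_facts : ((List.range 64).all fun v => Nat.beq (lin units v) v) = true ∧
    units.map thv = [2, 3, 4, 8, 16, 32] ∧ units.map thf = [2, 3, 4, 12, 16, 32] := by decide +kernel

/-! ### Conjugacy of involutions -/

theorem exists_into_S0 {a : P12} (ha : a ∈ C12) {k : ℕ} (hk : a ^ 2 ^ k = 1) :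
    ∃ h ∈ C12, h * a * h⁻¹ ∈ S0 := by
  haveI : Fact (Nat.Prime 2) := ⟨Nat.prime_two⟩
  let Q : Subgroup C12 := S0.subgroupOf C12
  have hle : S0 ≤ C12 := fun x hx => hx.1
  have hQ : Nat.card Q = 512 := by
    rw [Nat.card_congr (subgroupOfEquivOfLe hle).toEquiv, card_S0]
  have hfac : Nat.card Q = 2 ^ (Nat.card C12).factorization 2 := by
    rw [hQ, card_C12, show (23040 : ℕ) = 2 ^ 9 * 45 from rfl,
      Nat.factorization_mul (by norm_num) (by norm_num), Nat.Prime.factorization_pow Nat.prime_two]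
    rw [Finsupp.add_apply, Finsupp.single_eq_same,
      Nat.factorization_eq_zero_of_not_dvd (n := 45) (p := 2) (by norm_num)]
    rfl
  let x : C12 := ⟨a, ha⟩
  have hp : IsPGroup 2 (Subgroup.zpowers x) := by
    rintro ⟨y, hy⟩
    obtain ⟨m, rfl⟩ := mem_zpowers_iff.1 hy
    refine ⟨k, Subtype.ext (Subtype.ext ?_)⟩
    push_cast
    rw [← zpow_natCast, ← zpow_mul, mul_comm, zpow_mul, zpow_natCast, hk, one_zpow]
  obtain ⟨R, hR⟩ := hp.exists_le_sylow
  obtain ⟨c, hc⟩ := MulAction.exists_smul_eq C12 R (Sylow.ofCard Q hfac)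
  have hx : c * x * c⁻¹ ∈ Q := by
    have hmem : MulAut.conj c • x ∈ ((c • R : Sylow 2 C12) : Subgroup C12) := by
      rw [Sylow.coe_subgroup_smul]
      exact Subgroup.smul_mem_pointwise_smul _ _ _ (hR (mem_zpowers x))
    rw [hc] at hmem
    simpa using hmem
  exact ⟨c, c.2, mem_subgroupOf.1 hx⟩

theorem exists_into_D {a : P12} (ha : a ∈ C12) (h2 : a * a = 1) :
    ∃ h ∈ C12, ∃ v < 64, h * a * h⁻¹ = vec v := by
  by_cases h1 : a = 1
  · refine ⟨1, one_mem _, 0, by norm_num, ?_⟩
    rw [h1, vec_mask.1]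
    group
  obtain ⟨h, hh, hS⟩ := exists_into_S0 ha (k := 1) (by rw [pow_one, pow_two, h2])
  have e2 : h * a * h⁻¹ * (h * a * h⁻¹) = 1 := by
    rw [show h * a * h⁻¹ * (h * a * h⁻¹) = h * (a * a) * h⁻¹ by group, h2, mul_one, mul_inv_cancel]
  have e1 : h * a * h⁻¹ ≠ 1 := fun e => h1 (conj_eq_one_iff.1 e)
  obtain ⟨k, hk, hD⟩ := exists_mover hS e2 e1
  obtain ⟨v, hv, e⟩ := exists_vec hD
  exact ⟨k * h, mul_mem hk hh, v, hv, by rw [e]; group⟩

theorem no_root {b : P12} (hb : b ∈ C12) : b * b ≠ al := by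
  intro e
  have h4 : b ^ 2 ^ 2 = 1 := by
    rw [show (2 : ℕ) ^ 2 = 2 + 2 from rfl, pow_add, pow_two, e]
    decide +kernel
  obtain ⟨h, hh, hS⟩ := exists_into_S0 hb h4
  have hsq : h * b * h⁻¹ * (h * b * h⁻¹) = al := by
    rw [show h * b * h⁻¹ * (h * b * h⁻¹) = h * (b * b) * h⁻¹ by group, e, al_commute hh,
      mul_inv_cancel_right]
  have := List.all_eq_true.1 root_facts.2 _ (mem_S0_code hS)
  rw [← code_mul, hsq, Nat.beq_refl] at this
  exact Bool.false_ne_true this

theorem exists_root {r : ℕ} (hr : r ∈ [1, 5, 10]) : ∃ b ∈ C12, b * b = vec r := by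
  have h64 : r < 64 := by
    simp only [List.mem_cons, List.not_mem_nil, or_false] at hr
    rcases hr with rfl | rfl | rfl <;> norm_num
  have := List.all_eq_true.1 root_facts.1 r hr
  obtain ⟨c, hc, he⟩ := List.any_eq_true.1 this
  have hcm : c ∈ s0List.map code := by
    rw [s0List, Code.map_code_prods]
    exact memB_iff.1 (List.all_eq_true.1 s0Codes_facts.2.1 c hc)
  obtain ⟨b, hb, rfl⟩ := List.mem_map.1 hcm
  refine ⟨b, (s0List_mem hb).1, code_inj.1 ?_⟩
  rw [code_mul, code_vec h64]
  exact Nat.eq_of_beq_eq_true he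

/-! ### Predicates of the patterns -/

theorem fpf_conj {a h : P12} : Fpf (h * a * h⁻¹) ↔ Fpf a := by
  constructor
  · intro hf i e
    exact hf (h i) (by simp [e])
  · intro hf i e
    refine hf (h⁻¹ i) (h.injective ?_)
    simpa using e

theorem spK_conj {a h : P12} (hh : h * al = al * h) : SpK (h * a * h⁻¹) ↔ SpK a := by
  classical
  have key : (Finset.univ.filter fun i => (h * a * h⁻¹) i ≠ al i) =
      (Finset.univ.filter fun i => a i ≠ al i).map h.toEmbedding := by
    ext i
    have hal : al i = h (al (h⁻¹ i)) := by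
      rw [← Perm.mul_apply, hh, Perm.mul_apply, ← Perm.mul_apply h, mul_inv_cancel, Perm.one_apply]
    rw [Finset.mem_map_equiv, Finset.mem_filter, Finset.mem_filter, hal]
    simp [← Perm.inv_def]
  unfold SpK
  rw [fpf_conj, key, Finset.card_map]

/-! ### The automorphism -/

/-- The pair of a point. -/
def pr (i : Fin 12) : Fin 6 := ⟨i.val / 2, by omega⟩

/-- The first point of a pair. -/
def lo (i : Fin 6) : Fin 12 := ⟨2 * i.val, by omega⟩

theorem pr_facts : (∀ i, pr (lo i) = i) ∧ (∀ i, pr (al i) = pr i) ∧ (∀ i, lo (pr i) = i ∨ lo (pr i) = al i) := by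
  decide +kernel

theorem pr_apply {a : P12} (ha : a * al = al * a) (j : Fin 12) : pr (a (lo (pr j))) = pr (a j) := by
  rcases pr_facts.2.2 j with h | h <;> rw [h]
  rw [show a (al j) = al (a j) from congrArg (fun p : P12 => p j) ha, pr_facts.2.1]

/-- The permutation of the pairs. -/
def qhom : centralizer ({al} : Set P12) →* Perm (Fin 6) where
  toFun a :=
    { toFun := fun i => pr ((a : P12) (lo i))
      invFun := fun i => pr (((a : P12))⁻¹ (lo i))
      left_inv := fun i => by
        dsimp only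
        rw [pr_apply (mem_centralizer_singleton_iff.1 (inv_mem a.2))]
        simp [pr_facts.1]
      right_inv := fun i => by
        dsimp only
        rw [pr_apply (mem_centralizer_singleton_iff.1 a.2)]
        simp [pr_facts.1] }
  map_one' := Equiv.ext fun i => by simp [pr_facts.1]
  map_mul' a b := Equiv.ext fun i => by
    simp only [Perm.mul_apply, Equiv.coe_fn_mk, Subgroup.coe_mul]
    exact (pr_apply (mem_centralizer_singleton_iff.1 a.2) _).symm

instance (a : P12) : Decidable (a ∈ centralizer ({al} : Set P12)) :=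
  decidable_of_iff' _ mem_centralizer_singleton_iff

/-- The sign of the permutation of the pairs. -/
def chi (a : P12) : ℤˣ :=
  if h : a ∈ centralizer ({al} : Set P12) then Perm.sign (qhom ⟨a, h⟩) else 1

theorem chi_mul {a b : P12} (ha : a ∈ C12) (hb : b ∈ C12) : chi (a * b) = chi a * chi b := by
  have h1 : a ∈ centralizer ({al} : Set P12) := (mem_inf.1 ha).2
  have h2 : b ∈ centralizer ({al} : Set P12) := (mem_inf.1 hb).2
  rw [chi, dif_pos (mul_mem h1 h2), chi, dif_pos h1, chi, dif_pos h2, ← map_mul, ← map_mul]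
  rfl

/-- The automorphism of `C12`. -/
def sgm (a : P12) : P12 := if chi a = 1 then a else a * al

theorem chi_al : chi al = 1 ∧ chi 1 = 1 := by decide +kernel

theorem sgm_vec : ((List.range 64).all fun v => decide (sgm (vec v) = vec (sigv v))) = true := by
  decide +kernel

theorem sgm_mem {a : P12} (ha : a ∈ C12) : sgm a ∈ C12 := by
  unfold sgm
  split
  · exact ha
  · exact mul_mem ha al_mem

theorem al_sq : al * al = 1 := by decide +kernel

theorem sgm_mul {a b : P12} (ha : a ∈ C12) (hb : b ∈ C12) : sgm (a * b) = sgm a * sgm b := by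
  have hb2 : b * al = al * b := al_commute hb
  unfold sgm
  rw [chi_mul ha hb]
  rcases Int.units_eq_one_or (chi a) with h1 | h1 <;> rcases Int.units_eq_one_or (chi b) with h2 | h2 <;>
    simp only [h1, h2, mul_one, one_mul, neg_mul, neg_neg, if_true, show ¬ ((-1 : ℤˣ) = 1) by decide, if_false]
  · exact mul_assoc a b al
  · rw [mul_assoc, hb2, mul_assoc]
  · rw [mul_assoc a al, ← mul_assoc al b, ← hb2, mul_assoc b al, al_sq, mul_one]

theorem sgm_sgm {a : P12} (ha : a ∈ C12) : sgm (sgm a) = a := by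
  by_cases h : chi a = 1
  · simp [sgm, h]
  · have h' : chi (a * al) ≠ 1 := by rwa [chi_mul ha al_mem, chi_al.1, mul_one]
    simp [sgm, h, h', mul_assoc, al_sq]

end CfsgLib.Recog.CentTwelve.Fus
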