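import Cfsg.Agent.Lib.Recog.CentTwelve.Sylow
import Mathlib.GroupTheory.Perm.Fin

/-!
The elementary subgroup `D12` as the vectors of six bits, the classes of the normaliser in `C12`, and the
finite computations which leave three possible fusion patterns.
-/

set_option autoImplicit false
set_option maxRecDepth 20000
set_option maxHeartbeats 1000000

namespace CfsgLib.Recog.CentTwelve.Fus

open Equiv
open CfsgLib.Recog.CentTwelve.Code (code code_mul code_inj comp memB memB_iff)

/-- The combination of a list of vectors. -/
def lin : List ℕ → ℕ → ℕ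
  | [], _ => 0
  | w :: ws, m => Nat.xor (bif Nat.testBit m 0 then w else 0) (lin ws (m / 2))

/-- The product selected by the bits. -/
def pw : List P12 → ℕ → P12
  | [], _ => 1
  | w :: ws, m => (bif Nat.testBit m 0 then w else 1) * pw ws (m / 2)

/-- The element of `D12` of a vector. -/
def vec (v : ℕ) : P12 := pw [x0, y0, x1, y1, x2, y2] v

/-- The codes of the vectors. -/
def vcodes : List ℕ :=
  [205163983024656, 205163983020801, 205163983015986, 205163983012131, 205163730383376,
   205163730379521, 205163730374706, 205163730370851, 205163414827536, 205163414823681,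
   205163414818866, 205163414815011, 205163162186256, 205163162182401, 205163162177586,
   205163162173731, 188606884098576, 188606884094721, 188606884089906, 188606884086051,
   188606631457296, 188606631453441, 188606631448626, 188606631444771, 188606315901456,
   188606315897601, 188606315892786, 188606315888931, 188606063260176, 188606063256321,
   188606063251506, 188606063247651, 167926616568336, 167926616564481, 167926616559666,
   167926616555811, 167926363927056, 167926363923201, 167926363918386, 167926363914531,
   167926048371216, 167926048367361, 167926048362546, 167926048358691, 167925795729936,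
   167925795726081, 167925795721266, 167925795717411, 151369517642256, 151369517638401,
   151369517633586, 151369517629731, 151369265000976, 151369264997121, 151369264992306,
   151369264988451, 151368949445136, 151368949441281, 151368949436466, 151368949432611,
   151368696803856, 151368696800001, 151368696795186, 151368696791331]

/-- The code of a vector. -/
def vc (v : ℕ) : ℕ := vcodes.getD v 0

theorem vc_facts : ((List.range 64).all fun v => Nat.beq (code (vec v)) (vc v)) = true := by decide +kernel

theorem vec_facts : ((List.range 64).all fun v => (List.range 64).all fun w =>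
      Nat.beq (comp (vc v) (vc w)) (vc (Nat.xor v w))) = true ∧
    ((List.range 64).all fun v => memB (vc v) dCodes) = true ∧
    (dCodes.all fun c => memB c vcodes) = true ∧ vcodes.Nodup ∧ vcodes.length = 64 := by decide +kernel

theorem vec_mask : vec 0 = 1 ∧ vec 21 = al ∧ vec 1 = x0 ∧ vec 5 = x0 * x1 ∧ vec 9 = x0 * y1 := by
  decide +kernel

/-- The generators of the normaliser of `D12` in `C12`. -/
def gens : List P12 := [e01, e12, b01, b12]

/-- A generator. -/
def gen (g : ℕ) : P12 := gens.getD g 1

/-- The action of a generator on the unit vectors. -/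
def gact : List (List ℕ) :=
  [[1, 3, 4, 12, 16, 32], [1, 2, 4, 12, 16, 48], [4, 8, 1, 2, 16, 32], [1, 2, 16, 32, 4, 8]]

/-- The action of a generator. -/
def ga (g v : ℕ) : ℕ := lin (gact.getD g []) v

theorem gen_facts : ((List.range 4).all fun g => decide (gen g ∈ C12) &&
      (List.range 64).all fun v => Nat.beq (comp (code (gen g)) (vc v)) (comp (vc (ga g v)) (code (gen g))) &&
        Nat.ble (ga g v + 1) 64) = true := by decide +kernel

/-- The action of a word. -/
def actW (w : List ℕ) (v : ℕ) : ℕ := w.foldr ga v

/-- The representatives of the classes. -/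
def repTab : List ℕ :=
  [0, 1, 2, 2, 1, 5, 6, 6, 2, 6, 10, 10, 2, 6, 10, 10, 1, 5, 6, 6, 5, 21, 22, 22, 6, 22, 26, 26, 6,
   22, 26, 26, 2, 6, 10, 10, 6, 22, 26, 26, 10, 26, 42, 43, 10, 26, 43, 42, 2, 6, 10, 10, 6, 22, 26,
   26, 10, 26, 43, 42, 10, 26, 42, 43]

/-- A word from the representative. -/
def pathTab : List (List ℕ) :=
  [[], [], [], [0], [2], [], [], [0], [2], [2], [], [1, 0], [2, 0], [2, 0], [1], [0], [3, 2], [3],
   [3], [3, 0], [2, 3], [], [], [0], [2, 3], [2], [], [1, 0], [2, 3, 0], [2, 0], [1], [0], [3, 2],
   [3, 2], [3], [0, 3], [2, 3, 2], [3, 2], [3], [0, 3], [2, 3], [2, 3], [], [], [2, 0, 3], [2, 0, 3],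
   [0], [0], [3, 2, 0], [3, 2, 0], [3, 1], [3, 0], [2, 3, 2, 0], [3, 2, 0], [3, 1], [3, 0], [2, 3, 1],
   [2, 3, 1], [1, 0], [1, 0], [2, 3, 0], [2, 3, 0], [1], [1]]

/-- The representative of the class of a vector. -/
def rep (v : ℕ) : ℕ := repTab.getD v 0

/-- The word leading to a vector. -/
def path (v : ℕ) : List ℕ := pathTab.getD v []

theorem path_facts : ((List.range 64).all fun v => Nat.beq (actW (path v) (rep v)) v &&
    Nat.ble (rep v + 1) 64 && (path v).all fun g => Nat.ble (g + 1) 4) = true := by decide +kernel

theorem root_facts : ([1, 5, 10].all fun r => s0Codes.any fun c => Nat.beq (comp c c) (vc r)) = true ∧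
    (s0Codes.all fun c => !Nat.beq (comp c c) (code al)) = true := by decide +kernel

/-- The value of a class function on a representative. -/
def sel (c2 c6 c22 c26 c42 c43 : Bool) (r : ℕ) : Bool :=
  Nat.beq r 21 || (Nat.beq r 2 && c2) || (Nat.beq r 6 && c6) || (Nat.beq r 22 && c22) ||
    (Nat.beq r 26 && c26) || (Nat.beq r 42 && c42) || (Nat.beq r 43 && c43)

/-- The mask of a union of classes. -/
def maskOf (c2 c6 c22 c26 c42 c43 : Bool) : ℕ :=
  2 ^ 21 + (bif c2 then 281479271682316 else 0) + (bif c6 then 5066627176211136 else 0) +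
    (bif c22 then 9007337276702720 else 0) + (bif c26 then 2504039604269613056 else 0) +
    (bif c42 then 5188291906265677824 else 0) + (bif c43 then 9511681577843687424 else 0)

/-- The vectors of a mask. -/
def oList (M : ℕ) : List ℕ := (List.range 64).filter fun v => Nat.testBit M v

/-- The first invariant. -/
def P (M c : ℕ) : ℕ := (oList M).countP fun u => Nat.testBit M (Nat.xor u c)

/-- The second invariant. -/
def T (M c : ℕ) : ℕ :=
  ((oList M).map fun u => (oList M).countP fun v => Nat.testBit M (Nat.xor (Nat.xor u v) c)).sum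

/-- The mask of the centre alone. -/
def mOne : ℕ := 2097152
/-- The mask of the symplectic pattern. -/
def mSp : ℕ := 9007337278799872
/-- The symplectic pattern after the automorphism. -/
def mSp' : ℕ := 281479273779468
/-- The mask of the alternating pattern. -/
def mAlt : ℕ := 17213020425657778176
/-- The alternating pattern after the automorphism. -/
def mAlt' : ℕ := 17204294567652757772

/-- The masks with constant invariants. -/
def goodB (M : ℕ) : Bool :=
  ([2, 6, 22, 26, 42, 43].all fun r => !Nat.testBit M r || Nat.beq (P M r) (P M 21)) &&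
    ([2, 6, 22, 26, 42, 43].all fun r => !Nat.testBit M r || Nat.beq (T M r) (T M 21))

theorem mask_facts : ∀ c2 c6 c22 c26 c42 c43 : Bool,
    ((List.range 64).all fun v =>
      Nat.testBit (maskOf c2 c6 c22 c26 c42 c43) v == sel c2 c6 c22 c26 c42 c43 (rep v)) = true := by
  decide +kernel

theorem survivors : ∀ c2 c6 c22 c26 c42 c43 : Bool, goodB (maskOf c2 c6 c22 c26 c42 c43) = true →
    maskOf c2 c6 c22 c26 c42 c43 ∈ [mOne, mSp, mSp', mAlt, mAlt'] := by
  decide +kernel

/-- The automorphism on vectors. -/
def sigv (v : ℕ) : ℕ := lin [1, 23, 4, 29, 16, 53] v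

theorem pattern_facts : ((List.range 64).all fun v =>
      (Nat.testBit mOne v == Nat.beq v 21) &&
      (Nat.testBit mSp' (sigv v) == Nat.testBit mSp v) && (Nat.testBit mAlt' (sigv v) == Nat.testBit mAlt v) &&
      (Nat.testBit mSp v == decide (vec v = al ∨ SpK (vec v))) && (Nat.testBit mAlt v == decide (Fpf (vec v))) &&
      Nat.ble (sigv v + 1) 64) = true := by decide +kernel

theorem sep_fact : P mAlt 1 ≠ P mAlt 5 := by decide +kernel

/-- A basis inside the alternating pattern. -/
def basis : List ℕ := [21, 22, 23, 25, 29, 37]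

/-- The coordinates in the basis. -/
def coordTab : List ℕ :=
  [0, 6, 5, 3, 24, 30, 29, 27, 17, 23, 20, 18, 9, 15, 12, 10, 31, 25, 26, 28, 7, 1, 2, 4, 14, 8, 11,
   13, 22, 16, 19, 21, 62, 56, 59, 61, 38, 32, 35, 37, 47, 41, 42, 44, 55, 49, 50, 52, 33, 39, 36, 34,
   57, 63, 60, 58, 48, 54, 53, 51, 40, 46, 45, 43]

/-- The coordinates of a vector. -/
def coord (v : ℕ) : ℕ := coordTab.getD v 0

/-- The three cycle on the first block. -/
def thv (v : ℕ) : ℕ := lin [2, 3, 4, 8, 16, 32] v

/-- The three cycle with a flip in the second block. -/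
def thf (v : ℕ) : ℕ := lin [2, 3, 4, 12, 16, 32] v

theorem coord_facts : ((List.range 64).all fun v => Nat.beq (lin basis (coord v)) v) = true ∧
    ((List.range 64).all fun v => Nat.beq (thv^[16] v) (thv v) && Nat.beq (thf^[16] v) (thv v) &&
      Nat.beq (thv^[12] v) v && Nat.beq (thf^[12] v) v &&
      Nat.beq (comp (code th0) (vc v)) (comp (vc (thv v)) (code th0))) = true ∧
    thv 1 = 2 ∧ thv 16 = 16 := by decide +kernel

/-- Words for the normaliser modulo `D12`. -/
def hwords : List (List ℕ) :=
  [[], [0], [1], [2], [3], [0, 3], [1, 0], [1, 2], [2, 0], [2, 1], [2, 3], [3, 0], [3, 1], [3, 2],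
   [2, 0, 3], [2, 3, 0], [2, 3, 1], [2, 3, 2], [3, 1, 2], [3, 2, 0], [3, 2, 1], [2, 3, 1, 2],
   [2, 3, 2, 0], [2, 3, 2, 1]]

theorem hwords_facts : (hwords.all fun w => w.all fun g => Nat.ble (g + 1) 4) = true := by decide +kernel

/-- The test at a leaf. -/
def leafB (p : List ℕ) : Bool :=
  hwords.any fun w => ((List.range 6).all fun i => Nat.beq (lin p (coord (actW w (2 ^ i)))) (thv (2 ^ i))) ||
    (List.range 6).all fun i => Nat.beq (lin p (coord (actW w (2 ^ i)))) (thf (2 ^ i))

/-- The new combinations respect the pattern. -/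
def okB (p : List ℕ) : Bool :=
  (List.range (2 ^ (p.length - 1))).all fun m =>
    Nat.testBit mAlt (lin (basis.take p.length) (m + 2 ^ (p.length - 1))) ==
      Nat.testBit mAlt (lin p (m + 2 ^ (p.length - 1)))

/-- All choices of the images of the basis. -/
def srch : ℕ → List ℕ → Bool
  | 0, p => leafB p
  | k + 1, p => (oList mAlt).all fun w => !okB (p ++ [w]) || srch k (p ++ [w])

theorem srch_fact : srch 5 [22] = true := by decide +kernel

end CfsgLib.Recog.CentTwelve.Fus
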