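import Mathlib.GroupTheory.Perm.Sign
import Mathlib.GroupTheory.Perm.Fin
import Mathlib.GroupTheory.SpecificGroups.Alternating
import Mathlib.GroupTheory.Sylow
import Mathlib.Tactic

/-!
The centraliser in the alternating group of degree twelve of a fixed-point-free involution, and a group
in which a two-central involution has such a centraliser.
-/

set_option autoImplicit false
set_option maxRecDepth 20000

namespace CfsgLib.Recog.CentTwelve

open Equiv Subgroup

abbrev P12 := Equiv.Perm (Fin 12)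

/-- The fixed-point-free involution with the pairs `{2 k, 2 k + 1}`. -/
def al : P12 := swap (0 : Fin 12) 1 * swap (2 : Fin 12) 3 * swap (4 : Fin 12) 5 * swap (6 : Fin 12) 7 *
  swap (8 : Fin 12) 9 * swap (10 : Fin 12) 11

/-- The centraliser of `al` in the alternating group. -/
def C12 : Subgroup P12 := alternatingGroup (Fin 12) ⊓ centralizer ({al} : Set P12)

theorem mem_C12 {a : P12} : a ∈ C12 ↔ Perm.sign a = 1 ∧ a * al = al * a := by
  rw [C12, mem_inf, Perm.mem_alternatingGroup, mem_centralizer_singleton_iff]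

instance : DecidablePred (· ∈ C12) := fun _ => decidable_of_iff' _ mem_C12

/-- The double transposition on the first two pairs inside the pairs. -/
def x0 : P12 := swap 0 1 * swap 2 3
/-- The double transposition interchanging the first two pairs. -/
def y0 : P12 := swap 0 2 * swap 1 3
/-- The same on the third and fourth pair. -/
def x1 : P12 := swap 4 5 * swap 6 7
/-- The interchange of the third and fourth pair. -/
def y1 : P12 := swap 4 6 * swap 5 7
/-- The same on the last two pairs. -/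
def x2 : P12 := swap 8 9 * swap 10 11
/-- The interchange of the last two pairs. -/
def y2 : P12 := swap 8 10 * swap 9 11

/-- The interchange of the first two blocks of four points. -/
def b01 : P12 := swap 0 4 * swap 1 5 * swap 2 6 * swap 3 7
/-- The interchange of the last two blocks of four points. -/
def b12 : P12 := swap 4 8 * swap 5 9 * swap 6 10 * swap 7 11

/-- The three cycle `(1 2 3)`. -/
def th0 : P12 := swap 1 2 * swap 2 3

/-- The elementary subgroup of order `2⁶` of the three blocks. -/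
def D12 : Subgroup P12 := C12 ⊓ centralizer ({x0, y0, x1, y1, x2, y2} : Set P12)

theorem mem_D12 {a : P12} : a ∈ D12 ↔ a ∈ C12 ∧ x0 * a = a * x0 ∧ y0 * a = a * y0 ∧ x1 * a = a * x1 ∧
    y1 * a = a * y1 ∧ x2 * a = a * x2 ∧ y2 * a = a * y2 := by
  simp [D12, mem_inf, mem_centralizer_iff]

instance : DecidablePred (· ∈ D12) := fun _ => decidable_of_iff' _ mem_D12

/-- Moves every point. -/
def Fpf (a : P12) : Prop := ∀ i, a i ≠ i

instance : DecidablePred Fpf := fun a => inferInstanceAs (Decidable (∀ i, a i ≠ i))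

/-- The involutions fused with `al` in the symplectic case. -/
def SpK (a : P12) : Prop :=
  Fpf a ∧ (Finset.univ.filter fun i => a i ≠ al i).card = 4

instance : DecidablePred SpK := fun _ => inferInstanceAs (Decidable (_ ∧ _))

universe u

/-- A group with a two-central involution `α` whose centraliser is numbered by `C12`. -/
structure Setting {G : Type u} [Group G] (α : G) where
  /-- the numbering -/
  f : P12 → G
  mul : ∀ a ∈ C12, ∀ b ∈ C12, f (a * b) = f a * f b
  mem : ∀ a ∈ C12, f a ∈ centralizer ({α} : Set G)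
  surj : ∀ n ∈ centralizer ({α} : Set G), ∃ a ∈ C12, f a = n
  inj : ∀ a ∈ C12, ∀ b ∈ C12, f a = f b → a = b
  f_al : f al = α
  sylow : ∃ S : Sylow 2 G, (S : Subgroup G) ≤ centralizer ({α} : Set G)

/-- The fusion pattern of `A₁₂` and `A₁₃`. -/
structure AltPat {G : Type u} [Group G] {α : G} (S : Setting α) : Prop where
  fus : ∀ a ∈ C12, a * a = 1 → a ≠ 1 → (IsConj α (S.f a) ↔ Fpf a)
  sep : ¬ IsConj (S.f x0) (S.f (x0 * x1))
  join : IsConj (S.f (x0 * x1)) (S.f (x0 * y1))
  theta : ∃ g : G, g ^ 3 = 1 ∧ ∀ a ∈ D12, g * S.f a * g⁻¹ = S.f (th0 * a * th0⁻¹)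

/-- The fusion pattern of the symplectic group. -/
structure SpPat {G : Type u} [Group G] {α : G} (S : Setting α) : Prop where
  fus : ∀ a ∈ C12, a * a = 1 → a ≠ 1 → (IsConj α (S.f a) ↔ (a = al ∨ SpK a))

theorem al_mem : al ∈ C12 := by decide +kernel

theorem named_mem : x0 ∈ C12 ∧ y0 ∈ C12 ∧ x1 ∈ C12 ∧ y1 ∈ C12 ∧ x2 ∈ C12 ∧ y2 ∈ C12 ∧ b01 ∈ C12 ∧
    b12 ∈ C12 := by decide +kernel

theorem named_D : x0 ∈ D12 ∧ y0 ∈ D12 ∧ x1 ∈ D12 ∧ y1 ∈ D12 ∧ x2 ∈ D12 ∧ y2 ∈ D12 ∧ al ∈ D12 := by
  decide +kernel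

namespace Setting

variable {G : Type u} [Group G] {α : G} (S : Setting α)

theorem f_one : S.f 1 = 1 := by
  have := S.mul 1 C12.one_mem 1 C12.one_mem
  rw [mul_one] at this
  exact left_eq_mul.1 this

theorem f_inv {a : P12} (ha : a ∈ C12) : S.f a⁻¹ = (S.f a)⁻¹ := by
  refine eq_inv_of_mul_eq_one_left ?_
  rw [← S.mul _ (C12.inv_mem ha) _ ha, inv_mul_cancel, S.f_one]

theorem f_conj {a b : P12} (ha : a ∈ C12) (hb : b ∈ C12) :
    S.f (a * b * a⁻¹) = S.f a * S.f b * (S.f a)⁻¹ := by
  rw [S.mul _ (C12.mul_mem ha hb) _ (C12.inv_mem ha), S.mul _ ha _ hb, S.f_inv ha]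

theorem commute_iff {a b : P12} (ha : a ∈ C12) (hb : b ∈ C12) :
    S.f a * S.f b = S.f b * S.f a ↔ a * b = b * a := by
  rw [← S.mul _ ha _ hb, ← S.mul _ hb _ ha]
  exact ⟨S.inj _ (C12.mul_mem ha hb) _ (C12.mul_mem hb ha), fun e => by rw [e]⟩

theorem eq_one_iff {a : P12} (ha : a ∈ C12) : S.f a = 1 ↔ a = 1 :=
  ⟨fun e => S.inj a ha 1 C12.one_mem (e.trans S.f_one.symm), fun e => by rw [e, S.f_one]⟩

theorem f_pow {a : P12} (ha : a ∈ C12) (n : ℕ) : S.f (a ^ n) = S.f a ^ n := by
  induction n with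
  | zero => rw [pow_zero, pow_zero, S.f_one]
  | succ n ih => rw [pow_succ, pow_succ, S.mul _ (C12.pow_mem ha n) _ ha, ih]

theorem orderOf_f {a : P12} (ha : a ∈ C12) : orderOf (S.f a) = orderOf a :=
  orderOf_eq_orderOf_iff.2 fun n => by rw [← S.f_pow ha, S.eq_one_iff (C12.pow_mem ha n)]

/-- An element commuting with `α` is a value of the numbering. -/
theorem exists_of_commute {n : G} (h : n * α = α * n) : ∃ a ∈ C12, S.f a = n :=
  S.surj n (mem_centralizer_singleton_iff.2 h)

theorem commute_alpha {a : P12} (ha : a ∈ C12) : S.f a * α = α * S.f a :=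
  mem_centralizer_singleton_iff.1 (S.mem a ha)

/-- Conjugate elements of `C12` have conjugate values. -/
theorem isConj_f {a b : P12} (ha : a ∈ C12) {c : P12} (hc : c ∈ C12) (h : c * a * c⁻¹ = b) :
    IsConj (S.f a) (S.f b) :=
  isConj_iff.2 ⟨S.f c, by rw [← h, S.f_conj hc ha]⟩

end Setting

/-- The interchange of the second and third pair. -/
def p12 : P12 := swap 2 4 * swap 3 5

theorem p12_mem : p12 ∈ C12 := by decide +kernel

/-- Only `al` and the identity are central in `C12`. -/
theorem central_cases {a : P12} (hc : ∀ b ∈ C12, a * b = b * a) : a = 1 ∨ a = al := by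
  have h : ∀ {b : P12}, b ∈ C12 → ∀ k, a (b k) = b (a k) := fun hb k =>
    congrArg (fun p : P12 => p k) (hc _ hb)
  obtain ⟨mx, my, -, -, -, -, m1, m2⟩ := named_mem
  have hmoved : x0 (a 0) ≠ a 0 := fun e =>
    (show x0 0 ≠ (0 : Fin 12) by decide +kernel) (a.injective ((h mx 0).trans e))
  have hfixed : p12 (a 0) = a 0 := by
    rw [← h p12_mem 0, show p12 0 = (0 : Fin 12) by decide +kernel]
  have hsmall : a 0 = 0 ∨ a 0 = 1 := by
    generalize a 0 = j at hmoved hfixed
    revert hmoved hfixed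
    revert j
    decide +kernel
  have hex : ∀ k : Fin 12, ∃ w : List P12, (∀ b ∈ w, b ∈ [x0, y0, b01, b12]) ∧ w.prod 0 = k := by
    intro k
    fin_cases k
    exacts [⟨[], by simp, by simp⟩, ⟨[x0], by simp, by decide +kernel⟩, ⟨[y0], by simp, by decide +kernel⟩,
      ⟨[x0, y0], by simp, by decide +kernel⟩, ⟨[b01], by simp, by decide +kernel⟩, ⟨[b01, x0], by simp, by decide +kernel⟩,
      ⟨[b01, y0], by simp, by decide +kernel⟩, ⟨[b01, x0, y0], by simp, by decide +kernel⟩,
      ⟨[b12, b01], by simp, by decide +kernel⟩, ⟨[b12, b01, x0], by simp, by decide +kernel⟩,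
      ⟨[b12, b01, y0], by simp, by decide +kernel⟩, ⟨[b12, b01, x0, y0], by simp, by decide +kernel⟩]
  have hdet : ∀ (w : List P12), (∀ b ∈ w, b ∈ [x0, y0, b01, b12]) → a (w.prod 0) = w.prod (a 0) := by
    intro w hw
    refine h (list_prod_mem fun b hb => ?_) 0
    have := hw b hb
    simp only [List.mem_cons, List.not_mem_nil, or_false] at this
    rcases this with rfl | rfl | rfl | rfl <;> assumption
  have hal : ∀ k, al (a k) = a (al k) := fun k => (h al_mem k).symm
  rcases hsmall with h0 | h0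
  · refine Or.inl (Equiv.ext fun k => ?_)
    obtain ⟨w, hw, rfl⟩ := hex k
    rw [hdet w hw, h0, Perm.one_apply]
  · refine Or.inr (Equiv.ext fun k => ?_)
    obtain ⟨w, hw, rfl⟩ := hex k
    have hm : w.prod ∈ C12 := list_prod_mem fun b hb => by
      have := hw b hb
      simp only [List.mem_cons, List.not_mem_nil, or_false] at this
      rcases this with rfl | rfl | rfl | rfl <;> assumption
    rw [hdet w hw, h0, show (1 : Fin 12) = al 0 by decide +kernel]
    exact (congrArg (fun p : P12 => p 0) (mem_C12.1 hm).2)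

/-- The setting from the hypotheses of the statement. -/
theorem exists_setting {G : Type u} [Group G] (α : G) (hα : orderOf α = 2) (T : Sylow 2 G)
    (hαT : α ∈ (T : Subgroup G) ⊓ centralizer ((T : Subgroup G) : Set G))
    (e : centralizer ({α} : Set G) ≃* C12) : Nonempty (Setting α) := by
  classical
  have hαC : α ∈ centralizer ({α} : Set G) := mem_centralizer_singleton_iff.2 rfl
  let f : P12 → G := fun a => if h : a ∈ C12 then (e.symm ⟨a, h⟩ : G) else 1
  have hf : ∀ a (h : a ∈ C12), f a = (e.symm ⟨a, h⟩ : G) := fun a h => dif_pos h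
  have hcen : ((e ⟨α, hαC⟩ : C12) : P12) = al := by
    have hc : ∀ b ∈ C12, ((e ⟨α, hαC⟩ : C12) : P12) * b = b * ((e ⟨α, hαC⟩ : C12) : P12) := by
      intro b hb
      have : e (⟨α, hαC⟩ * e.symm ⟨b, hb⟩) = e (e.symm ⟨b, hb⟩ * ⟨α, hαC⟩) :=
        congrArg e (Subtype.ext (mem_centralizer_singleton_iff.1 (e.symm ⟨b, hb⟩).2).symm)
      rw [map_mul, map_mul, e.apply_symm_apply] at this
      exact congrArg Subtype.val this
    rcases central_cases hc with h | h
    · exfalso
      have h1 : e ⟨α, hαC⟩ = 1 := Subtype.ext h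
      rw [e.map_eq_one_iff] at h1
      rw [show α = 1 from congrArg Subtype.val h1, orderOf_one] at hα
      omega
    · exact h
  refine ⟨⟨f, fun a ha b hb => ?_, fun a ha => ?_, fun n hn => ?_, fun a ha b hb h => ?_, ?_, T, ?_⟩⟩
  · rw [hf _ (mul_mem ha hb), hf a ha, hf b hb, ← Subgroup.coe_mul, ← map_mul]
    rfl
  · rw [hf a ha]
    exact (e.symm ⟨a, ha⟩).2
  · exact ⟨_, (e ⟨n, hn⟩).2, by rw [hf _ (e ⟨n, hn⟩).2, Subtype.coe_eta, e.symm_apply_apply]⟩
  · rw [hf a ha, hf b hb] at h
    exact congrArg Subtype.val (e.symm.injective (Subtype.ext h))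
  · rw [hf _ al_mem, show (⟨al, al_mem⟩ : C12) = e ⟨α, hαC⟩ from Subtype.ext hcen.symm,
      e.symm_apply_apply]
  · exact fun t ht => mem_centralizer_singleton_iff.2 (mem_centralizer_iff.1 (mem_inf.1 hαT).2 t ht)

end CfsgLib.Recog.CentTwelve
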