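import Cfsg.Agent.Lib.Recog.CentTwelve.Model
import Cfsg.Agent.Lib.Recog.Profile.Alt12
import Cfsg.Agent.Lib.Recog.Profile.SpCert

/-!
A symplectic subgroup containing the centralizer of `α` is the whole group.
-/

set_option autoImplicit false
set_option linter.unusedSectionVars false
set_option maxRecDepth 20000

namespace CfsgLib.Recog.CentTwelve

open Subgroup
open CfsgLib.Recog.Profile

universe u

variable {G : Type u} [Group G] [Finite G] {α : G}

/-- The involutions of the centraliser are at most as many as in the model. -/
theorem count_invol (S : Setting α) :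
    ∃ s : Finset G, s.card ≤ 751 ∧ ∀ g : G, g * g = 1 → g ≠ 1 → Commute g α → g ∈ s := by
  classical
  have := Fintype.ofFinite G
  refine ⟨Finset.univ.filter fun g => g * g = 1 ∧ g ≠ 1 ∧ Commute g α, ?_, fun g h1 h2 h3 => ?_⟩
  · let inv : G → ℕ := fun g =>
      if h : ∃ a ∈ C12, S.f a = g then pcode (Classical.choose h) else 0
    have hlen : Alt12.L.toFinset.card ≤ 751 :=
      (List.toFinset_card_le _).trans (by decide +kernel)
    refine le_trans (Finset.card_le_card_of_injOn inv ?_ ?_) hlen
    · intro g hg
      simp only [Finset.coe_filter, Finset.mem_univ, true_and, Set.mem_ofPred_eq] at hg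
      have hex := S.exists_of_commute hg.2.2.eq
      simp only [inv, dif_pos hex, Finset.mem_coe, List.mem_toFinset]
      obtain ⟨ha, hag⟩ := Classical.choose_spec hex
      rw [← Alt12.candidates_eq, show Alt12.A0 = pcode al by decide +kernel]
      have hsign := (mem_C12.1 ha).1
      have hxx : Classical.choose hex * Classical.choose hex = 1 :=
        S.inj _ (mul_mem ha ha) 1 (one_mem _) (by rw [S.mul _ ha _ ha, hag, hg.1, S.f_one])
      refine mem_candidates (by norm_num) (by decide +kernel) (by decide) (by decide +kernel)
        (mem_C12.1 ha).2 hxx ?_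
      rw [AltData.fixedPts_eq (by norm_num)]
      rcases fixedPts_cases hsign hxx (fun e => hg.2.1 (by rw [← hag, e, S.f_one])) (by norm_num)
        with h | h | h <;> simp <;> omega
    · intro g hg k hk e
      simp only [Finset.coe_filter, Finset.mem_univ, true_and, Set.mem_ofPred_eq] at hg hk
      have hg' := S.exists_of_commute hg.2.2.eq
      have hk' := S.exists_of_commute hk.2.2.eq
      simp only [inv, dif_pos hg', dif_pos hk'] at e
      rw [← (Classical.choose_spec hg').2, ← (Classical.choose_spec hk').2, pcode_inj (by norm_num) e]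
  · simpa using ⟨h1, h2, h3⟩

/-- The closing step in the symplectic case. -/
theorem top_of_sp (S : Setting α) (φ : SpBits.Sp →* G) (hinj : Function.Injective φ)
    (hα : φ (SpBits.ofCode SpCert.A0 SpCert.A0) = α) (hC : ∀ a ∈ C12, S.f a ∈ φ.range)
    (hsep : ∀ a b : SpBits.Sp, a * a = 1 → b * b = 1 → IsConj (φ a) (φ b) →
      SpBits.cls (SpBits.code a) = SpBits.cls (SpBits.code b)) : φ.range = ⊤ :=
  SpCert.eq_top
    { φ := φ
      inj := hinj
      ok := SpCert.L_facts.2.2.1
      ne := SpCert.L_facts.2.2.2
      a0_map := hα
      cent := fun g hg => by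
        obtain ⟨a, ha, rfl⟩ := S.surj g hg
        exact hC a ha
      sylow := S.sylow
      sep := hsep
      count := count_invol S }

end CfsgLib.Recog.CentTwelve
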