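import Cfsg.Agent.Lib.Recog.Profile.SpIso

/-!
The symplectic disjunct from the coded model.
-/

set_option autoImplicit false

namespace CfsgLib.Recog.CentTwelve

open CfsgLib.Recog.Profile

universe u

/-- A group isomorphic to the coded model is `PSp 3` over two elements. -/
theorem psp_of_model {G : Type u} [Group G] (e : SpBits.Sp ≃* G) :
    ∃ (F : Type) (_ : Field F) (_ : Fintype F), Fintype.card F = 2 ∧ Nonempty (G ≃* Cfsg.PSp 3 F) := by
  haveI : Fact (Nat.Prime 2) := ⟨Nat.prime_two⟩
  obtain ⟨f⟩ := SpBits.sp_iso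
  exact ⟨ZMod 2, inferInstance, inferInstance, ZMod.card 2, ⟨e.symm.trans f⟩⟩

/-- The bit dictionary is the symplectic space. -/
theorem vec_dictionary (v w : Fin 64) :
    (∀ u : Fin 64, v.val ^^^ w.val = u.val → SpBits.vec v + SpBits.vec w = SpBits.vec u) ∧
      CfsgLib.Geom.sympBilin 3 (ZMod 2) (SpBits.vec v) (SpBits.vec w) =
        if SpBits.form v.val w.val then 1 else 0 :=
  ⟨fun _ h => SpBits.vec_xor h, SpBits.sympBilin_vec v w⟩

end CfsgLib.Recog.CentTwelve
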