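import Cfsg.Agent.Lib.Recog.CentTwelve.SpHom
import Cfsg.Agent.Lib.Recog.CentTwelve.SpClose
import Cfsg.Agent.Lib.Recog.CentTwelve.SpModelIso

/-!
The symplectic case.
-/

set_option autoImplicit false
set_option maxRecDepth 100000
set_option maxHeartbeats 1000000

namespace CfsgLib.Recog.CentTwelve

open Equiv Subgroup
open CfsgLib.Recog.Profile.SpBits (Sp code_inj code_one)

universe u

variable {G : Type u} [Group G] [Finite G] {α : G}

attribute [local irreducible] Fus.vec Code.code SpHom.cb Profile.SpBits.cls Profile.SpBits.code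

/-- The classes of involutions of the symplectic subgroup are separated in `G`. -/
theorem sp_hsep {S : Setting α} (P : SpPat S) {φ : Sp →* G} (hinj : Function.Injective φ)
    (hA : φ (Profile.SpBits.ofCode Profile.SpCert.A0 Profile.SpCert.A0) = α)
    (hC : ∀ a ∈ C12, S.f a ∈ φ.range)
    (hv : ∀ v ∈ [0, 1, 2, 5, 6, 10, 21, 22, 26, 42, 43, 15, 20], φ (SpHom.eb (SpHom.vword v)) = S.f (Fus.vec v))
    (a b : Sp) (ha : a * a = 1) (hb : b * b = 1) (h : IsConj (φ a) (φ b)) :
    Profile.SpBits.cls (Profile.SpBits.code a) = Profile.SpBits.cls (Profile.SpBits.code b) := by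
  haveI : Fact (Nat.Prime 2) := ⟨Nat.prime_two⟩
  have five : ∀ t ∈ [0, 21, 15, 20, 26], t < 64 ∧ t ∈ [0, 1, 2, 5, 6, 10, 21, 22, 26, 42, 43, 15, 20] := by
    decide +kernel
  have key : ∀ c : Sp, c * c = 1 →
      ∃ t ∈ [0, 21, 15, 20, 26], IsConj c (SpHom.eb (SpHom.vword t)) := by
    intro c hc
    by_cases hc1 : c = 1
    · exact ⟨0, List.mem_cons_self .., by rw [hc1, show SpHom.eb (SpHom.vword 0) = 1 from rfl]⟩
    obtain ⟨T0, hT0⟩ := S.sylow
    have hle : (T0 : Subgroup G) ≤ φ.range := fun g hg => by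
      obtain ⟨a, ha, rfl⟩ := S.surj g (hT0 hg)
      exact hC a ha
    let T : Sylow 2 φ.range := T0.subtype hle
    have hao : orderOf (⟨φ c, c, rfl⟩ : φ.range) = 2 := by
      rw [← Subgroup.orderOf_coe]
      show orderOf (φ c) = 2
      rw [orderOf_injective φ hinj]
      exact CfsgLib.Invol.invol_of_mul_self hc hc1
    obtain ⟨⟨_, p, rfl⟩, hp⟩ := CfsgLib.Invol.exists_conj_invol_mem_sylow T hao
    have hmem : φ p * φ c * (φ p)⁻¹ ∈ (T0 : Subgroup G) := hp
    obtain ⟨x, hx, hxe⟩ := S.surj _ (hT0 hmem)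
    have hx2 : x * x = 1 := by
      refine (S.eq_one_iff (mul_mem hx hx)).1 ?_
      rw [S.mul _ hx _ hx, hxe, show φ p * φ c * (φ p)⁻¹ * (φ p * φ c * (φ p)⁻¹) =
        φ p * (φ c * φ c) * (φ p)⁻¹ by group, ← map_mul, hc, map_one, mul_one, mul_inv_cancel]
    obtain ⟨k, hk, v, hv64, e⟩ := Fus.exists_into_D hx hx2
    have hrep := Fus.all_range SpHom.rows_facts.2.2.1 hv64
    rw [List.contains_iff_mem] at hrep
    have hp' := Fus.all_range Fus.path_facts hv64
    simp only [Bool.and_eq_true, List.all_eq_true] at hp'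
    obtain ⟨hwm, hwc⟩ := Fus.hword_spec (Fus.path v) fun g hg => by
      have := Nat.le_of_ble_eq_true (hp'.2 g hg)
      omega
    have hr64 : Fus.rep v < 64 := by
      have := Nat.le_of_ble_eq_true hp'.1.2
      omega
    have hev : Fus.hword (Fus.path v) * Fus.vec (Fus.rep v) * (Fus.hword (Fus.path v))⁻¹ = Fus.vec v := by
      rw [(hwc _ hr64).1, Nat.eq_of_beq_eq_true hp'.1.1]
    obtain ⟨q, hq⟩ := hC _ (mul_mem (inv_mem hk) hwm)
    obtain ⟨t, ht, htc⟩ := SpHom.exists_conj _ hrep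
    refine ⟨t, ht, (htc.trans (isConj_iff.2 ⟨p⁻¹ * q, hinj ?_⟩)).symm⟩
    have hr' : Fus.rep v ∈ [0, 1, 2, 5, 6, 10, 21, 22, 26, 42, 43, 15, 20] := by
      revert hrep
      generalize Fus.rep v = r
      intro hrep
      simp only [List.mem_cons, List.not_mem_nil, or_false] at hrep ⊢
      omega
    have hx' : x = k⁻¹ * Fus.hword (Fus.path v) * Fus.vec (Fus.rep v) * (k⁻¹ * Fus.hword (Fus.path v))⁻¹ := by
      rw [show k⁻¹ * Fus.hword (Fus.path v) * Fus.vec (Fus.rep v) * (k⁻¹ * Fus.hword (Fus.path v))⁻¹ =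
        k⁻¹ * (Fus.hword (Fus.path v) * Fus.vec (Fus.rep v) * (Fus.hword (Fus.path v))⁻¹) * k by group,
        hev, ← e]
      group
    have hfx := hxe.symm
    rw [hx', S.f_conj (mul_mem (inv_mem hk) hwm) (Fus.vec_mem_C hr64), ← hq, ← hv _ hr'] at hfx
    simp only [map_mul, map_inv, mul_inv_rev, inv_inv]
    rw [show (φ p)⁻¹ * φ q * φ (SpHom.eb (SpHom.vword (Fus.rep v))) * ((φ q)⁻¹ * φ p) =
      (φ p)⁻¹ * (φ q * φ (SpHom.eb (SpHom.vword (Fus.rep v))) * (φ q)⁻¹) * φ p by group, ← hfx]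
    group
  obtain ⟨t, ht, hta⟩ := key a ha
  obtain ⟨t', ht', htb⟩ := key b hb
  obtain ⟨ht64, htm⟩ := five t ht
  obtain ⟨ht64', htm'⟩ := five t' ht'
  have hst : IsConj (S.f (Fus.vec t)) (S.f (Fus.vec t')) := by
    rw [← hv t htm, ← hv t' htm']
    exact ((φ.map_isConj hta).symm.trans h).trans (φ.map_isConj htb)
  have heq : t = t' := by
    obtain ⟨s1, s2, s3, s4, s5, s6⟩ := Fus.sp_sep P
    rw [← Fus.vec_mask.2.1] at s1 s2 s3
    have hz : ∀ u, u < 64 → IsConj (1 : G) (S.f (Fus.vec u)) → u = 0 := fun u hu hc => by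
      obtain ⟨g, hg⟩ := isConj_iff.1 hc
      rw [mul_one, mul_inv_cancel] at hg
      exact Fus.vec_inj hu (by norm_num)
        (((S.eq_one_iff (Fus.vec_mem_C hu)).1 hg.symm).trans Fus.vec_mask.1.symm)
    by_cases h0 : t = 0
    · subst h0
      rw [Fus.vec_mask.1, S.f_one] at hst
      exact (hz t' ht64' hst).symm
    by_cases h0' : t' = 0
    · subst h0'
      rw [Fus.vec_mask.1, S.f_one] at hst
      exact hz t ht64 hst.symm
    simp only [List.mem_cons, List.not_mem_nil, or_false] at ht ht'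
    rcases ht with rfl | rfl | rfl | rfl | rfl <;> rcases ht' with rfl | rfl | rfl | rfl | rfl <;>
      first
      | rfl
      | exact absurd rfl h0
      | exact absurd rfl h0'
      | exact absurd hst s1
      | exact absurd hst s2
      | exact absurd hst s3
      | exact absurd hst s4
      | exact absurd hst s5
      | exact absurd hst s6
      | exact absurd hst.symm s1
      | exact absurd hst.symm s2
      | exact absurd hst.symm s3
      | exact absurd hst.symm s4
      | exact absurd hst.symm s5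
      | exact absurd hst.symm s6
  subst heq
  rw [SpHom.cls_conj ha hta, SpHom.cls_conj hb htb]

/-- A group with the symplectic pattern is the symplectic group of degree six over two elements. -/
theorem sp_case (hα : orderOf α = 2) (S : Setting α) (P : SpPat S) :
    ∃ (F : Type) (_ : Field F) (_ : Fintype F), Fintype.card F = 2 ∧ Nonempty (G ≃* Cfsg.PSp 3 F) := by
  obtain ⟨S', φ, P', hinj, hA, hC, hv⟩ := SpHom.exists_embedding hα P
  have htop := top_of_sp S' φ hinj hA hC fun a b => sp_hsep P' hinj hA hC hv a b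
  exact psp_of_model (MulEquiv.ofBijective φ ⟨hinj, MonoidHom.range_eq_top.1 htop⟩)

end CfsgLib.Recog.CentTwelve
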