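import Cfsg.Agent.Lib.Recog.CentTwelve.SpData
import Cfsg.Agent.Lib.Recog.Profile.SpCert
import Cfsg.Agent.Lib.Recog.Profile.SpIso
import Cfsg.Agent.Lib.Golay.E8CoxModels
import Cfsg.Agent.Lib.Golay.E8Co2

/-!
The coded symplectic group as the image of the Weyl group of type `E7` by seven transvections, and the
invariance of the class function on its involutions.
-/

set_option autoImplicit false
set_option maxRecDepth 100000
set_option maxHeartbeats 1000000

namespace CfsgLib.Recog.CentTwelve.SpHom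

open Equiv
open CfsgLib.Recog.Profile (okCode code_ofCode code_inv_ofCode)
open CfsgLib.Recog.Profile.SpBits (Sp ofCode bmul enc app val val_lt val_coe app_code code_inj code_mul code_one)

/-- The codes of the seven transvections. -/
def bcodes : List ℕ :=
  [34631336065,
   34630320257,
   56110366849,
   35167158401,
   52883899585,
   34630287491,
   51810156673]

/-- A transvection. -/
def bgen (i : ℕ) : Sp := ofCode (bcodes.getD i (enc id)) (bcodes.getD i (enc id))

/-- The node of a reflection in `C12`. -/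
def node (i : ℕ) : ℕ := [0, 1, 2, 3, 4, 6].getD i 7

/-- The code of a word in the six. -/
def cb (w : List ℕ) : ℕ := w.foldr (fun i r => bmul (bcodes.getD (node i) (enc id)) r) (enc id)

/-- The element of a word in the six. -/
def eb (w : List ℕ) : Sp := (w.map fun i => bgen (node i)).prod

theorem bgen_facts : ((List.range 8).all fun i => okCode (bcodes.getD i (enc id)) (bcodes.getD i (enc id))) = true :=
  by decide +kernel

theorem code_bgen (i : ℕ) : Profile.SpBits.code (bgen i) = bcodes.getD i (enc id) := by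
  refine code_ofCode ?_
  by_cases hi : i < 8
  · exact List.all_eq_true.1 bgen_facts i (List.mem_range.2 hi)
  · have h : bcodes.getD i (enc id) = enc id := by
      rw [List.getD_eq_getElem?_getD, List.getElem?_eq_none (by simp [bcodes]; omega)]
      rfl
    rw [h]
    decide +kernel

theorem code_eb : ∀ w, Profile.SpBits.code (eb w) = cb w
  | [] => by rw [eb, cb, List.map_nil, List.prod_nil, List.foldr_nil, code_one]
  | i :: w => by
    rw [eb, List.map_cons, List.prod_cons, code_mul, show (w.map fun i => bgen (node i)).prod = eb w from rfl,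
      code_eb w, code_bgen, cb, cb, List.foldr_cons]

/-- The class representatives with conjugators. -/
def rows : List (ℕ × ℕ × ℕ × ℕ) :=
  [(0, 0, 34630287489, 34630287489),
   (1, 15, 39013850885, 40027052676),
   (2, 15, 50820881861, 44322082517),
   (5, 20, 44115774401, 8953076929),
   (6, 26, 28269174533, 65594544788),
   (10, 15, 40096517313, 40096517313),
   (21, 21, 34630287489, 34630287489),
   (22, 21, 8670479505, 16181690757),
   (26, 26, 34630287489, 34630287489),
   (42, 26, 34707620229, 34707620229),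
   (43, 20, 35793948101, 40026000837)]

/-- Words for vectors. -/
def vwords : List (ℕ × List ℕ) :=
  [(0, []),
   (1, [5, 4]),
   (2, [3, 4, 2, 3, 5, 1, 2, 3, 4, 0, 1, 2, 3, 5, 0, 1, 2, 3, 4, 0, 1, 2, 3, 0, 1, 2, 0, 1, 0]),
   (5, [5, 3, 4, 2, 3, 5, 2, 3, 4, 2, 3, 2]),
   (6, [1, 2, 3, 4, 0, 1, 2, 3, 5, 2, 3, 4, 2, 3, 1, 2, 0, 1, 0]),
   (10, [5, 2]),
   (21, [5, 3, 4, 2, 3, 5, 1, 2, 3, 4, 0, 1, 2, 3, 5, 0, 1, 2, 3, 4, 0, 1, 2, 3, 0, 1, 2, 0, 1, 0]),
   (22, [4]),
   (26, [5, 1, 2, 3, 4, 0, 1, 2, 3, 5, 3, 4, 2, 3, 0, 1, 2, 0, 1, 0]),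
   (42, [3, 4, 2, 3, 5, 1, 2, 3, 4, 0, 1, 2, 3, 5, 0, 1, 2, 3, 4, 0, 1, 2, 3, 1, 2, 0, 1]),
   (43, [5, 3, 4, 2, 3, 5, 1, 2, 3, 4, 0, 1, 2, 3, 5, 1, 2, 3, 4, 0, 1, 2, 3, 1, 2, 0, 1]),
   (15, [3, 4, 2, 3, 5, 2, 3, 4, 2, 3]),
   (20, [3, 4, 2, 3, 5, 1, 2, 3, 4, 0, 1, 2, 3, 5, 1, 2, 3, 4, 0, 1, 2, 3, 0, 1, 2, 0, 1, 0])]

/-- The word of a vector. -/
def vword (v : ℕ) : List ℕ := ((vwords.find? fun p => Nat.beq p.1 v).getD (0, [])).2

theorem vword_facts : ([0, 1, 2, 5, 6, 10, 21, 22, 26, 42, 43, 15, 20].all fun v =>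
    Nat.beq (SpGen.c6w (vword v)) (Fus.vc v)) = true := by decide +kernel

theorem rows_facts : (rows.all fun r => [0, 21, 15, 20, 26].contains r.2.1 && okCode r.2.2.1 r.2.2.2 &&
      Nat.beq (enc (app r.2.2.2)) r.2.2.2 &&
      Nat.beq (cb (vword r.1)) (bmul (bmul r.2.2.1 (cb (vword r.2.1))) r.2.2.2)) = true ∧
    rows.map (fun r => r.1) = [0, 1, 2, 5, 6, 10, 21, 22, 26, 42, 43] ∧
    ((List.range 64).all fun v => [0, 1, 2, 5, 6, 10, 21, 22, 26, 42, 43].contains (Fus.rep v)) = true ∧
    cb SpGen.alWord = Profile.SpCert.A0 := by decide +kernel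

/-- An element moves a code to another one. -/
theorem exists_conj (r : ℕ) (hr : r ∈ [0, 1, 2, 5, 6, 10, 21, 22, 26, 42, 43]) :
    ∃ t ∈ [0, 21, 15, 20, 26], IsConj (eb (vword t)) (eb (vword r)) := by
  obtain ⟨h1, h2, -⟩ := rows_facts
  rw [← h2, List.mem_map] at hr
  obtain ⟨row, hrow, rfl⟩ := hr
  have := List.all_eq_true.1 h1 row hrow
  simp only [Bool.and_eq_true, List.contains_iff_mem] at this
  obtain ⟨⟨⟨ht, hok⟩, hinv⟩, he⟩ := this
  refine ⟨row.2.1, ht, isConj_iff.2 ⟨ofCode row.2.2.1 row.2.2.2, code_inj ?_⟩⟩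
  rw [code_mul, code_mul, code_ofCode hok, code_inv_ofCode hok (Nat.eq_of_beq_eq_true hinv), code_eb, code_eb]
  exact (Nat.eq_of_beq_eq_true he).symm

/-! ### The class function -/

/-- Every vector is orthogonal to its image. -/
def IsAlt (a : Sp) : Prop := ∀ v : Fin 64, Profile.SpBits.form v.val ((a : Perm (Fin 64)) v).val = false

instance : DecidablePred IsAlt := fun a =>
  inferInstanceAs (Decidable (∀ v : Fin 64, Profile.SpBits.form v.val ((a : Perm (Fin 64)) v).val = false))

theorem flag_iff {a : Sp} (ha : a * a = 1) :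
    (([1, 2, 4, 8, 16, 32] : List ℕ).all fun b =>
      Profile.SpBits.form b (app (Profile.SpBits.code a) b) == false) = true ↔ IsAlt a := by
  rw [List.all_eq_true]
  have hval : ∀ v : Fin 64, ((a : Perm (Fin 64)) v).val = val a v.val := fun v => (val_coe a v).symm
  constructor
  · intro h
    have key : ∀ x < 64, Profile.SpBits.form x (val a x) = false := by
      obtain ⟨hadd, hsymm⟩ := Profile.SpBits.form_facts
      have hadd' : ∀ u < 64, ∀ v < 64, ∀ w < 64, Profile.SpBits.form (u ^^^ v) w =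
          (Profile.SpBits.form u w != Profile.SpBits.form v w) :=
        fun u hu v hv w hw => hadd ⟨u, hu⟩ ⟨v, hv⟩ ⟨w, hw⟩
      have hsymm' : ∀ v < 64, ∀ w < 64, Profile.SpBits.form v w = Profile.SpBits.form w v :=
        fun v hv w hw => hsymm ⟨v, hv⟩ ⟨w, hw⟩
      have hswap : ∀ x < 64, ∀ y < 64,
          Profile.SpBits.form x (val a y) = Profile.SpBits.form y (val a x) := by
        intro x hx y hy
        have hp : Profile.SpBits.form (val a x) (val a (val a y)) = Profile.SpBits.form x (val a y) := by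
          rw [show val a x = val a ((⟨x, hx⟩ : Fin 64) : ℕ) from rfl,
            show val a (val a y) = val a ((⟨val a y, val_lt a y⟩ : Fin 64) : ℕ) from rfl, val_coe, val_coe]
          exact a.2.2 _ _
        have haa : val a (val a y) = y := by
          rw [show val a y = val a ((⟨y, hy⟩ : Fin 64) : ℕ) from rfl, val_coe, val_coe, ← Perm.mul_apply,
            ← Subgroup.coe_mul, ha]
          rfl
        rw [haa] at hp
        rw [← hp, hsymm' _ (val_lt a x) _ hy]
      refine Profile.SpBits.induction64 (p := fun x => Profile.SpBits.form x (val a x) = false) ?_ ?_ ?_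
      · rw [Profile.SpBits.val_zero]; rfl
      · intro b hb
        have hb64 : b < 64 := by fin_cases hb <;> norm_num
        have := h b hb
        rwa [beq_iff_eq, app_code a b hb64] at this
      · intro x hx y hy h1 h2
        have hxy : x ^^^ y < 64 := Nat.xor_lt_two_pow (n := 6) hx hy
        have hex : ∀ u < 64, Profile.SpBits.form u (val a (x ^^^ y)) =
            (Profile.SpBits.form u (val a x) != Profile.SpBits.form u (val a y)) := fun u hu => by
          rw [Profile.SpBits.val_xor a hx hy, hsymm' _ hu _ (Nat.xor_lt_two_pow (n := 6) (val_lt a x) (val_lt a y)),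
            hadd' _ (val_lt a x) _ (val_lt a y) _ hu, hsymm' _ (val_lt a x) _ hu, hsymm' _ (val_lt a y) _ hu]
        rw [hadd' _ hx _ hy _ (val_lt a _), hex x hx, hex y hy, h1, h2, hswap x hx y hy]
        cases Profile.SpBits.form y (val a x) <;> rfl
    intro v
    rw [hval]
    exact key v.val v.isLt
  · intro h b hb
    have hb64 : b < 64 := by fin_cases hb <;> norm_num
    rw [beq_iff_eq, app_code a b hb64, show val a b = val a ((⟨b, hb64⟩ : Fin 64) : ℕ) from rfl, val_coe]
    exact h ⟨b, hb64⟩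

theorem fixed_count (a : Sp) :
    ((List.range 64).filter fun v => decide (app (Profile.SpBits.code a) v = v)).length =
      (Finset.univ.filter fun v => (a : Perm (Fin 64)) v = v).card := by
  have hnd : ((List.range 64).filter fun v => decide (app (Profile.SpBits.code a) v = v)).Nodup :=
    List.nodup_range.filter _
  rw [← List.toFinset_card_of_nodup hnd]
  refine (Finset.card_bij (fun v _ => v.val) (fun v hv => ?_) (fun v _ w _ e => Fin.ext e) (fun x hx => ?_)).symm
  · simp only [Finset.mem_filter, Finset.mem_univ, true_and] at hv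
    simp only [List.mem_toFinset, List.mem_filter, List.mem_range, decide_eq_true_eq]
    exact ⟨v.isLt, by rw [app_code a _ v.isLt, val_coe, hv]⟩
  · simp only [List.mem_toFinset, List.mem_filter, List.mem_range, decide_eq_true_eq] at hx
    refine ⟨⟨x, hx.1⟩, ?_, rfl⟩
    simp only [Finset.mem_filter, Finset.mem_univ, true_and]
    apply Fin.ext
    rw [← val_coe, ← app_code a _ hx.1]
    exact hx.2

theorem isAlt_conj {a p : Sp} (h : IsAlt a) : IsAlt (p * a * p⁻¹) := by
  intro v
  have e : ∀ x, (p : Perm (Fin 64)) ((p : Perm (Fin 64))⁻¹ x) = x := (p : Perm (Fin 64)).apply_symm_apply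
  show Profile.SpBits.form v.val ((p : Perm (Fin 64)) ((a : Perm (Fin 64)) ((p : Perm (Fin 64))⁻¹ v))).val = false
  conv_lhs => arg 1; rw [← e v]
  rw [p.2.2]
  exact h _

/-- The class function is invariant. -/
theorem cls_conj {a b : Sp} (ha : a * a = 1) (h : IsConj a b) :
    Profile.SpBits.cls (Profile.SpBits.code a) = Profile.SpBits.cls (Profile.SpBits.code b) := by
  obtain ⟨p, rfl⟩ := isConj_iff.1 h
  have hb : p * a * p⁻¹ * (p * a * p⁻¹) = 1 := by
    rw [show p * a * p⁻¹ * (p * a * p⁻¹) = p * (a * a) * p⁻¹ by group, ha, mul_one, mul_inv_cancel]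
  have hfix : (Finset.univ.filter fun v => ((p * a * p⁻¹ : Sp) : Perm (Fin 64)) v = v) =
      (Finset.univ.filter fun v => (a : Perm (Fin 64)) v = v).map (p : Perm (Fin 64)).toEmbedding := by
    ext v
    simp only [Finset.mem_map_equiv, Finset.mem_filter, Finset.mem_univ, true_and]
    show (p : Perm (Fin 64)) ((a : Perm (Fin 64)) ((p : Perm (Fin 64)).symm v)) = v ↔ _
    rw [Equiv.eq_symm_apply]
  have hflag : IsAlt (p * a * p⁻¹) ↔ IsAlt a := by
    refine ⟨fun h => ?_, isAlt_conj⟩
    have := isAlt_conj (p := p⁻¹) h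
    rwa [show p⁻¹ * (p * a * p⁻¹) * p⁻¹⁻¹ = a by group] at this
  unfold Profile.SpBits.cls
  rw [fixed_count, fixed_count, hfix, Finset.card_map]
  congr 1
  simp only [flag_iff ha, flag_iff hb, hflag]

end CfsgLib.Recog.CentTwelve.SpHom
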