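import Cfsg.Agent.Lib.Recog.CentTwelve.Fusion

/-!
Six reflections generating `C12` as a Weyl group of type `D6`, and the finite facts on reflections of `C12`
used to find the seventh.
-/

set_option autoImplicit false
set_option maxRecDepth 20000
set_option maxHeartbeats 1000000

namespace CfsgLib.Recog.CentTwelve.SpGen

open Equiv Subgroup
open CfsgLib.Recog.CentTwelve.Code (code code_mul code_inj comp memB memB_iff cB cB_iff prods cprods search par dig)
open CfsgLib.Recog.CentTwelve.Fus (vec vc vcodes rep)

/-- The aligned interchange of the pairs `k` and `k + 1`, times `al`. -/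
def tA (k : ℕ) : P12 :=
  swap (Fin.ofNat 12 (2 * k)) (Fin.ofNat 12 (2 * k + 2)) *
    swap (Fin.ofNat 12 (2 * k + 1)) (Fin.ofNat 12 (2 * k + 3)) * al

/-- The crossed interchange of the pairs `k` and `k + 1`, times `al`. -/
def tX (k : ℕ) : P12 :=
  swap (Fin.ofNat 12 (2 * k)) (Fin.ofNat 12 (2 * k + 3)) *
    swap (Fin.ofNat 12 (2 * k + 1)) (Fin.ofNat 12 (2 * k + 2)) * al

/-- The six reflections, in the order of the nodes `0 1 2 3 4 6`. -/
def six : List P12 := [tA 4, tA 3, tA 2, tA 1, tX 0, tA 0]

/-- A product of the six reflections. -/
def w6 (w : List ℕ) : P12 := (w.map fun i => six.getD i 1).prod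

/-- The code of a product. -/
def c6w (w : List ℕ) : ℕ := w.foldr (fun i r => comp (([151369264997121, 188461172990721, 188606063256321, 188606629233921, 188606631448626,
   188606631444771] : List ℕ).getD i (code 1)) r) (code 1)

theorem six_codes : six.map code = [151369264997121, 188461172990721, 188606063256321, 188606629233921, 188606631448626,
   188606631444771] := by decide +kernel

/-- The codes of the reflections. -/
def kCodes : List ℕ :=
  [1689654731691, 18182329148346, 39073050110721, 55565724531201, 76456452104961, 92949127504641,
   113840981615361, 130333907690241, 151369264997121, 167926363923201, 188022515901321,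
   188086940410776, 188168544815361, 188232969328641, 188314578133761, 188379003626241,
   188461172990721, 188525849158401, 188604920177511, 188605171835766, 188605490620161,
   188605742282241, 188606063256321, 188606315897601, 188606626997061, 188606627980116,
   188606629233921, 188606630220801, 188606631444771, 188606631448626]

/-- The codes of the class of the vector `18`. -/
def sixCodes : List ℕ :=
  [1689655718571, 1689906393771, 1689907372971, 1754079244971, 1754080224171, 1754330899371,
   18182330135226, 18182580810426, 18182581789626, 18246753661626, 18246754640826, 18247005316026,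
   39073051093776, 39073301768976, 39073302752001, 39137474620176, 39137475603201, 39137726278401,
   55565725514256, 55565976189456, 55565977172481, 55630149040656, 55630150023681, 55630400698881,
   76456452108816, 76456703763216, 76456703767041, 76520876614416, 76520876618241, 76521128272641,
   92949127508496, 92949379162896, 92949379166721, 93013552014096, 93013552017921, 93013803672321,
   113840981619216, 113840982598416, 113840982602241, 113905406124816, 113905406128641,
   113905407107841, 130333907694096, 130333908673296, 130333908677121, 130398332199696,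
   130398332203521, 130398333182721, 151369265000976, 151369265980176, 151369265984001,
   151369516655376, 151369516659201, 151369517638401, 167926363927056, 167926364906256,
   167926364910081, 167926615581456, 167926615585281, 167926616564481, 188022516888201,
   188022767563401, 188022768542601, 188086941397656, 188087192072856, 188087193052056,
   188168545798416, 188168796473616, 188168797456641, 188232970311696, 188233220986896,
   188233221969921, 188314578137616, 188314829792016, 188314829795841, 188379003630096,
   188379255284496, 188379255288321, 188461172994576, 188461173973776, 188461173977601,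
   188525849162256, 188525850141456, 188525850145281, 188604921164391, 188605172822646,
   188605491603216, 188605743265296, 188606063260176, 188606315901456, 188606878659141,
   188606879642196, 188606880892176, 188606881879056, 188606884086051, 188606884089906,
   188669344690791, 188669345669991, 188669596349046, 188669597328246, 188669915129616,
   188669916112641, 188670166791696, 188670167774721, 188670487765776, 188670487769601,
   188670740407056, 188670740410881, 188671051510341, 188671052493396, 188671053743376,
   188671054730256, 188671056937251, 188671056941106, 188671303164741, 188671304147796,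
   188671305401601, 188671306388481, 188671307612451, 188671307616306, 204515190321801,
   204515191301001, 204515441976201, 204579614831256, 204579615810456, 204579866485656,
   204661219232016, 204661220215041, 204661470890241, 204725643745296, 204725644728321,
   204725895403521, 204807252550416, 204807252554241, 204807504208641, 204871678042896,
   204871678046721, 204871929701121, 204953847407376, 204953847411201, 204953848390401,
   205018523575056, 205018523578881, 205018524558081, 205097594597991, 205097595577191,
   205097846256246, 205097847235446, 205098165036816, 205098166019841, 205098416698896,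
   205098417681921, 205098737672976, 205098737676801, 205098990314256, 205098990318081,
   205099301417541, 205099302400596, 205099303650576, 205099304637456, 205099306844451,
   205099306848306, 205099553071941, 205099554054996, 205099555308801, 205099556295681,
   205099557519651, 205099557523506, 205162019103591, 205162270761846, 205162589546241,
   205162841208321, 205163162182401, 205163414823681, 205163725923141, 205163726906196,
   205163728160001, 205163729146881, 205163730370851, 205163730374706]

theorem t_facts : ((List.range 5).all fun k => memB (code (tA k)) kCodes && memB (code (tX k)) kCodes &&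
    decide (tA k ∈ C12) && decide (tX k ∈ C12) && decide (tA k ≠ al) && decide (tX k ≠ al) &&
    decide (tA k ≠ tX k) && decide (tA k * tX k = tX k * tA k)) = true := by decide +kernel

theorem closed_facts : (kCodes.all fun c => (six.map code).all fun g => memB (comp g (comp c g)) kCodes) = true ∧
    (sixCodes.all fun c => (six.map code).all fun g => memB (comp g (comp c g)) sixCodes) = true := by
  decide +kernel

theorem vector_facts : ((List.range 64).all fun v =>
      (Nat.testBit Fus.mSp v == (Nat.beq v 21 || memB (vc v) kCodes)) &&
      (!memB (vc v) sixCodes || Nat.beq (rep v) 6) && (!memB (vc v) kCodes || Nat.beq (rep v) 22)) = true ∧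
    rep 18 = 6 ∧ memB (vc 22) kCodes = true := by decide +kernel

theorem exactly_facts : (kCodes.all fun a => kCodes.all fun b => Nat.beq a b || !cB a b || kCodes.all fun c =>
    Nat.beq a c || Nat.beq b c || !cB a c || !cB b c || kCodes.all fun d =>
      cB a d || (cB b d != cB c d) || memB (comp (comp a b) c) sixCodes) = true := by decide +kernel

theorem braid_facts : (kCodes.all fun a => kCodes.all fun b => cB a b ||
    Nat.beq (comp (comp (comp a b) (comp a b)) (comp a b)) (code 1)) = true ∧
    (kCodes.all fun a => Nat.beq (comp a a) (code 1) && !Nat.beq a (code al) &&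
      kCodes.any fun d => !cB a d) = true := by decide +kernel

theorem relation_facts : ((List.range 6).all fun i => (List.range 6).all fun j =>
    let p := comp ((six.map code).getD i 0) ((six.map code).getD j 0)
    Nat.beq (bif Nat.beq i j then p else
      bif (Nat.beq (i + 1) j && Nat.ble j 4) || (Nat.beq (j + 1) i && Nat.ble i 4) ||
          (Nat.beq i 3 && Nat.beq j 5) || (Nat.beq j 3 && Nat.beq i 5)
        then comp (comp p p) p else comp p p) (code 1)) = true := by decide +kernel

/-- The flips turning the chosen reflections into the aligned ones. -/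
def flips (e1 e2 e3 e4 : Bool) : P12 :=
  (bif e1 then swap 4 5 else 1) * (bif xor e1 e2 then swap 6 7 else 1) *
    (bif xor (xor e1 e2) e3 then swap 8 9 else 1) * (bif xor (xor (xor e1 e2) e3) e4 then swap 10 11 else 1)

theorem flips_facts : ∀ e1 e2 e3 e4 : Bool,
    flips e1 e2 e3 e4 * flips e1 e2 e3 e4 = 1 ∧ flips e1 e2 e3 e4 * al = al * flips e1 e2 e3 e4 ∧
      flips e1 e2 e3 e4 * tA 0 * flips e1 e2 e3 e4 = tA 0 ∧
      flips e1 e2 e3 e4 * tA 1 * flips e1 e2 e3 e4 = (bif e1 then tX 1 else tA 1) ∧
      flips e1 e2 e3 e4 * tA 2 * flips e1 e2 e3 e4 = (bif e2 then tX 2 else tA 2) ∧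
      flips e1 e2 e3 e4 * tA 3 * flips e1 e2 e3 e4 = (bif e3 then tX 3 else tA 3) ∧
      flips e1 e2 e3 e4 * tA 4 * flips e1 e2 e3 e4 = (bif e4 then tX 4 else tA 4) := by decide +kernel

/-- Words carrying the products of the two reflections of a duad and `al` to the vector `20`. -/
def to20 : List (List ℕ) :=
  [[], [3, 4], [3, 4, 2, 3], [3, 4, 2, 3, 1, 2], [3, 4, 2, 3, 1, 2, 0, 1]]

theorem disjoint_facts :
    ([(0, 2), (0, 3), (0, 4), (4, 0), (4, 1), (4, 2), (2, 0)].all fun p : ℕ × ℕ =>
      [code (tA p.1), code (tX p.1)].all fun t => cB t (code (tA p.2)) && cB t (code (tX p.2)) &&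
        !Nat.beq t (code (tA p.2)) && !Nat.beq t (code (tX p.2))) = true ∧
    ((List.range 5).all fun k => Nat.beq (comp (c6w (to20.getD k [])) (code (al * tA k * tX k)))
      (comp (vc 20) (c6w (to20.getD k [])))) = true := by
  decide +kernel

/-- Words for the generators of the Sylow subgroup. -/
def s0Words : List (List ℕ) :=
  [[5, 4], [3, 4, 2, 3, 5, 1, 2, 3, 4, 0, 1, 2, 3, 5, 0, 1, 2, 3, 4, 0, 1, 2, 3, 0, 1, 2, 0, 1, 0],
   [3, 4, 2, 3, 5, 3, 4, 2, 3, 2],
   [5, 3, 4, 2, 3, 5, 1, 2, 3, 4, 0, 1, 2, 3, 5, 0, 1, 2, 3, 4, 0, 1, 2, 3, 1, 2, 0, 1, 0],
   [1, 2, 3, 4, 0, 1, 2, 3, 5, 3, 4, 2, 3, 1, 2, 0, 1, 0],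
   [5, 3, 4, 2, 3, 5, 1, 2, 3, 4, 0, 1, 2, 3, 5, 0, 1, 2, 3, 4, 0, 1, 2, 3, 0, 1, 2, 0, 1],
   [3, 5, 4, 3], [3, 4, 1, 2, 3, 5, 3, 4, 2, 3, 2, 1], [3, 5, 2, 3]]

theorem s0Words_facts : (s0Factors.map fun l => l.map code) = s0Words.map (fun w => [code 1, c6w w]) := by
  decide +kernel

/-- Words moving any two pairs to the last two. -/
def lastWords : List (List ℕ) :=
  [[], [1], [1, 0], [1, 2], [1, 2, 0], [1, 2, 3], [1, 2, 3, 0], [1, 2, 0, 1], [1, 2, 3, 4],
   [1, 2, 3, 4, 0], [1, 2, 3, 0, 1], [1, 2, 3, 4, 0, 1], [1, 2, 3, 0, 1, 2], [1, 2, 3, 4, 0, 1, 2],
   [1, 2, 3, 4, 0, 1, 2, 3]]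

theorem lastWords_facts : ((List.range 12).all fun p => (List.range 12).all fun q => Nat.beq (p / 2) (q / 2) ||
    lastWords.any fun w => Nat.ble 8 (dig (c6w w) p) && Nat.ble 8 (dig (c6w w) q)) = true := by decide +kernel

/-- The code preserves the last block and the partition in three blocks. -/
def blocksB (c : ℕ) : Bool :=
  (List.range 12).all (fun i => Nat.beq (dig c i / 4) (dig c (4 * (i / 4)) / 4)) &&
    !Nat.beq (dig c 0 / 4) (dig c 4 / 4) && Nat.beq (dig c 8 / 4) 2 && !Nat.beq (dig c 0 / 4) 2 &&
      !Nat.beq (dig c 4 / 4) 2

/-- The codes of three words covering the classes of block partitions. -/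
def uCodes : List ℕ := [205163983024656, 188606629233921, 205162844410896]

theorem uCodes_facts : [[], [3], [3, 2]].map c6w = uCodes := by decide +kernel

/-- The test of the search. -/
def keepB (c : ℕ) : Bool := uCodes.any fun u => blocksB (comp u c)

theorem keep_facts : Code.search keepB 6 0 0 = true := by decide +kernel

/-- The word for `al`. -/
def alWord : List ℕ := [5, 3, 4, 2, 3, 5, 1, 2, 3, 4, 0, 1, 2, 3, 5, 0, 1, 2, 3, 4, 0, 1, 2, 3, 0, 1, 2, 0, 1, 0]

theorem alWord_facts : c6w alWord = code al := by decide +kernel

end CfsgLib.Recog.CentTwelve.SpGen
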