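import Cfsg.Agent.Lib.Recog.CentTwelve.SpData

/-!
In the symplectic pattern: a seventh reflection, outside `C(α)`, attached to the six which generate the
centraliser. The input `Sep` says that the products of three commuting reflections on a line and off a line are
not fused.
-/

set_option autoImplicit false
set_option maxRecDepth 20000
set_option maxHeartbeats 1000000

namespace CfsgLib.Recog.CentTwelve.SpGen

open Equiv Subgroup
open CfsgLib.Recog.CentTwelve.Code (code code_mul code_inj comp memB memB_iff cB cB_iff dig)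
open CfsgLib.Recog.CentTwelve.Fus (vec vc rep)

attribute [local irreducible] code comp vc vec c6w keepB blocksB

/-- A code in the list of reflections. -/
def InK (a : P12) : Prop := code a ∈ kCodes

theorem list_all {β : Type*} {l : List β} {f : β → Bool} (h : l.all f = true) {x : β} (hx : x ∈ l) :
    f x = true :=
  List.all_eq_true.1 h x hx

theorem six_mem : ∀ i, six.getD i 1 ∈ C12 := by
  have h : ∀ i : Fin 7, six.getD i.val 1 ∈ C12 := by decide +kernel
  intro i
  by_cases hi : i < 7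
  · exact h ⟨i, hi⟩
  · rw [List.getD_eq_getElem?_getD, List.getElem?_eq_none (by simp [six]; omega)]
    exact one_mem _

theorem w6_nil : w6 [] = 1 := rfl

theorem w6_cons (i : ℕ) (w : List ℕ) : w6 (i :: w) = six.getD i 1 * w6 w := by
  simp [w6]

theorem w6_mem : ∀ w, w6 w ∈ C12
  | [] => one_mem _
  | i :: w => by rw [w6_cons]; exact mul_mem (six_mem i) (w6_mem w)

theorem code_six (i : ℕ) : code (six.getD i 1) = (six.map code).getD i (code 1) := by
  rw [List.getD_eq_getElem?_getD, List.getD_eq_getElem?_getD, List.getElem?_map]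
  cases six[i]? <;> rfl

theorem code_w6 : ∀ w, code (w6 w) = c6w w
  | [] => by unfold c6w; rfl
  | i :: w => by
    rw [w6_cons, code_mul, code_w6 w, code_six, six_codes]
    unfold c6w
    rfl

theorem mem_S0_of_blocks {p : P12} (hp : p ∈ C12) (h : blocksB (code p) = true) : p ∈ S0 := by
  simp only [blocksB, Bool.and_eq_true, List.all_eq_true, List.mem_range, Bool.not_eq_true'] at h
  obtain ⟨⟨⟨⟨hall, h01⟩, h2⟩, h02⟩, h12⟩ := h
  have hq : ∀ i : Fin 12, (p i).val / 4 = (p (Fin.ofNat 12 (4 * (i.val / 4)))).val / 4 := fun i => by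
    have := Nat.eq_of_beq_eq_true (hall i.val i.isLt)
    rw [Code.dig_code p i] at this
    rw [this, ← Code.dig_code p (Fin.ofNat 12 (4 * (i.val / 4))), Fin.val_ofNat,
      Nat.mod_eq_of_lt (by omega : 4 * (i.val / 4) < 12)]
  have hn : ∀ a b : ℕ, Nat.beq a b = false → a ≠ b := fun a b h e => by
    rw [e, Nat.beq_refl] at h; exact Bool.noConfusion h
  have v0 : (p 0).val / 4 ≠ (p 4).val / 4 := by
    rw [← Code.dig_code p 0, ← Code.dig_code p 4]; exact hn _ _ h01
  have v2 : (p 8).val / 4 = 2 := by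
    rw [← Code.dig_code p 8]; exact Nat.eq_of_beq_eq_true h2
  have v02 : (p 0).val / 4 ≠ 2 := by rw [← Code.dig_code p 0]; exact hn _ _ h02
  have v12 : (p 4).val / 4 ≠ 2 := by rw [← Code.dig_code p 4]; exact hn _ _ h12
  have hblk : ∀ i : Fin 12, (i.val / 4 = 0 → (p i).val / 4 = (p 0).val / 4) ∧
      (i.val / 4 = 1 → (p i).val / 4 = (p 4).val / 4) ∧ (i.val / 4 = 2 → (p i).val / 4 = (p 8).val / 4) :=
    fun i => ⟨fun e => by rw [hq i, e]; rfl, fun e => by rw [hq i, e]; rfl, fun e => by rw [hq i, e]; rfl⟩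
  refine ⟨hp, fun i => ?_, fun i j => ?_⟩
  · obtain ⟨a0, a1, a2⟩ := hblk i
    have := (p i).isLt
    have := (p 0).isLt
    have := (p 4).isLt
    omega
  · obtain ⟨a0, a1, a2⟩ := hblk i
    obtain ⟨b0, b1, b2⟩ := hblk j
    omega

/-- The six reflections generate: a property which holds for `1` and is kept by them holds on `C12`. -/
theorem gen_induction {p : P12 → Prop} (h1 : p 1) (hm : ∀ i, ∀ a ∈ C12, p a → p (six.getD i 1 * a))
    {a : P12} (ha : a ∈ C12) : p a := by
  suffices h : ∀ a ∈ C12, ∃ w, w6 w = a by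
    obtain ⟨w, rfl⟩ := h a ha
    clear ha
    induction w with
    | nil => exact h1
    | cons i w ih => rw [w6_cons]; exact hm i _ (w6_mem w) ih
  have happ : ∀ u v, w6 (u ++ v) = w6 u * w6 v := fun u v => by simp [w6, List.prod_append]
  have hinv : ∀ u, (w6 u)⁻¹ = w6 u.reverse := by
    have hsq : ∀ i, six.getD i 1 * six.getD i 1 = 1 := by
      have h : ∀ i : Fin 7, six.getD i.val 1 * six.getD i.val 1 = 1 := by decide +kernel
      intro i
      by_cases hi : i < 7
      · exact h ⟨i, hi⟩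
      · rw [List.getD_eq_getElem?_getD, List.getElem?_eq_none (by simp [six]; omega)]
        exact mul_one 1
    intro u
    induction u with
    | nil => exact inv_one
    | cons i u ih =>
      rw [List.reverse_cons, happ, w6_cons, mul_inv_rev, ih, inv_eq_of_mul_eq_one_right (hsq i), w6_cons,
        w6_nil, mul_one]
  let H : Subgroup P12 :=
    { carrier := {a | ∃ w, w6 w = a}
      one_mem' := ⟨[], rfl⟩
      mul_mem' := by
        rintro _ _ ⟨u, rfl⟩ ⟨v, rfl⟩
        exact ⟨u ++ v, happ u v⟩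
      inv_mem' := by
        rintro _ ⟨u, rfl⟩
        exact ⟨u.reverse, (hinv u).symm⟩ }
  have hS : ∀ b ∈ S0, b ∈ H := by
    intro b hb
    refine Code.prods_mem H s0Factors (fun l hl c hc => ?_) b (mem_S0_iff.1 hb)
    have hmem : l.map code ∈ s0Factors.map (fun l => l.map code) := List.mem_map.2 ⟨l, hl, rfl⟩
    rw [s0Words_facts, List.mem_map] at hmem
    obtain ⟨w, -, hw⟩ := hmem
    have hc' : code c ∈ [code 1, c6w w] := hw ▸ List.mem_map.2 ⟨c, hc, rfl⟩
    simp only [List.mem_cons, List.not_mem_nil, or_false] at hc'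
    rcases hc' with e | e
    · rw [code_inj.1 e]; exact one_mem _
    · exact ⟨w, code_inj.1 ((code_w6 w).trans e.symm)⟩
  intro b hb
  have hbal : b * al = al * b := al_commute hb
  have h9 : b 9 = al (b 8) := by
    have := congrArg (fun p : P12 => p 8) hbal
    simpa [show al 8 = 9 by decide +kernel] using this
  have h11 : b 11 = al (b 10) := by
    have := congrArg (fun p : P12 => p 10) hbal
    simpa [show al 10 = 11 by decide +kernel] using this
  have hpair : (b 8).val / 2 ≠ (b 10).val / 2 := by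
    have key : ∀ x y : Fin 12, x.val / 2 = y.val / 2 → x = y ∨ al x = y := by decide +kernel
    intro e
    rcases key _ _ e with e' | e'
    · exact absurd (b.injective e') (by decide)
    · rw [← h9] at e'
      exact absurd (b.injective e') (by decide)
  have hlw := List.all_eq_true.1 (List.all_eq_true.1 lastWords_facts (b 8).val (List.mem_range.2 (b 8).isLt))
    (b 10).val (List.mem_range.2 (b 10).isLt)
  rw [Bool.or_eq_true] at hlw
  rcases hlw with e | e
  · exact absurd (Nat.eq_of_beq_eq_true e) hpair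
  obtain ⟨w, -, hw⟩ := List.any_eq_true.1 e
  rw [Bool.and_eq_true] at hw
  have hcm : w6 w * b ∈ C12 := mul_mem (w6_mem w) hb
  have hkeep : ∀ i : Fin 12, i.val < 8 ↔ ((w6 w * b) i).val < 8 := by
    have e8 : 8 ≤ ((w6 w * b) 8).val ∧ 8 ≤ ((w6 w * b) 10).val := by
      rw [Perm.mul_apply, Perm.mul_apply, ← Code.dig_code (w6 w) (b 8), ← Code.dig_code (w6 w) (b 10), code_w6]
      exact ⟨Nat.le_of_ble_eq_true hw.1, Nat.le_of_ble_eq_true hw.2⟩
    have e9 : ((w6 w * b) 9).val ≥ 8 ∧ ((w6 w * b) 11).val ≥ 8 := by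
      have hal8 : ∀ x : Fin 12, 8 ≤ x.val → 8 ≤ (al x).val := by decide +kernel
      have hc := al_commute hcm
      have e9' : (w6 w * b) 9 = al ((w6 w * b) 8) := by
        have := congrArg (fun p : P12 => p 8) hc
        simpa [show al 8 = 9 by decide +kernel] using this
      have e11' : (w6 w * b) 11 = al ((w6 w * b) 10) := by
        have := congrArg (fun p : P12 => p 10) hc
        simpa [show al 10 = 11 by decide +kernel] using this
      rw [e9', e11']
      exact ⟨hal8 _ e8.1, hal8 _ e8.2⟩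
    generalize w6 w * b = p at e8 e9
    have himg : ((Finset.univ : Finset (Fin 12)).filter fun i => 8 ≤ i.val).image p =
        (Finset.univ : Finset (Fin 12)).filter fun i => 8 ≤ i.val := by
      refine Finset.eq_of_subset_of_card_le (fun x hx => ?_) (by
        rw [Finset.card_image_of_injective _ p.injective])
      obtain ⟨i, hi, rfl⟩ := Finset.mem_image.1 hx
      simp only [Finset.mem_filter, Finset.mem_univ, true_and] at hi ⊢
      have key : ∀ i : Fin 12, 8 ≤ i.val → i = 8 ∨ i = 9 ∨ i = 10 ∨ i = 11 := by decide +kernel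
      have hi' : i = 8 ∨ i = 9 ∨ i = 10 ∨ i = 11 := key i hi
      rcases hi' with rfl | rfl | rfl | rfl
      exacts [e8.1, e9.1, e8.2, e9.2]
    intro i
    constructor
    · intro hi
      by_contra hge
      have : p i ∈ (Finset.univ : Finset (Fin 12)).filter fun i => 8 ≤ i.val := by simp; omega
      rw [← himg, Finset.mem_image] at this
      obtain ⟨j, hj, e⟩ := this
      simp at hj
      have := p.injective e
      omega
    · intro hi
      by_contra hge
      have : p i ∈ ((Finset.univ : Finset (Fin 12)).filter fun i => 8 ≤ i.val).image p :=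
        Finset.mem_image.2 ⟨i, by simp; omega, rfl⟩
      rw [himg] at this
      simp at this
      omega
  have hk := Code.search_sound keep_facts (w6 w * b) (al_commute hcm) hkeep
  unfold keepB at hk
  rw [← uCodes_facts, List.any_map] at hk
  obtain ⟨u, -, hu⟩ := List.any_eq_true.1 hk
  rw [Function.comp_apply, ← code_w6, ← code_mul] at hu
  have hS' : w6 u * (w6 w * b) ∈ S0 :=
    mem_S0_of_blocks (mul_mem (w6_mem u) hcm) hu
  have hbH : b ∈ H := by
    have h2 := hS _ hS'
    rw [H.mul_mem_cancel_left ⟨u, rfl⟩, H.mul_mem_cancel_left ⟨w, rfl⟩] at h2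
    exact h2
  exact hbH

theorem closed_conj {L : List ℕ} (hL : (L.all fun c => (six.map code).all fun g =>
    memB (comp g (comp c g)) L) = true) {a h : P12} (hh : h ∈ C12) (ha : code a ∈ L) :
    code (h * a * h⁻¹) ∈ L := by
  revert a
  refine gen_induction (p := fun h => ∀ {a : P12}, code a ∈ L → code (h * a * h⁻¹) ∈ L)
    (fun {a} ha => by simpa using ha) (fun i b _ ih a ha => ?_) hh
  ·
    have hsq : six.getD i 1 * six.getD i 1 = 1 ∧ (i < 6 ∨ six.getD i 1 = 1) := by
      by_cases hi : i < 6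
      · have h : ∀ i : Fin 6, six.getD i.val 1 * six.getD i.val 1 = 1 := by decide +kernel
        exact ⟨h ⟨i, hi⟩, Or.inl hi⟩
      · rw [List.getD_eq_getElem?_getD, List.getElem?_eq_none (by simp [six]; omega)]
        exact ⟨mul_one 1, Or.inr rfl⟩
    rcases hsq.2 with hi | he
    · have := list_all (list_all hL (ih ha)) (x := code (six.getD i 1)) (List.mem_map.2 ⟨_, by
        rw [List.getD_eq_getElem?_getD, List.getElem?_eq_getElem (by simpa [six] using hi)]
        exact List.getElem_mem _, rfl⟩)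
      rw [memB_iff, ← code_mul, ← code_mul] at this
      rw [show six.getD i 1 * b * a * (six.getD i 1 * b)⁻¹ =
        six.getD i 1 * (b * a * b⁻¹ * six.getD i 1) by
          rw [mul_inv_rev, inv_eq_of_mul_eq_one_right hsq.1]; group]
      exact this
    · rw [he, one_mul]
      exact ih ha

theorem t_spec {k : ℕ} (hk : k < 5) : InK (tA k) ∧ InK (tX k) ∧ tA k ∈ C12 ∧ tX k ∈ C12 ∧ tA k ≠ al ∧
    tX k ≠ al ∧ tA k ≠ tX k ∧ tA k * tX k = tX k * tA k := by
  have h := Fus.all_range t_facts hk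
  simp only [Bool.and_eq_true, decide_eq_true_eq, memB_iff] at h
  exact ⟨h.1.1.1.1.1.1.1, h.1.1.1.1.1.1.2, h.1.1.1.1.1.2, h.1.1.1.1.2, h.1.1.1.2, h.1.1.2, h.1.2, h.2⟩

theorem to20_spec {k : ℕ} (hk : k < 5) :
    ∃ h ∈ C12, h * (al * tA k * tX k) * h⁻¹ = vec 20 := by
  refine ⟨w6 (to20.getD k []), w6_mem _, mul_inv_eq_iff_eq_mul.2 (code_inj.1 ?_)⟩
  rw [code_mul, code_mul (vec 20), Fus.code_vec (by norm_num), code_w6]
  exact Nat.eq_of_beq_eq_true (Fus.all_range disjoint_facts.2 hk)

/-- Aligned and crossed reflections. -/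
theorem tt_comm {p q : ℕ} (hpq : (p, q) ∈ [(0, 2), (0, 3), (0, 4), (4, 0), (4, 1), (4, 2), (2, 0)]) {t : P12}
    (ht : t = tA p ∨ t = tX p) : t * tA q = tA q * t ∧ t * tX q = tX q * t ∧ t ≠ tA q ∧ t ≠ tX q := by
  have h := list_all (list_all disjoint_facts.1 hpq) (x := code t) (by
    rcases ht with rfl | rfl <;> simp)
  simp only [Bool.and_eq_true, Bool.not_eq_true', cB_iff] at h
  refine ⟨h.1.1.1, h.1.1.2, fun e => ?_, fun e => ?_⟩
  · have := h.1.2; rw [e, Nat.beq_refl] at this; exact Bool.noConfusion this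
  · have := h.2; rw [e, Nat.beq_refl] at this; exact Bool.noConfusion this

universe u

variable {G : Type u} [Group G] {α : G}

/-- The separation used. -/
def Sep (S : Setting α) : Prop := ¬ IsConj (S.f (vec 20)) (S.f (vec 18))

variable {S : Setting α}

theorem fus_iff (P : SpPat S) (hα : orderOf α = 2) {a : P12} (ha : a ∈ C12) (h2 : a * a = 1) :
    IsConj α (S.f a) ↔ a = al ∨ InK a := by
  classical
  by_cases h1 : a = 1
  · subst h1
    have hne : α ≠ 1 := fun e => by rw [e, orderOf_one] at hα; omega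
    constructor
    · intro h
      obtain ⟨g, hg⟩ := isConj_iff.1 h
      rw [S.f_one, conj_eq_one_iff] at hg
      exact absurd hg hne
    · intro h
      rcases h with h | h
      · exact absurd h (by decide +kernel)
      · have : ¬ code 1 ∈ kCodes := by decide +kernel
        exact absurd h this
  rw [P.fus a ha h2 h1]
  obtain ⟨h, hh, v, hv, e⟩ := Fus.exists_into_D ha h2
  have hc := al_commute hh
  have hQ : (a = al ∨ SpK a) ↔ Nat.testBit Fus.mSp v = true := by
    have h' := Fus.all_range Fus.pattern_facts hv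
    simp only [Bool.and_eq_true, beq_iff_eq] at h'
    rw [h'.1.1.2, decide_eq_true_eq, ← e]
    refine or_congr ?_ (Fus.spK_conj hc).symm
    rw [mul_inv_eq_iff_eq_mul, ← hc, mul_right_inj]
  rw [hQ]
  have hv' := Fus.all_range vector_facts.1 hv
  simp only [Bool.and_eq_true, beq_iff_eq] at hv'
  rw [hv'.1.1, Bool.or_eq_true, memB_iff]
  refine or_congr ⟨fun hb => ?_, fun ha' => ?_⟩ ⟨fun hb => ?_, fun ha' => ?_⟩
  · rw [Nat.eq_of_beq_eq_true hb, Fus.vec_mask.2.1, mul_inv_eq_iff_eq_mul, ← hc] at e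
    exact mul_left_cancel e
  · subst ha'
    rw [hc, mul_inv_cancel_right] at e
    rw [Fus.vec_inj hv (by norm_num) (e.symm.trans Fus.vec_mask.2.1.symm)]
    exact Nat.beq_refl 21
  · rw [← Fus.code_vec hv, ← e] at hb
    have := closed_conj closed_facts.1 (inv_mem hh) hb
    rwa [show h⁻¹ * (h * a * h⁻¹) * h⁻¹⁻¹ = a by group] at this
  · rw [← Fus.code_vec hv, ← e]
    exact closed_conj closed_facts.1 hh ha'

theorem inK_ne_al {a : P12} (h : InK a) : a ≠ al := by
  intro e
  have := list_all braid_facts.2 h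
  simp only [Bool.and_eq_true] at this
  rw [e, Nat.beq_refl] at this
  exact Bool.noConfusion this.1.2

theorem inK_sq {a : P12} (h : InK a) : a * a = 1 := by
  have := list_all braid_facts.2 h
  simp only [Bool.and_eq_true] at this
  exact code_inj.1 ((code_mul a a).trans (Nat.eq_of_beq_eq_true this.1.1))

theorem conj_commute_iff {a b g : G} :
    g * a * g⁻¹ * (g * b * g⁻¹) = g * b * g⁻¹ * (g * a * g⁻¹) ↔ a * b = b * a := by
  rw [show g * a * g⁻¹ * (g * b * g⁻¹) = g * (a * b) * g⁻¹ by group,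
    show g * b * g⁻¹ * (g * a * g⁻¹) = g * (b * a) * g⁻¹ by group]
  simp

/-- A conjugate of `α` commuting with `α` is `α` or a reflection. -/
theorem exists_inK (P : SpPat S) (hα : orderOf α = 2) {x : G} (hx : IsConj α x) (hc : x * α = α * x) :
    ∃ a ∈ C12, S.f a = x ∧ (a = al ∨ InK a) := by
  obtain ⟨a, ha, rfl⟩ := S.exists_of_commute hc
  have h2 : a * a = 1 := by
    refine (S.eq_one_iff (mul_mem ha ha)).1 ?_
    rw [S.mul _ ha _ ha]
    obtain ⟨g, hg⟩ := isConj_iff.1 hx
    rw [← hg, show g * α * g⁻¹ * (g * α * g⁻¹) = g * (α * α) * g⁻¹ by group,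
      ← pow_two, ← hα, pow_orderOf_eq_one, mul_one, mul_inv_cancel]
  exact ⟨a, ha, rfl, (fus_iff P hα ha h2).1 hx⟩

theorem isConj_t (P : SpPat S) (hα : orderOf α = 2) {t : P12} (ht : t ∈ C12) (hk : InK t) :
    IsConj α (S.f t) :=
  (fus_iff P hα ht (inK_sq hk)).2 (Or.inr hk)

/-- A reflection moved to `α` carries a commuting conjugate of `α`, other than itself, to a reflection. -/
theorem pull (P : SpPat S) (hα : orderOf α = 2) {t : P12} {g x : G} (hg : g * S.f t * g⁻¹ = α)
    (hx : IsConj α x) (hc : x * S.f t = S.f t * x) (hne : x ≠ S.f t) :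
    ∃ a ∈ C12, InK a ∧ S.f a = g * x * g⁻¹ := by
  obtain ⟨a, ha, e, h⟩ := exists_inK P hα (x := g * x * g⁻¹) (hx.trans (isConj_iff.2 ⟨g, rfl⟩))
    (by rw [← hg]; exact conj_commute_iff.2 hc)
  refine ⟨a, ha, h.resolve_left fun e' => hne ?_, e⟩
  rw [e', S.f_al, ← hg] at e
  simpa using e.symm

/-- An outside conjugate of `α` commuting with a reflection commutes with exactly one of the two reflections of
a duad disjoint from it. -/
theorem exactly_one (P : SpPat S) (hα : orderOf α = 2) (hsep : Sep S) {d : G} (hd : IsConj α d)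
    (hout : d * α ≠ α * d) {t : P12} {k p : ℕ} (hk : k < 5) (hp : p < 5)
    (hpk : (p, k) ∈ [(0, 2), (0, 3), (0, 4), (4, 0), (4, 1), (4, 2), (2, 0)]) (ht : t = tA p ∨ t = tX p)
    (hdt : d * S.f t = S.f t * d) :
    (d * S.f (tA k) = S.f (tA k) * d ∧ d * S.f (tX k) ≠ S.f (tX k) * d) ∨
      (d * S.f (tX k) = S.f (tX k) * d ∧ d * S.f (tA k) ≠ S.f (tA k) * d) := by
  classical
  obtain ⟨kA, kX, mA, mX, neA, neX, -, cAX⟩ := t_spec hk
  obtain ⟨hpA, hpX, hpm, hpm', -, -, -, -⟩ := t_spec hp
  have htm : t ∈ C12 ∧ InK t := by rcases ht with rfl | rfl <;> [exact ⟨hpm, hpA⟩; exact ⟨hpm', hpX⟩]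
  obtain ⟨c1, c2, n1, n2⟩ := tt_comm hpk ht
  obtain ⟨g, hg⟩ := isConj_iff.1 (isConj_t P hα htm.1 htm.2).symm
  have hne : ∀ u : P12, u ∈ C12 → t ≠ u → S.f u ≠ S.f t := fun u hu h e => h (S.inj _ htm.1 _ hu e.symm)
  obtain ⟨a, ha, ka, ea⟩ := pull P hα hg (x := α) (IsConj.refl α) ((S.commute_alpha htm.1).symm)
    (fun e => (inK_ne_al htm.2) (S.inj _ htm.1 _ al_mem (e.symm.trans S.f_al.symm)))
  obtain ⟨b, hb, kb, eb⟩ := pull P hα hg (isConj_t P hα mA kA) ((S.commute_iff mA htm.1).2 c1.symm)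
    (hne _ mA n1)
  obtain ⟨c, hc, kc, ec⟩ := pull P hα hg (isConj_t P hα mX kX) ((S.commute_iff mX htm.1).2 c2.symm)
    (hne _ mX n2)
  obtain ⟨e, he, ke, ee⟩ := pull P hα hg hd hdt (fun e => hout (by rw [e]; exact S.commute_alpha htm.1))
  have cm : ∀ {u v : P12} {x y : G}, u ∈ C12 → v ∈ C12 → S.f u = g * x * g⁻¹ → S.f v = g * y * g⁻¹ →
      (u * v = v * u ↔ x * y = y * x) := fun hu hv e1 e2 => by
    rw [← S.commute_iff hu hv, e1, e2, conj_commute_iff]
  have hab : a * b = b * a := (cm ha hb ea eb).2 (S.commute_alpha mA).symm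
  have hac : a * c = c * a := (cm ha hc ea ec).2 (S.commute_alpha mX).symm
  have hbc : b * c = c * b := (cm hb hc eb ec).2 ((S.commute_iff mA mX).2 cAX)
  have nab : a ≠ b := fun h => neA (S.inj _ mA _ al_mem (by
    rw [h, eb] at ea
    rw [S.f_al]
    simpa using ea))
  have nac : a ≠ c := fun h => neX (S.inj _ mX _ al_mem (by
    rw [h, ec] at ea
    rw [S.f_al]
    simpa using ea))
  have nbc : b ≠ c := fun h => (t_spec hk).2.2.2.2.2.2.1 (S.inj _ mA _ mX (by
    rw [h, ec] at eb
    simpa using eb.symm))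
  have had : ¬ a * e = e * a := fun h => hout ((cm ha he ea ee).1 h).symm
  have h1 := list_all (list_all exactly_facts ka) kb
  simp only [Bool.or_eq_true, Bool.not_eq_true'] at h1
  rcases h1 with (h1 | h1) | h1
  · exact absurd (code_inj.1 (Nat.eq_of_beq_eq_true h1)) nab
  · rw [cB_iff.2 hab] at h1
    exact absurd h1 Bool.noConfusion
  have h2 := list_all h1 kc
  simp only [Bool.or_eq_true, Bool.not_eq_true'] at h2
  rcases h2 with (((h2 | h2) | h2) | h2) | h2
  · exact absurd (code_inj.1 (Nat.eq_of_beq_eq_true h2)) nac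
  · exact absurd (code_inj.1 (Nat.eq_of_beq_eq_true h2)) nbc
  · rw [cB_iff.2 hac] at h2
    exact absurd h2 Bool.noConfusion
  · rw [cB_iff.2 hbc] at h2
    exact absurd h2 Bool.noConfusion
  have h3 := list_all h2 ke
  simp only [Bool.or_eq_true] at h3
  rcases h3 with (h3 | h3) | h3
  · exact absurd (cB_iff.1 h3) had
  · rw [bne_iff_ne, ne_eq, Bool.eq_iff_iff, cB_iff, cB_iff, cm hb he eb ee, cm hc he ec ee] at h3
    by_cases hA : d * S.f (tA k) = S.f (tA k) * d
    · exact Or.inl ⟨hA, fun hX => h3 ⟨fun _ => hX.symm, fun _ => hA.symm⟩⟩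
    · refine Or.inr ⟨?_, hA⟩
      by_contra hX
      exact h3 ⟨fun h => absurd h.symm hA, fun h => absurd h.symm hX⟩
  · exfalso
    rw [memB_iff, ← code_mul, ← code_mul] at h3
    have habc : a * b * c ∈ C12 := mul_mem (mul_mem ha hb) hc
    have hsq : a * b * c * (a * b * c) = 1 := by
      have e1 : Commute (a * b) c := Commute.mul_left hac hbc
      have e2 : Commute a b := hab
      rw [← pow_two, e1.mul_pow, e2.mul_pow, pow_two, pow_two, pow_two, inK_sq ka, inK_sq kb, inK_sq kc,
        one_mul, one_mul]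
    obtain ⟨h, hh, v, hv, ev⟩ := Fus.exists_into_D habc hsq
    have hin : code (vec v) ∈ sixCodes := ev ▸ closed_conj closed_facts.2 hh h3
    rw [Fus.code_vec hv, ← memB_iff] at hin
    have hr := Fus.all_range vector_facts.1 hv
    simp only [Bool.and_eq_true, hin, Bool.not_true, Bool.false_or] at hr
    have hrep : rep v = 6 := Nat.eq_of_beq_eq_true hr.1.2
    have c18 := Fus.isConj_rep S (show (18 : ℕ) < 64 by norm_num)
    have cv := Fus.isConj_rep S hv
    rw [vector_facts.2.1] at c18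
    rw [hrep] at cv
    obtain ⟨u, hu, eu⟩ := to20_spec hk
    have hprod : al * tA k * tX k ∈ C12 := mul_mem (mul_mem al_mem mA) mX
    have c20 : IsConj (S.f (vec 20)) (S.f (a * b * c)) := by
      refine (S.isConj_f hprod hu eu).symm.trans (isConj_iff.2 ⟨g, ?_⟩)
      rw [S.mul _ (mul_mem ha hb) _ hc, S.mul _ ha _ hb, S.mul _ (mul_mem al_mem mA) _ mX,
        S.mul _ al_mem _ mA, ea, eb, ec, S.f_al]
      group
    exact hsep (c20.trans ((S.isConj_f habc hh ev).trans (cv.symm.trans c18)))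

/-- A reflection is not central: there is an outside conjugate of `α` commuting with a given one. -/
theorem exists_outside (P : SpPat S) (hα : orderOf α = 2) {t : P12} (ht : t ∈ C12) (hk : InK t) :
    ∃ d, IsConj α d ∧ d * α ≠ α * d ∧ d * S.f t = S.f t * d := by
  obtain ⟨g, hg⟩ := isConj_iff.1 (isConj_t P hα ht hk).symm
  obtain ⟨a, ha, ka, ea⟩ := pull P hα hg (x := α) (IsConj.refl α) (S.commute_alpha ht).symm
    (fun e => (inK_ne_al hk) (S.inj _ ht _ al_mem (e.symm.trans S.f_al.symm)))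
  have := list_all braid_facts.2 ka
  simp only [Bool.and_eq_true, List.any_eq_true, Bool.not_eq_true'] at this
  obtain ⟨c, hc, hnc⟩ := this.2
  obtain ⟨e, he, rfl⟩ : ∃ e ∈ C12, code e = c := by
    have hsub : ∀ c ∈ kCodes, ∃ v < 64, ∃ w ∈ movers, c = comp (comp (code w⁻¹) (vc v)) (code w) := by
      decide +kernel
    obtain ⟨v, hv, w, hw, rfl⟩ := hsub c hc
    have hwm : w ∈ C12 := of_decide_eq_true (list_all movers_facts.1 hw)
    exact ⟨w⁻¹ * vec v * w, mul_mem (mul_mem (inv_mem hwm) (Fus.vec_mem_C hv)) hwm, by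
      rw [code_mul, code_mul, Fus.code_vec hv]⟩
  refine ⟨g⁻¹ * S.f e * g, (isConj_t P hα he hc).trans (isConj_iff.2 ⟨g⁻¹, by group⟩), fun h => ?_, ?_⟩
  · refine Bool.noConfusion (hnc.symm.trans (cB_iff.2 ?_))
    refine ((S.commute_iff he ha).1 ?_).symm
    have h' := conj_commute_iff (g := g).2 h
    rw [show g * (g⁻¹ * S.f e * g) * g⁻¹ = S.f e by group, ← ea] at h'
    exact h'
  · refine conj_commute_iff (g := g).1 ?_
    rw [show g * (g⁻¹ * S.f e * g) * g⁻¹ = S.f e by group, hg]
    exact S.commute_alpha he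

/-- The numbering composed with a conjugation in the centraliser of `al`. -/
def conjS (S : Setting α) (h : P12) (h2 : h * h = 1) (hc : h * al = al * h) : Setting α :=
  have key : ∀ a ∈ C12, h * a * h ∈ C12 := fun a ha => by
    refine mem_C12.2 ⟨?_, ?_⟩
    · rw [map_mul, map_mul, (mem_C12.1 ha).1, mul_one, ← map_mul, h2, map_one]
    · rw [mul_assoc (h * a), hc, ← mul_assoc, mul_assoc h a, al_commute ha, ← mul_assoc, hc]
      group
  { f := fun a => S.f (h * a * h)
    mul := fun a ha b hb => by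
      rw [← S.mul _ (key a ha) _ (key b hb)]
      congr 1
      calc h * (a * b) * h = h * a * (h * h) * b * h := by rw [h2]; group
        _ = h * a * h * (h * b * h) := by group
    mem := fun a ha => S.mem _ (key a ha)
    surj := fun n hn => by
      obtain ⟨a, ha, e⟩ := S.surj n hn
      refine ⟨h * a * h, key a ha, ?_⟩
      rw [show h * (h * a * h) * h = (h * h) * a * (h * h) by group, h2, one_mul, mul_one, e]
    inj := fun a ha b hb e => by
      have := S.inj _ (key a ha) _ (key b hb) e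
      simpa using this
    f_al := by rw [hc, mul_assoc, h2, mul_one, S.f_al]
    sylow := S.sylow }

theorem conjS_pat (P : SpPat S) (h : P12) (h2 : h * h = 1) (hc : h * al = al * h) :
    SpPat (conjS S h h2 hc) := by
  refine ⟨fun a ha ha2 ha1 => ?_⟩
  have hinv : h⁻¹ = h := inv_eq_of_mul_eq_one_right h2
  have hm : h * a * h ∈ C12 := by
    refine mem_C12.2 ⟨?_, ?_⟩
    · rw [map_mul, map_mul, (mem_C12.1 ha).1, mul_one, ← map_mul, h2, map_one]
    · rw [mul_assoc (h * a), hc, ← mul_assoc, mul_assoc h a, al_commute ha, ← mul_assoc, hc]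
      group
  have hm2 : h * a * h * (h * a * h) = 1 := by
    rw [show h * a * h * (h * a * h) = h * a * (h * h) * a * h by group, h2, mul_one, mul_assoc h a a, ha2,
      mul_one, h2]
  have hm1 : h * a * h ≠ 1 := fun e => ha1 (by
    rw [show a = h⁻¹ * (h * a * h) * h⁻¹ by group, e, hinv, mul_one, h2])
  show IsConj α (S.f (h * a * h)) ↔ _
  rw [P.fus _ hm hm2 hm1]
  nth_rw 2 [← hinv]
  rw [show h * a * h = h * a * h⁻¹ by rw [hinv], mul_inv_eq_iff_eq_mul, ← hc, mul_right_inj,
    Fus.spK_conj hc]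

/-- The seven reflections. -/
theorem exists_seventh (P : SpPat S) (hα : orderOf α = 2)
    (hsep : ∀ S' : Setting α, SpPat S' → Sep S') :
    ∃ (S' : Setting α) (d : G), SpPat S' ∧ IsConj α d ∧ d * α ≠ α * d ∧
      (∀ k < 5, d * S'.f (tA k) = S'.f (tA k) * d) ∧ d * S'.f (tX 0) ≠ S'.f (tX 0) * d ∧
      (d * S'.f (tX 0)) ^ 3 = 1 := by
  classical
  have h0 := t_spec (show 0 < 5 by norm_num)
  obtain ⟨d, hd, hout, hd0⟩ := exists_outside P hα h0.2.2.1 h0.1
  have ex : ∀ {p k : ℕ} {t : P12}, k < 5 → p < 5 →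
      (p, k) ∈ [(0, 2), (0, 3), (0, 4), (4, 0), (4, 1), (4, 2), (2, 0)] → (t = tA p ∨ t = tX p) →
      d * S.f t = S.f t * d → ∃ c : Bool, d * S.f (bif c then tX k else tA k) = S.f (bif c then tX k else tA k) * d :=
    fun hk hp hpk ht hdt => by
      rcases exactly_one P hα (hsep S P) hd hout hk hp hpk ht hdt with ⟨h, -⟩ | ⟨h, -⟩
      · exact ⟨false, h⟩
      · exact ⟨true, h⟩
  obtain ⟨e2, h2⟩ := ex (k := 2) (p := 0) (by norm_num) (by norm_num) (by simp) (Or.inl rfl) hd0
  obtain ⟨e3, h3⟩ := ex (k := 3) (p := 0) (by norm_num) (by norm_num) (by simp) (Or.inl rfl) hd0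
  obtain ⟨e4, h4⟩ := ex (k := 4) (p := 0) (by norm_num) (by norm_num) (by simp) (Or.inl rfl) hd0
  obtain ⟨e1, h1⟩ := ex (k := 1) (p := 4) (t := bif e4 then tX 4 else tA 4) (by norm_num) (by norm_num)
    (by simp) (by cases e4 <;> simp) h4
  obtain ⟨f2, fc, f0, f1, f2', f3, f4⟩ := flips_facts e1 e2 e3 e4
  let S' := conjS S (flips e1 e2 e3 e4) f2 fc
  have P' : SpPat S' := conjS_pat P _ f2 fc
  have hcom : ∀ k < 5, d * S'.f (tA k) = S'.f (tA k) * d := by
    intro k hk
    show d * S.f (flips e1 e2 e3 e4 * tA k * flips e1 e2 e3 e4) = S.f (flips e1 e2 e3 e4 * tA k * flips e1 e2 e3 e4) * d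
    interval_cases k
    · rw [f0]; exact hd0
    · rw [f1]; exact h1
    · rw [f2']; exact h2
    · rw [f3]; exact h3
    · rw [f4]; exact h4
  have hnb : d * S'.f (tX 0) ≠ S'.f (tX 0) * d := by
    rcases exactly_one P' hα (hsep S' P') hd hout (k := 0) (p := 2) (by norm_num) (by norm_num) (by simp)
      (Or.inl rfl) (hcom 2 (by norm_num)) with ⟨-, h⟩ | ⟨-, h⟩
    · exact h
    · exact absurd (hcom 0 (by norm_num)) h
  refine ⟨S', d, P', hd, hout, hcom, hnb, ?_⟩
  have h4' := t_spec (show 4 < 5 by norm_num)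
  obtain ⟨g, hg⟩ := isConj_iff.1 (isConj_t P' hα h4'.2.2.1 h4'.1).symm
  obtain ⟨c1, c2, -, n2⟩ := tt_comm (p := 4) (q := 0) (by simp) (t := tA 4) (Or.inl rfl)
  obtain ⟨a, ha, ka, ea⟩ := pull P' hα hg hd (hcom 4 (by norm_num))
    (fun e => hout (by rw [e]; exact S'.commute_alpha h4'.2.2.1))
  obtain ⟨b, hb, kb, eb⟩ := pull P' hα hg (isConj_t P' hα h0.2.2.2.1 h0.2.1)
    ((S'.commute_iff h0.2.2.2.1 h4'.2.2.1).2 c2.symm)
    (fun e => n2 (S'.inj _ h4'.2.2.1 _ h0.2.2.2.1 e.symm))
  have hf := list_all (list_all braid_facts.1 ka) kb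
  rw [Bool.or_eq_true] at hf
  rcases hf with e | e
  · exact absurd (conj_commute_iff.1 (by rw [← ea, ← eb, S'.commute_iff ha hb]; exact cB_iff.1 e)) hnb
  · have e' : (a * b) ^ 3 = 1 := by
      refine code_inj.1 (Eq.trans ?_ (Nat.eq_of_beq_eq_true e))
      rw [pow_succ, pow_two, code_mul, code_mul, code_mul]
    have h' : S'.f ((a * b) ^ 3) = 1 := by rw [e', S'.f_one]
    rw [S'.f_pow (mul_mem ha hb), S'.mul _ ha _ hb, ea, eb,
      show g * d * g⁻¹ * (g * S'.f (tX 0) * g⁻¹) = g * (d * S'.f (tX 0)) * g⁻¹ by group, conj_pow,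
      conj_eq_one_iff] at h'
    exact h'

end CfsgLib.Recog.CentTwelve.SpGen
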