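import Cfsg.Agent.Lib.Recog.CentTwelve.Fusion

/-!
The classes of involutions in the symplectic pattern are separated inside `D12`.
-/

set_option autoImplicit false
set_option maxRecDepth 20000
set_option maxHeartbeats 1000000

namespace CfsgLib.Recog.CentTwelve.Fus

open Equiv Subgroup
open CfsgLib.Recog.CentTwelve.Code (code code_mul code_inj comp memB memB_iff cB cB_iff)

/-- The six vectors of the symplectic mask other than that of `al`. -/
def spSix : List ℕ := [22, 23, 25, 29, 37, 53]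

/-- The block where a vector of the mask differs from `al`. -/
def spBlock (a : ℕ) : ℕ := [0, 0, 1, 1, 2, 2].getD (spSix.idxOf a) 3

theorem spSix_facts : oList mSp = [21, 22, 23, 25, 29, 37, 53] ∧
    (∀ a ∈ spSix, a < 64 ∧ spBlock a < 3 ∧ ∀ i : Fin 12, vec a i ≠ al i ↔ i.val / 4 = spBlock a) ∧
    (∀ a ∈ spSix, ∀ b ∈ spSix, ∀ c ∈ spSix, a ≠ b → a ≠ c → b ≠ c →
      spBlock a = spBlock c → spBlock b = spBlock c → False) := by
  refine ⟨?_, ?_, ?_⟩ <;> decide +kernel

theorem sp_no_root : (s0Codes.all fun c => spSix.all fun a => spSix.all fun b =>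
    Nat.beq (spBlock a) (spBlock b) || !Nat.beq (comp c c) (vc (Nat.xor 21 (Nat.xor a b)))) = true := by
  decide +kernel

theorem sp_roots : (s0Codes.any fun c => Nat.beq (comp c c) (vc 20) && cB c (vc 22) && cB c (vc 23) && cB c (vc 21)) = true ∧
    (s0Codes.any fun c => Nat.beq (comp c c) (vc 17) && cB c (vc 25) && cB c (vc 29) && cB c (vc 21)) = true ∧
    Nat.xor 21 (Nat.xor 22 23) = 20 ∧ Nat.xor 21 (Nat.xor 25 29) = 17 := by
  decide +kernel

theorem sp_triples : ((oList mSp).all fun a => (oList mSp).all fun b => (oList mSp).all fun c =>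
    Nat.beq a b || Nat.beq a c || Nat.beq b c ||
      ((!Nat.beq (Nat.xor a (Nat.xor b c)) 26 || (memB 21 [a, b, c] && memB 22 [a, b, c] && memB 25 [a, b, c])) &&
      (!Nat.beq (Nat.xor a (Nat.xor b c)) 18 || (memB 22 [a, b, c] && memB 25 [a, b, c] && memB 29 [a, b, c])))) = true := by
  decide +kernel

theorem sp_triples_spec {a b c : ℕ} (ha : a ∈ oList mSp) (hb : b ∈ oList mSp) (hc : c ∈ oList mSp)
    (h1 : a ≠ b) (h2 : a ≠ c) (h3 : b ≠ c) :
    (Nat.xor a (Nat.xor b c) = 26 → 21 ∈ [a, b, c] ∧ 22 ∈ [a, b, c] ∧ 25 ∈ [a, b, c]) ∧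
    (Nat.xor a (Nat.xor b c) = 18 → 22 ∈ [a, b, c] ∧ 25 ∈ [a, b, c] ∧ 29 ∈ [a, b, c]) := by
  have h := List.all_eq_true.1 (List.all_eq_true.1 (List.all_eq_true.1 sp_triples a ha) b hb) c hc
  have n1 : Nat.beq a b = false := by cases e : Nat.beq a b <;> [rfl; exact absurd (Nat.eq_of_beq_eq_true e) h1]
  have n2 : Nat.beq a c = false := by cases e : Nat.beq a c <;> [rfl; exact absurd (Nat.eq_of_beq_eq_true e) h2]
  have n3 : Nat.beq b c = false := by cases e : Nat.beq b c <;> [rfl; exact absurd (Nat.eq_of_beq_eq_true e) h3]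
  simp only [n1, n2, n3, Bool.false_or, Bool.and_eq_true, Bool.or_eq_true, Bool.not_eq_true', memB_iff] at h
  refine ⟨fun e => ?_, fun e => ?_⟩
  · rcases h.1 with e' | e'
    · rw [e] at e'; exact absurd e' (by decide)
    · exact ⟨e'.1.1, e'.1.2, e'.2⟩
  · rcases h.2 with e' | e'
    · rw [e] at e'; exact absurd e' (by decide)
    · exact ⟨e'.1.1, e'.1.2, e'.2⟩

theorem sp_bits : Nat.testBit mSp 21 = true ∧ Nat.testBit mSp 15 = false ∧ Nat.testBit mSp 20 = false ∧
    Nat.testBit mSp 26 = false ∧ P mSp 15 ≠ P mSp 20 ∧ P mSp 15 ≠ P mSp 26 ∧ Nat.testBit mSp 0 = false := by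
  decide +kernel

attribute [local irreducible] code comp vc vec ga lin mSp P T s0Codes

universe u

variable {G : Type u} [Group G] {α : G} {S : Setting α}

/-- The mask of the symplectic pattern. -/
theorem sp_mask (P : SpPat S) : IsMask S mSp := by
  intro v hv
  have h := all_range pattern_facts hv
  simp only [Bool.and_eq_true, beq_iff_eq] at h
  by_cases h0 : vec v = 1
  · have hv0 : v = 0 := vec_inj hv (by norm_num) (h0.trans vec_mask.1.symm)
    subst hv0
    rw [h0, S.f_one, sp_bits.2.2.2.2.2.2]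
    refine ⟨fun e => absurd e (by simp), fun e => ?_⟩
    obtain ⟨g, hg⟩ := isConj_iff.1 e
    have hα : α = 1 := conj_eq_one_iff.1 hg
    rw [← S.f_al, S.eq_one_iff al_mem] at hα
    exact absurd hα (by decide +kernel)
  · rw [P.fus _ (vec_mem_C hv) (D12_sq (vec_mem hv)) h0, h.1.1.2, decide_eq_true_eq]

/-- A witness of a triple: a square root of its sum commuting with it. -/
def LRoot (S : Setting α) (l : List ℕ) (s : ℕ) (x : G) : Prop :=
  x * x = S.f (vec s) ∧ ∀ u ∈ l, x * S.f (vec u) = S.f (vec u) * x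

theorem LRoot.map {l : List ℕ} {s : ℕ} {x n : G} {π : ℕ → ℕ} (h : LRoot S l s x)
    (hπ : ∀ v < 64, π v < 64 ∧ n * S.f (vec v) * n⁻¹ = S.f (vec (π v))) (hs : s < 64)
    (hl : ∀ u ∈ l, u < 64) : LRoot S (l.map π) (π s) (n * x * n⁻¹) := by
  refine ⟨?_, ?_⟩
  · rw [← (hπ s hs).2, ← h.1]; group
  · intro u hu
    obtain ⟨w, hw, rfl⟩ := List.mem_map.1 hu
    rw [← (hπ w (hl w hw)).2]
    calc n * x * n⁻¹ * (n * S.f (vec w) * n⁻¹) = n * (x * S.f (vec w)) * n⁻¹ := by group
      _ = n * S.f (vec w) * n⁻¹ * (n * x * n⁻¹) := by rw [h.2 w hw]; group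

theorem exists_lroot {a b s : ℕ} (hs : s < 64) (ha : a < 64) (hb : b < 64)
    (h : (s0Codes.any fun c => Nat.beq (comp c c) (vc s) && cB c (vc a) && cB c (vc b) && cB c (vc 21)) = true) :
    ∃ x, LRoot S [21, a, b] s x := by
  obtain ⟨c, hc, hp⟩ := List.any_eq_true.1 h
  simp only [Bool.and_eq_true] at hp
  obtain ⟨⟨⟨h1, h2⟩, h3⟩, h4⟩ := hp
  have hcm : c ∈ s0List.map code := by
    rw [s0List, Code.map_code_prods]
    exact memB_iff.1 (List.all_eq_true.1 s0Codes_facts.2.1 c hc)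
  obtain ⟨r, hr, rfl⟩ := List.mem_map.1 hcm
  have hrC := (s0List_mem hr).1
  have hcom : ∀ v, v < 64 → cB (code r) (vc v) = true → S.f r * S.f (vec v) = S.f (vec v) * S.f r := by
    intro v hv e
    rw [← code_vec hv, cB_iff] at e
    exact (S.commute_iff hrC (vec_mem_C hv)).2 e
  refine ⟨S.f r, ?_, ?_⟩
  · have e : r * r = vec s := code_inj.1 (by rw [code_mul, code_vec hs]; exact Nat.eq_of_beq_eq_true h1)
    rw [← S.mul _ hrC _ hrC, e]
  · simp only [List.forall_mem_cons, List.not_mem_nil, false_implies, implies_true, and_true]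
    exact ⟨hcom 21 (by norm_num) h4, hcom a ha h2, hcom b hb h3⟩

/-- A root of a triple through `21` needs two vectors of one block. -/
theorem sp_same_block {l : List ℕ} {a b : ℕ} {x : G} (ha : a ∈ spSix) (hb : b ∈ spSix)
    (h : LRoot S l (Nat.xor 21 (Nat.xor a b)) x) (h21 : 21 ∈ l) (hal : a ∈ l) (hbl : b ∈ l) :
    spBlock a = spBlock b := by
  obtain ⟨-, hsix, -⟩ := spSix_facts
  obtain ⟨a64, a3, aset⟩ := hsix a ha
  obtain ⟨b64, b3, bset⟩ := hsix b hb
  by_contra hne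
  obtain ⟨hsq, hcom⟩ := h
  have hx : x * α = α * x := by
    rw [← S.f_al, ← vec_mask.2.1]
    exact hcom 21 h21
  obtain ⟨c, hc, rfl⟩ := S.exists_of_commute hx
  have s64 : Nat.xor 21 (Nat.xor a b) < 64 := xor_lt (by norm_num) (xor_lt a64 b64)
  have keep : ∀ v j, v < 64 → v ∈ l → (∀ i : Fin 12, vec v i ≠ al i ↔ i.val / 4 = j) →
      ∀ i : Fin 12, i.val / 4 = j ↔ (c i).val / 4 = j := by
    intro v j hv hvl hset i
    have e := (S.commute_iff hc (vec_mem_C hv)).1 (hcom v hvl)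
    have e1 : c (vec v i) = vec v (c i) := congrArg (fun p : P12 => p i) e
    have e2 : c (al i) = al (c i) := congrArg (fun p : P12 => p i) (al_commute hc)
    rw [← hset, ← hset, ← e1, ← e2]
    exact not_congr c.injective.eq_iff.symm
  have ka := keep a _ a64 hal aset
  have kb := keep b _ b64 hbl bset
  have hblk : ∀ i : Fin 12, (c i).val / 4 = i.val / 4 := by
    intro i
    have h1 := ka i
    have h2 := kb i
    have := i.isLt
    have := (c i).isLt
    omega
  have hS : c ∈ S0 := by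
    refine ⟨hc, fun i => ?_, fun i j => ?_⟩
    · have := hblk i; omega
    · rw [hblk i, hblk j]
  have := List.all_eq_true.1 (List.all_eq_true.1 (List.all_eq_true.1 sp_no_root _ (mem_S0_code hS)) a ha) b hb
  rw [Bool.or_eq_true] at this
  rcases this with e | e
  · exact hne (Nat.eq_of_beq_eq_true e)
  · have hcc : c * c = vec (Nat.xor 21 (Nat.xor a b)) :=
      S.inj _ (mul_mem hc hc) _ (vec_mem_C s64) (by rw [S.mul _ hc _ hc, hsq])
    rw [← code_mul, hcc, code_vec s64, Nat.beq_refl] at e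
    exact absurd e (by simp)

variable [Finite G] (Q : SpPat S)
include Q

/-- Conjugate vectors are related by an additive map keeping the mask. -/
theorem sp_action {v w : ℕ} (hv : v < 64) (hw : w < 64) (h : IsConj (S.f (vec v)) (S.f (vec w))) :
    ∃ n, ∃ π : ℕ → ℕ, (∀ u < 64, π u < 64 ∧ n * S.f (vec u) * n⁻¹ = S.f (vec (π u))) ∧ π v = w ∧
      (∀ u < 64, ∀ t < 64, π (Nat.xor u t) = Nat.xor (π u) (π t)) ∧
      (∀ u < 64, ∀ t < 64, π u = π t → u = t) ∧ (∀ u ∈ oList mSp, π u ∈ oList mSp) ∧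
      P mSp w = P mSp v ∧ Nat.testBit mSp w = Nat.testBit mSp v := by
  have hM := sp_mask Q
  obtain ⟨n, hn, e⟩ := burnside S (vec_mem hv) (vec_mem hw) h
  obtain ⟨π, hπ, -, hlin, hinj⟩ := exists_action S hn
  have hvw : π v = w := vec_inj (hπ v hv).1 hw
    (S.inj _ (vec_mem_C (hπ v hv).1) _ (vec_mem_C hw) ((hπ v hv).2.symm.trans e))
  refine ⟨n, π, hπ, hvw, hlin, hinj, fun u hu => ?_, hvw ▸ P_action hM hπ hlin hinj hv,
    hvw ▸ testBit_action hM hπ hv⟩
  obtain ⟨h1, h2⟩ := mem_oList.1 hu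
  exact mem_oList.2 ⟨(hπ u h1).1, by rw [testBit_action hM hπ h1, h2]⟩

/-- The images of the root of `20`. -/
theorem sp_root20 {w : ℕ} (hw : w < 64) (h : IsConj (S.f (vec 20)) (S.f (vec w))) :
    ∃ a ∈ oList mSp, ∃ b ∈ oList mSp, ∃ c ∈ oList mSp, a ≠ b ∧ a ≠ c ∧ b ≠ c ∧
      Nat.xor a (Nat.xor b c) = w ∧ ∃ x, LRoot S [a, b, c] w x := by
  obtain ⟨hO, -, -⟩ := spSix_facts
  obtain ⟨r20, -, e20, -⟩ := sp_roots
  obtain ⟨x, hx⟩ := exists_lroot (S := S) (by norm_num : 20 < 64) (by norm_num) (by norm_num) r20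
  obtain ⟨n, π, hπ, hvw, hlin, hinj, hO', -, -⟩ := sp_action Q (by norm_num : 20 < 64) hw h
  refine ⟨π 21, hO' _ (by rw [hO]; simp), π 22, hO' _ (by rw [hO]; simp), π 23, hO' _ (by rw [hO]; simp),
    fun e => absurd (hinj 21 (by norm_num) 22 (by norm_num) e) (by norm_num),
    fun e => absurd (hinj 21 (by norm_num) 23 (by norm_num) e) (by norm_num),
    fun e => absurd (hinj 22 (by norm_num) 23 (by norm_num) e) (by norm_num), ?_, n * x * n⁻¹, ?_⟩
  · rw [← hvw, ← e20, hlin _ (by norm_num) _ (xor_lt (by norm_num) (by norm_num)),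
      hlin _ (by norm_num) _ (by norm_num)]
  · rw [← hvw]
    exact hx.map hπ (by norm_num) (by simp)

/-- `20` is not fused with `26`. -/
theorem sp_twenty_ne : ¬ IsConj (S.f (vec 20)) (S.f (vec 26)) := by
  intro h
  obtain ⟨-, hsix, -⟩ := spSix_facts
  obtain ⟨a, ha, b, hb, c, hc, h1, h2, h3, he, x, hx⟩ := sp_root20 Q (by norm_num) h
  obtain ⟨m21, m22, m25⟩ := (sp_triples_spec ha hb hc h1 h2 h3).1 he
  rw [show (26 : ℕ) = Nat.xor 21 (Nat.xor 22 25) by decide] at hx
  have := sp_same_block (by simp [spSix]) (by simp [spSix]) hx m21 m22 m25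
  exact absurd this (by decide)

/-- `20` is not fused with `18`. -/
theorem sp_twenty_ne' : ¬ IsConj (S.f (vec 20)) (S.f (vec 18)) := by
  intro h
  obtain ⟨hO, hsix, hblk⟩ := spSix_facts
  obtain ⟨a, ha, b, hb, c, hc, h1, h2, h3, he, x, hx⟩ := sp_root20 Q (by norm_num) h
  obtain ⟨m22, m25, m29⟩ := (sp_triples_spec ha hb hc h1 h2 h3).2 he
  obtain ⟨-, r17, -, e17⟩ := sp_roots
  obtain ⟨y, hy⟩ := exists_lroot (S := S) (by norm_num : 17 < 64) (by norm_num) (by norm_num) r17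
  have hM := sp_mask Q
  have hc25 : IsConj (S.f (vec 25)) (S.f (vec 21)) := by
    have h25 := (hM 25 (by norm_num)).1 (mem_oList.1 (show 25 ∈ oList mSp by rw [hO]; simp)).2
    rw [vec_mask.2.1, S.f_al]
    exact h25.symm
  obtain ⟨m, τ, hτ, h25, hlin, hinj, hO', -, -⟩ := sp_action Q (by norm_num) (by norm_num) hc25
  have hmem : ∀ u ∈ [21, 22, 29], τ u ∈ spSix := by
    intro u hu
    have hu7 : u ∈ oList mSp ∧ u ≠ 25 ∧ u < 64 := by
      revert hu; revert u
      rw [hO]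
      decide
    have h := hO' u hu7.1
    rw [hO] at h
    rcases List.mem_cons.1 h with e | e
    · exact absurd (hinj u hu7.2.2 25 (by norm_num) (e.trans h25.symm)) hu7.2.1
    · exact e
  have u22 := hmem 22 (by simp)
  have u21 := hmem 21 (by simp)
  have u29 := hmem 29 (by simp)
  have hl64 : ∀ u ∈ [a, b, c], u < 64 := by
    simp only [List.forall_mem_cons, List.not_mem_nil, false_implies, implies_true, and_true]
    exact ⟨(mem_oList.1 ha).1, (mem_oList.1 hb).1, (mem_oList.1 hc).1⟩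
  have k1 : spBlock (τ 22) = spBlock (τ 29) := by
    have hm' := hx.map hτ (by norm_num) hl64
    rw [show τ 18 = Nat.xor 21 (Nat.xor (τ 22) (τ 29)) by
      refine Eq.trans ?_ (congrArg (fun z => Nat.xor z _) h25)
      show τ 18 = Nat.xor (τ 25) (Nat.xor (τ 22) (τ 29))
      rw [← hlin 22 (by norm_num) 29 (by norm_num),
        ← hlin 25 (by norm_num) _ (xor_lt (by norm_num) (by norm_num))]
      rfl] at hm'
    exact sp_same_block u22 u29 hm' (List.mem_map.2 ⟨25, m25, h25⟩) (List.mem_map.2 ⟨22, m22, rfl⟩)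
      (List.mem_map.2 ⟨29, m29, rfl⟩)
  have k2 : spBlock (τ 21) = spBlock (τ 29) := by
    have hm' := hy.map hτ (by norm_num) (by simp)
    rw [show τ 17 = Nat.xor 21 (Nat.xor (τ 21) (τ 29)) by
      refine Eq.trans ?_ (congrArg (fun z => Nat.xor z _) h25)
      show τ 17 = Nat.xor (τ 25) (Nat.xor (τ 21) (τ 29))
      rw [← hlin 21 (by norm_num) 29 (by norm_num),
        ← hlin 25 (by norm_num) _ (xor_lt (by norm_num) (by norm_num))]
      rfl] at hm'
    exact sp_same_block u21 u29 hm' (List.mem_map.2 ⟨25, by simp, h25⟩) (List.mem_map.2 ⟨21, by simp, rfl⟩)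
      (List.mem_map.2 ⟨29, by simp, rfl⟩)
  exact hblk _ u21 _ u22 _ u29 (fun e => absurd (hinj 21 (by norm_num) 22 (by norm_num) e) (by norm_num))
    (fun e => absurd (hinj 21 (by norm_num) 29 (by norm_num) e) (by norm_num))
    (fun e => absurd (hinj 22 (by norm_num) 29 (by norm_num) e) (by norm_num)) k2 k1

/-- The four classes of the symplectic pattern are different. -/
theorem sp_sep : ¬ IsConj (S.f al) (S.f (vec 15)) ∧ ¬ IsConj (S.f al) (S.f (vec 20)) ∧
    ¬ IsConj (S.f al) (S.f (vec 26)) ∧ ¬ IsConj (S.f (vec 15)) (S.f (vec 20)) ∧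
    ¬ IsConj (S.f (vec 15)) (S.f (vec 26)) ∧ ¬ IsConj (S.f (vec 20)) (S.f (vec 26)) := by
  obtain ⟨b21, b15, b20, b26, p1, p2, -⟩ := sp_bits
  have hal : ∀ w, w < 64 → Nat.testBit mSp w = false → ¬ IsConj (S.f al) (S.f (vec w)) := by
    intro w hw hb h
    rw [← vec_mask.2.1] at h
    obtain ⟨-, -, -, -, -, -, -, -, hbit⟩ := sp_action Q (by norm_num) hw h
    rw [hb, b21] at hbit
    exact Bool.false_ne_true hbit
  have h15 : ∀ w, w < 64 → P mSp 15 ≠ P mSp w → ¬ IsConj (S.f (vec 15)) (S.f (vec w)) := by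
    intro w hw hp h
    obtain ⟨-, -, -, -, -, -, -, hP, -⟩ := sp_action Q (by norm_num) hw h
    exact hp hP.symm
  exact ⟨hal 15 (by norm_num) b15, hal 20 (by norm_num) b20, hal 26 (by norm_num) b26,
    h15 20 (by norm_num) p1, h15 26 (by norm_num) p2, sp_twenty_ne Q⟩

end CfsgLib.Recog.CentTwelve.Fus
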