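import Cfsg.Agent.Lib.Recog.CentTwelve.SpClasses
import Cfsg.Agent.Lib.Recog.CentTwelve.SpGens
import Cfsg.Agent.Lib.Recog.CentTwelve.SpSep

/-!
The coded symplectic group inside a group with the symplectic pattern, from the seven reflections.
-/

set_option autoImplicit false
set_option maxRecDepth 100000
set_option maxHeartbeats 1000000

namespace CfsgLib.Recog.CentTwelve.SpHom

open Equiv Subgroup
open CfsgLib.Golay CfsgLib.Golay.E8Cox
open CfsgLib.Recog.Profile (okCode code_ofCode code_inv_ofCode)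
open CfsgLib.Recog.Profile.SpBits (Sp ofCode bmul enc app code_inj code_mul code_one)

/-- The seven transvections. -/
def b7 (i : Fin 7) : Sp := bgen i.val

/-- The code of a product of transvections. -/
def cl7 (w : List ℕ) : ℕ := w.foldr (fun i r => bmul (bcodes.getD i (enc id)) r) (enc id)

theorem code_prod7 : ∀ w : List ℕ, Profile.SpBits.code ((w.map bgen).prod) = cl7 w
  | [] => by rw [List.map_nil, List.prod_nil, cl7, List.foldr_nil, code_one]
  | i :: w => by
    rw [List.map_cons, List.prod_cons, code_mul, code_prod7 w, code_bgen, cl7, cl7, List.foldr_cons]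

/-- The code of a power. -/
def powC (x : ℕ) : ℕ → ℕ
  | 0 => enc id
  | n + 1 => bmul (powC x n) x

theorem code_pow (a : Sp) : ∀ n, Profile.SpBits.code (a ^ n) = powC (Profile.SpBits.code a) n
  | 0 => by rw [pow_zero]; exact code_one
  | n + 1 => by rw [pow_succ, code_mul, code_pow a n, powC]

theorem b7_facts : (∀ i j : Fin 7, powC (bmul (bcodes.getD i.val (enc id)) (bcodes.getD j.val (enc id)))
      (mE (e7 i) (e7 j)) = enc id) ∧ powC (cl7 [0, 1, 2, 3, 4, 5, 6]) 9 = enc id ∧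
    bcodes.getD 0 (enc id) ≠ enc id := by decide +kernel

theorem b7_rel (i j : Fin 7) : (b7 i * b7 j) ^ mE (e7 i) (e7 j) = 1 := by
  refine code_inj ?_
  rw [code_pow, code_mul, b7, b7, code_bgen, code_bgen, b7_facts.1 i j, code_one]

/-- The central element of the Weyl group. -/
def W7 : Wg e7 := ((List.finRange 7).map (sW e7)).prod ^ 9

theorem W7_coe : (W7 : Equiv.Perm Rt) = w7 := by
  rw [W7, w7, Subgroup.coe_pow, Subgroup.val_list_prod, List.map_map]
  rfl

theorem w7_facts : ∀ k : Fin 7, w7 * sP (e7 k) = sP (e7 k) * w7 := by decide +kernel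

theorem W7_comm (k : Fin 7) : W7 * sW e7 k = sW e7 k * W7 := Subtype.ext (by
  rw [Subgroup.coe_mul, Subgroup.coe_mul, W7_coe]
  exact w7_facts k)

theorem W7_sq_sgn {χ : Wg e7 →* ℤˣ} (hχ : ∀ i, χ (sW e7 i) = -1) : χ W7 = -1 := by
  rw [W7, map_pow, map_list_prod, List.map_map]
  rw [show (⇑χ ∘ sW e7) = fun _ => (-1 : ℤˣ) from funext hχ]
  decide +kernel

theorem simple_model : IsSimpleGroup Sp := by
  haveI : Fact (Nat.Prime 2) := ⟨Nat.prime_two⟩
  haveI := CfsgLib.Classical.isSimpleGroup_psp (F := ZMod 2) 3 (by norm_num) (fun h => absurd h (by norm_num))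
  obtain ⟨e⟩ := Profile.SpBits.sp_iso
  exact MulEquiv.isSimpleGroup e

/-- The Weyl group of type `E7` onto the coded group, and the maps killing the central element factor. -/
theorem exists_model : ∃ Φ : Wg e7 →* Sp, (∀ i, Φ (sW e7 i) = b7 i) ∧
    ∀ {H : Type*} [Group H] (Ψ : Wg e7 →* H), Ψ W7 = 1 → ∃ ψ : Sp →* H, ∀ u, ψ (Φ u) = Ψ u := by
  haveI : Fact (Nat.Prime 2) := ⟨Nat.prime_two⟩
  obtain ⟨Φ, hΦ⟩ := exists_hom e7 (Fin.succ_injective _) b7 b7_rel
  obtain ⟨χ, hχ⟩ := exists_sgn (e := e7) (Fin.succ_injective _)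
  have hW : Φ W7 = 1 := by
    refine code_inj ?_
    rw [W7, map_pow, map_list_prod, List.map_map, code_pow, code_one,
      show ((List.finRange 7).map (⇑Φ ∘ sW e7)) = ([0, 1, 2, 3, 4, 5, 6] : List ℕ).map bgen by
        rw [show (⇑Φ ∘ sW e7) = b7 from funext hΦ]
        rfl,
      code_prod7]
    exact b7_facts.2.1
  obtain ⟨π, hπs, hπi⟩ := exists_pi7
  obtain ⟨e0⟩ := Profile.SpBits.sp_iso
  let e : Wp e7 D7.o ≃* Sp := ((MulEquiv.ofBijective π ⟨hπi, hπs⟩).trans
    ((QuotientGroup.quotientMulEquivOfEq E8Cent.sp_center).trans QuotientGroup.quotientBot).symm).trans e0.symm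
  haveI := simple_model
  haveI : IsSimpleGroup (Wp e7 D7.o) := MulEquiv.isSimpleGroup e
  let θ : Wp e7 D7.o →* Sp := Φ.comp (Subgroup.inclusion (Wp_le e7 D7.o))
  have hmem : ∀ u : Wg e7, χ u = 1 → (u : Equiv.Perm Rt) ∈ Wp e7 D7.o := fun u => wp_of_sgn D7.o hχ
  have hθi : Function.Injective θ := by
    rw [← MonoidHom.ker_eq_bot_iff]
    refine (inferInstance : θ.ker.Normal).eq_bot_or_eq_top.resolve_right fun h => ?_
    have h0 : χ (W7 * sW e7 0) = 1 := by rw [map_mul, W7_sq_sgn hχ, hχ]; rfl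
    have : θ ⟨_, hmem _ h0⟩ = 1 := by
      rw [← MonoidHom.mem_ker, h]
      exact Subgroup.mem_top _
    have h' : Φ (W7 * sW e7 0) = 1 := this
    rw [map_mul, hW, one_mul, hΦ] at h'
    have := congrArg Profile.SpBits.code h'
    rw [b7, code_bgen, code_one] at this
    exact b7_facts.2.2 this
  have hθs : Function.Surjective θ := by
    haveI : Finite Sp := inferInstance
    have := Finite.surjective_of_injective (f := θ ∘ e.symm) (hθi.comp e.symm.injective)
    exact Function.Surjective.of_comp this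
  refine ⟨Φ, hΦ, fun {H} _ Ψ hΨ => ?_⟩
  let eθ := MulEquiv.ofBijective θ ⟨hθi, hθs⟩
  let ψ : Sp →* H := (Ψ.comp (Subgroup.inclusion (Wp_le e7 D7.o))).comp eθ.symm.toMonoidHom
  have key : ∀ u : Wg e7, χ u = 1 → ψ (Φ u) = Ψ u := fun u hu => by
    have e1 : eθ ⟨_, hmem u hu⟩ = Φ u := rfl
    show Ψ (Subgroup.inclusion (Wp_le e7 D7.o) (eθ.symm (Φ u))) = Ψ u
    rw [← e1, eθ.symm_apply_apply]
    rfl
  refine ⟨ψ, fun u => ?_⟩
  rcases Int.units_eq_one_or (χ u) with h | h
  · exact key u h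
  · have := key (W7 * u) (by rw [map_mul, W7_sq_sgn hχ, h]; rfl)
    rwa [map_mul, hW, one_mul, map_mul, hΨ, one_mul] at this

/-- The position among the six of a node. -/
def pos (k : Fin 7) : ℕ := [0, 1, 2, 3, 4, 6, 5].getD k.val 6

theorem pos_facts : (∀ k : Fin 7, k ≠ 5 → pos k < 6 ∧ node (pos k) = k.val) ∧
    (∀ i : Fin 6, (Fin.ofNat 7 (node i.val)) ≠ 5 ∧ pos (Fin.ofNat 7 (node i.val)) = i.val) := by
  decide +kernel

theorem six_rel : ∀ k l : Fin 7, k ≠ 5 → l ≠ 5 →
    (SpGen.six.getD (pos k) 1 * SpGen.six.getD (pos l) 1) ^ mE (e7 k) (e7 l) = 1 := by decide +kernel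

theorem mE_five : ∀ k : Fin 7, mE (e7 5) (e7 k) = (if k = 5 then 1 else if k = 4 then 3 else 2) ∧
    mE (e7 k) (e7 5) = mE (e7 5) (e7 k) := by decide +kernel

theorem six_at : SpGen.six.getD (pos 4) 1 = SpGen.tX 0 ∧
    ∀ k : Fin 7, k ≠ 5 → k ≠ 4 → ∃ j : Fin 5, SpGen.six.getD (pos k) 1 = SpGen.tA j.val := by decide +kernel

universe u

variable {G : Type u} [Group G] [Finite G] {α : G}

/-- The coded symplectic group in `G`. -/
theorem exists_embedding (hα : orderOf α = 2) {S : Setting α} (P : SpPat S) :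
    ∃ (S' : Setting α) (φ : Sp →* G), SpPat S' ∧ Function.Injective φ ∧
      φ (ofCode Profile.SpCert.A0 Profile.SpCert.A0) = α ∧
      (∀ a ∈ C12, S'.f a ∈ φ.range) ∧
      ∀ v ∈ [0, 1, 2, 5, 6, 10, 21, 22, 26, 42, 43, 15, 20], φ (eb (vword v)) = S'.f (Fus.vec v) := by
  obtain ⟨S', d, P', hd, hout, hcom, -, hbr⟩ :=
    SpGen.exists_seventh P hα fun S'' P'' => Fus.sp_twenty_ne' P''
  let f : Fin 7 → G := fun k => if k = 5 then d else S'.f (SpGen.six.getD (pos k) 1)
  have hd2 : d * d = 1 := by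
    obtain ⟨g, hg⟩ := isConj_iff.1 hd
    rw [← hg, show g * α * g⁻¹ * (g * α * g⁻¹) = g * (α * α) * g⁻¹ by group, ← pow_two, ← hα,
      pow_orderOf_eq_one, mul_one, mul_inv_cancel]
  have h5 : ∀ k : Fin 7, (d * f k) ^ mE (e7 5) (e7 k) = 1 := by
    intro k
    rw [(mE_five k).1]
    by_cases hk : k = 5
    · simp only [f, if_pos hk, pow_one, hd2]
    rw [if_neg hk]
    simp only [f, if_neg hk]
    by_cases h4 : k = 4
    · subst h4
      rw [if_pos rfl, six_at.1]
      exact hbr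
    rw [if_neg h4]
    obtain ⟨j, hj⟩ := six_at.2 k hk h4
    have hm : SpGen.six.getD (pos k) 1 ∈ C12 := SpGen.six_mem _
    have hs : SpGen.six.getD (pos k) 1 * SpGen.six.getD (pos k) 1 = 1 := by
      rw [hj]
      exact SpGen.inK_sq (SpGen.t_spec j.isLt).1
    rw [hj] at hm hs ⊢
    rw [(show Commute d (S'.f (SpGen.tA j.val)) from hcom _ j.isLt).mul_pow, pow_two, pow_two, hd2, one_mul,
      ← S'.mul _ hm _ hm, hs, S'.f_one]
  have hf : ∀ i j, (f i * f j) ^ mE (e7 i) (e7 j) = 1 := by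
    intro i j
    by_cases hi : i = 5
    · subst hi
      simpa [f] using h5 j
    by_cases hj : j = 5
    · subst hj
      rw [show f i * f 5 = d⁻¹ * (d * f i) * d⁻¹⁻¹ by simp [f], conj_pow, conj_eq_one_iff, (mE_five i).2]
      exact h5 i
    simp only [f, if_neg hi, if_neg hj]
    have hm := SpGen.six_mem (pos i)
    have hm' := SpGen.six_mem (pos j)
    rw [← S'.mul _ hm _ hm', ← S'.f_pow (mul_mem hm hm'), six_rel i j hi hj, S'.f_one]
  obtain ⟨Ψ, hΨ⟩ := exists_hom e7 (Fin.succ_injective _) f hf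
  obtain ⟨Φ, hΦ, hfac⟩ := exists_model
  have hword : ∀ w : List ℕ, (∀ i ∈ w, i < 6) →
      ∃ u : Wg e7, Ψ u = S'.f (SpGen.w6 w) ∧ Φ u = eb w := by
    intro w hw
    induction w with
    | nil => exact ⟨1, by rw [map_one, SpGen.w6_nil, S'.f_one], by rw [map_one]; rfl⟩
    | cons i w ih =>
      obtain ⟨u, h1, h2⟩ := ih fun j hj => hw j (List.mem_cons_of_mem _ hj)
      have hi := hw i (List.mem_cons_self ..)
      obtain ⟨hne, hpos⟩ := pos_facts.2 ⟨i, hi⟩
      refine ⟨sW e7 (Fin.ofNat 7 (node i)) * u, ?_, ?_⟩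
      · rw [map_mul, hΨ, h1, SpGen.w6_cons, S'.mul _ (SpGen.six_mem i) _ (SpGen.w6_mem w)]
        simp only [f, if_neg hne]
        rw [show pos (Fin.ofNat 7 (node i)) = i from hpos]
      · rw [map_mul, hΦ, h2]
        have hn : (Fin.ofNat 7 (node i)).val = node i := by
          have := pos_facts.1 _ hne
          rw [show pos (Fin.ofNat 7 (node i)) = i from hpos] at this
          exact this.2.symm
        rw [show eb (i :: w) = bgen (node i) * eb w by simp [eb], b7, hn]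
  have hgen : ∀ a ∈ C12, ∃ u : Wg e7, Ψ u = S'.f a := by
    intro a ha
    refine SpGen.gen_induction (p := fun a => ∃ u : Wg e7, Ψ u = S'.f a) ⟨1, by rw [map_one, S'.f_one]⟩
      (fun i b hb ⟨u, hu⟩ => ?_) ha
    by_cases hi : i < 6
    · obtain ⟨v, hv, -⟩ := hword [i] (by simp [hi])
      refine ⟨v * u, ?_⟩
      rw [map_mul, hv, hu, SpGen.w6_cons, SpGen.w6_nil, mul_one, ← S'.mul _ (SpGen.six_mem i) _ hb]
    · refine ⟨u, ?_⟩
      rw [hu, List.getD_eq_getElem?_getD, List.getElem?_eq_none (by simp [SpGen.six]; omega)]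
      rw [Option.getD_none, one_mul]
  have hal : SpGen.w6 SpGen.alWord = al := Code.code_inj.1 ((SpGen.code_w6 _).trans SpGen.alWord_facts)
  obtain ⟨uα, huα, huΦ⟩ := hword SpGen.alWord (by decide +kernel)
  rw [hal, S'.f_al] at huα
  have hcen : ∀ u : Wg e7, W7 * u = u * W7 := by
    rintro ⟨u, hu⟩
    induction hu using Subgroup.closure_induction with
    | mem a ha =>
      obtain ⟨k, rfl⟩ := ha
      exact W7_comm k
    | one => exact (mul_one W7).trans (one_mul W7).symm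
    | mul a b ha hb h1 h2 =>
      rw [show (⟨a * b, _⟩ : Wg e7) = ⟨a, ha⟩ * ⟨b, hb⟩ from rfl, ← mul_assoc, h1, mul_assoc, h2, ← mul_assoc]
    | inv a ha h1 =>
      rw [show (⟨a⁻¹, _⟩ : Wg e7) = (⟨a, ha⟩)⁻¹ from rfl]
      exact (Commute.inv_right (show Commute W7 ⟨a, ha⟩ from h1)).eq
  have hW : Ψ W7 = 1 := by
    have hcz : ∀ u, Ψ W7 * Ψ u = Ψ u * Ψ W7 := fun u => by rw [← map_mul, hcen, map_mul]
    obtain ⟨a, ha, hae⟩ := S'.exists_of_commute (n := Ψ W7) (by
      have := hcz uα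
      rwa [huα] at this)
    have hca : ∀ b ∈ C12, a * b = b * a := fun b hb => by
      refine (S'.commute_iff ha hb).1 ?_
      obtain ⟨u, hu⟩ := hgen b hb
      rw [hae, ← hu]
      exact hcz u
    rcases central_cases hca with rfl | rfl
    · rw [← hae, S'.f_one]
    · exfalso
      have := hcz (sW e7 5)
      rw [← hae, S'.f_al, hΨ] at this
      simp only [f, if_true] at this
      exact hout this.symm
  obtain ⟨φ, hφ⟩ := hfac Ψ hW
  have hA : φ (ofCode Profile.SpCert.A0 Profile.SpCert.A0) = α := by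
    rw [← huα, ← hφ, huΦ]
    refine congrArg φ (code_inj ?_)
    rw [code_eb, rows_facts.2.2.2, code_ofCode Profile.SpCert.L_facts.2.2.1]
  refine ⟨S', φ, P', ?_, hA, fun a ha => ?_, fun v hv => ?_⟩
  · haveI := simple_model
    rw [← MonoidHom.ker_eq_bot_iff]
    refine (inferInstance : φ.ker.Normal).eq_bot_or_eq_top.resolve_right fun h => ?_
    have : φ (ofCode Profile.SpCert.A0 Profile.SpCert.A0) = 1 := by
      rw [← MonoidHom.mem_ker, h]
      exact Subgroup.mem_top _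
    rw [hA] at this
    rw [this, orderOf_one] at hα
    omega
  · obtain ⟨u, hu⟩ := hgen a ha
    exact ⟨Φ u, (hφ u).trans hu⟩
  · have hlt : ∀ v ∈ [0, 1, 2, 5, 6, 10, 21, 22, 26, 42, 43, 15, 20], v < 64 ∧ ∀ i ∈ vword v, i < 6 := by
      decide +kernel
    obtain ⟨hv64, hw⟩ := hlt v hv
    obtain ⟨u, h1, h2⟩ := hword (vword v) hw
    have hvec : SpGen.w6 (vword v) = Fus.vec v := Code.code_inj.1 (by
      rw [SpGen.code_w6, Fus.code_vec hv64]
      exact Nat.eq_of_beq_eq_true (List.all_eq_true.1 vword_facts v hv))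
    rw [← h2, hφ, h1, hvec]

end CfsgLib.Recog.CentTwelve.SpHom
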